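import Cfsg.Agent.Lib.TensorForm.SympReduce

/-!
The stabiliser in `Ω` of a tensor product of two symplectic spaces is maximal.
-/

set_option autoImplicit false
set_option linter.unusedSectionVars false

namespace Cfsg.Agent.Lib.TensorForm

open Matrix QuadraticMap Cfsg.Agent.Lib Cfsg.Agent.Lib.TensorMax

variable {F : Type*} [Field F] [Finite F] {a b : ℕ}
  {f₁ : (Fin a → F) → (Fin a → F) → F} {f₂ : (Fin b → F) → (Fin b → F) → F}
  {Q : QuadraticForm F (Fin a × Fin b → F)}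

/-- A subgroup of `Ω` containing the transvections of both factors but not stabilising the decomposition is
the whole of `Ω`. -/
theorem omega_le_of_trans (O : OSetup f₁ f₂ Q)
    (hq : a = 2 → (2 : F) = 0 → ∃ ω : F, ω ≠ 0 ∧ ω ≠ 1) {M : Subgroup (GL (Fin a × Fin b) F)}
    (hMΩ : M ≤ Cfsg.Geo.omegaGL ⇑Q) (hKM : factorTrans f₁ f₂ Q ≤ M)
    (hM : ¬ M ≤ Cfsg.Geo.kroneckerSubgroup a b F) : Cfsg.Geo.omegaGL ⇑Q ≤ M := by
  classical
  have h1 := O.alt₁
  have h2 := O.alt₂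
  obtain ⟨x₀, c₀, hx₀, hc₀, hβ⟩ := exists_beta O hMΩ hKM hq hM
  have hfull : ∀ (y : Fin a → F) (r : Fin b → F), y ≠ 0 → r ≠ 0 →
      SingMax.Full Q M (ev (vecMulVec y r)) := fun y r hy hr =>
    full_of_beta O hMΩ hKM (fun y' r' hy' hr' => beta_all O hMΩ hKM hx₀ hc₀ hy' hr' hβ) hy hr
  obtain ⟨y, hy⟩ := h1.form.exists_partner hx₀
  obtain ⟨r, hr⟩ := h2.form.exists_partner hc₀
  have hy0 : y ≠ 0 := fun e => by rw [e, h1.form.zero_left] at hy; exact zero_ne_one hy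
  have hr0 : r ≠ 0 := fun e => by rw [e, h2.form.zero_left] at hr; exact zero_ne_one hr
  refine SingMax.omega_le_of_eichler O.nondeg O.seven_le fun e v he hv => ?_
  by_cases he0 : e = 0
  · subst he0
    convert M.one_mem
    refine SingMax.gl_ext' fun z => ?_
    rw [FormMax.OrthSL.eichlerGL_mulVec]; simp
  refine SingMax.full_all O.nondeg (hfull x₀ c₀ hx₀ hc₀) (hfull y r hy0 hr0) (O.pureQ _ _) (O.pureQ _ _)
    ?_ he he0 v he hv
  rw [O.polar_pure_pure, h2.swap r c₀, hr, h1.swap y x₀, hy]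
  norm_num

theorem isMaximalIn_tensorOmega (O : OSetup f₁ f₂ Q)
    (hq : a = 2 → (2 : F) = 0 → ∃ ω : F, ω ≠ 0 ∧ ω ≠ 1) :
    Cfsg.Geo.IsMaximalIn (Cfsg.Geo.omegaGL ⇑Q)
      (Cfsg.Geo.kroneckerSubgroup a b F ⊓ Cfsg.Geo.omegaGL ⇑Q) := by
  classical
  have h1 := O.alt₁
  have h2 := O.alt₂
  have S := O.setup (M := Cfsg.Geo.kroneckerSubgroup a b F ⊓ Cfsg.Geo.omegaGL ⇑Q) inf_le_right (factorTrans_le _ _ _)
  refine ⟨lt_of_le_of_ne inf_le_right fun heq => ?_, fun M hKM hMΩ => ?_⟩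
  · obtain ⟨x, hx⟩ : ∃ x : Fin a → F, x ≠ 0 :=
      ⟨Pi.single ⟨0, by have := O.two_le; omega⟩ 1, by simp⟩
    obtain ⟨c, -, hc0, -⟩ := S.iso_two ⊤ (by
      rw [finrank_top, Module.finrank_fin_fun]; have := O.five_le; omega)
    obtain ⟨d, -, hdc, hdnc⟩ := S.exists_orth_iso c hc0
    have hh : f₂ c d * f₁ x x = 0 := by rw [h1.self, mul_zero]
    have hk : O.el x c x d hh ∈ Cfsg.Geo.kroneckerSubgroup a b F :=
      (heq.ge (O.el_mem_omega x c x d hh)).1
    obtain ⟨G, hG⟩ := exists_right_mul (show 1 ≤ a by have := O.two_le; omega) hc0 hk (fun u => by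
      rw [O.op_el_pure, h2.self, h2.form.eq_zero_symm hdc, zero_mul, zero_smul, zero_smul, add_zero, sub_zero])
    obtain ⟨u, hu⟩ := h1.form.exists_partner hx
    obtain ⟨e₀, he₀⟩ := h2.form.exists_partner hc0
    have hxu : x ∉ F ∙ u := fun hmem => by
      obtain ⟨k, rfl⟩ := Submodule.mem_span_singleton.1 hmem
      rw [h1.smul_right, h1.self, mul_zero] at hu
      exact zero_ne_one hu
    obtain ⟨η, hη0, hη1⟩ := exists_sep hxu
    have h := congrArg (fun Z => η ᵥ* Z) ((hG (vecMulVec u e₀)).symm.trans (O.op_el_pure x c x d hh u e₀))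
    simp only [vecMulVec_mul, vecMul_sub, vecMul_add, vecMul_smul, vecMul_pure, he₀, hu, mul_one,
      (dotProduct_comm _ _).trans hη1,
      (dotProduct_comm _ _).trans (hη0 _ (Submodule.mem_span_singleton_self _)), zero_smul, zero_add,
      one_smul] at h
    exact hdnc (Submodule.mem_span_singleton.2 ⟨_, (sub_eq_zero.1 h.symm).symm⟩)
  by_cases hM : M ≤ Cfsg.Geo.kroneckerSubgroup a b F
  · exact Or.inl (le_antisymm (le_inf hM hMΩ) hKM)
  exact Or.inr (le_antisymm hMΩ (omega_le_of_trans O hq hMΩ ((factorTrans_le _ _ _).trans hKM) hM))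

/-- A linear change of coordinates carries `Ω` to `Ω`. -/
theorem map_omegaGL {ι κ : Type} [Fintype ι] [DecidableEq ι] [Fintype κ] [DecidableEq κ]
    {Q₁ : (ι → F) → F} {Q₂ : (κ → F) → F} (Φ : GL ι F ≃* GL κ F)
    (h : ∀ g, g ∈ Cfsg.isometryGroup F Q₁ ↔ Φ g ∈ Cfsg.isometryGroup F Q₂) :
    (Cfsg.Geo.omegaGL Q₁).map Φ.toMonoidHom = Cfsg.Geo.omegaGL Q₂ := by
  have e : ∀ {η : Type} [Fintype η] [DecidableEq η] (R : (η → F) → F),
      Cfsg.Geo.omegaGL R = ⁅Cfsg.isometryGroup F R, Cfsg.isometryGroup F R⁆ := fun R => by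
    rw [Cfsg.Geo.omegaGL, Cfsg.Omega, commutator_def, Subgroup.map_commutator, ← MonoidHom.range_eq_map,
      Subgroup.range_subtype]
  have hI : (Cfsg.isometryGroup F Q₁).map Φ.toMonoidHom = Cfsg.isometryGroup F Q₂ := by
    ext g
    refine ⟨?_, fun hg => ⟨Φ.symm g, ?_, Φ.apply_symm_apply g⟩⟩
    · rintro ⟨g, hg, rfl⟩
      exact (h g).1 hg
    · exact (h _).2 (by rwa [Φ.apply_symm_apply])
  rw [e, e, Subgroup.map_commutator, hI]

end Cfsg.Agent.Lib.TensorForm
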