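import Cfsg.Agent.Lib.TensorMax.Orbit

/-!
Tensor products of two reflexive sesquilinear forms, and subgroups of their isometries containing the
transvections of both factors.
-/

set_option autoImplicit false
set_option linter.unusedSectionVars false

namespace Cfsg.Agent.Lib.TensorForm

open Matrix Cfsg.Agent.Lib Cfsg.Agent.Lib.TensorMax

variable {F : Type*} [Field F] {a b : ℕ}

/-- A non-degenerate form, linear in the first variable, with `f w v = ε σ (f v w)`. -/
structure IsSForm {m : ℕ} (σ : F →+* F) (ε : F) (f : (Fin m → F) → (Fin m → F) → F) : Prop where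
  add_left : ∀ x y v, f (x + y) v = f x v + f y v
  smul_left : ∀ (c : F) (x v : Fin m → F), f (c • x) v = c * f x v
  symm : ∀ v w, f w v = ε * σ (f v w)
  nondeg : ∀ v, v ≠ 0 → ∃ w, f v w ≠ 0
  invol : ∀ s, σ (σ s) = s
  eps : ε * σ ε = 1

/-- The covector of `v ↦ f v c`. -/
def cov {m : ℕ} (f : (Fin m → F) → (Fin m → F) → F) (c : Fin m → F) : Fin m → F :=
  fun j => f (Pi.single j 1) c

namespace IsSForm

variable {m : ℕ} {σ : F →+* F} {ε : F} {f : (Fin m → F) → (Fin m → F) → F} (hf : IsSForm σ ε f)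
include hf

theorem zero_left (v : Fin m → F) : f 0 v = 0 := by
  rw [← zero_smul F (0 : Fin m → F), hf.smul_left, zero_mul]

theorem zero_right (v : Fin m → F) : f v 0 = 0 := by
  rw [hf.symm, hf.zero_left, map_zero, mul_zero]

theorem eq_zero_symm {v w : Fin m → F} (h : f v w = 0) : f w v = 0 := by
  rw [hf.symm, h, map_zero, mul_zero]

theorem add_right (x v w : Fin m → F) : f x (v + w) = f x v + f x w := by
  rw [hf.symm, hf.add_left, map_add, mul_add, ← hf.symm, ← hf.symm]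

theorem smul_right (c : F) (x v : Fin m → F) : f x (c • v) = σ c * f x v := by
  rw [hf.symm, hf.smul_left, map_mul, ← mul_assoc, mul_comm ε, mul_assoc, ← hf.symm]

theorem neg_left (x v : Fin m → F) : f (-x) v = -f x v := by
  rw [← neg_one_smul F x, hf.smul_left, neg_one_mul]

theorem sub_left (x y v : Fin m → F) : f (x - y) v = f x v - f y v := by
  rw [sub_eq_add_neg, hf.add_left, hf.neg_left, ← sub_eq_add_neg]

theorem sub_right (x v w : Fin m → F) : f x (v - w) = f x v - f x w := by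
  rw [sub_eq_add_neg, hf.add_right, ← neg_one_smul F w, hf.smul_right, map_neg, map_one, neg_one_mul,
    ← sub_eq_add_neg]

/-- Evaluation at a covector. -/
theorem dot_cov (e c : Fin m → F) : e ⬝ᵥ cov f c = f e c := by
  let L : (Fin m → F) →ₗ[F] F :=
    { toFun := fun v => f v c
      map_add' := fun x y => hf.add_left x y c
      map_smul' := fun s x => hf.smul_left s x c }
  show _ = L e
  conv_rhs => rw [pi_eq_sum_univ' e, map_sum]
  simp only [map_smul, smul_eq_mul, dotProduct]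
  rfl

theorem cov_ne_zero {c : Fin m → F} (hc : c ≠ 0) : cov f c ≠ 0 := by
  intro e
  obtain ⟨w, hw⟩ := hf.nondeg c hc
  refine hw (hf.eq_zero_symm ?_)
  rw [← hf.dot_cov, e, dotProduct_zero]

theorem cov_injective : Function.Injective (cov f) := by
  intro x y h
  by_contra hne
  obtain ⟨w, hw⟩ := hf.nondeg (x - y) (sub_ne_zero.2 hne)
  refine hw (hf.eq_zero_symm ?_)
  rw [hf.sub_right, ← hf.dot_cov, ← hf.dot_cov, h, sub_self]

theorem exists_cov [Finite F] (ψ : Fin m → F) : ∃ c, cov f c = ψ :=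
  (Finite.injective_iff_surjective (f := cov f)).1 hf.cov_injective ψ

theorem exists_partner {c : Fin m → F} (hc : c ≠ 0) : ∃ e, f e c = 1 := by
  obtain ⟨e, he⟩ := exists_dot_one (hf.cov_ne_zero hc)
  exact ⟨e, by rw [← hf.dot_cov, dotProduct_comm]; exact he⟩

theorem cov_smul (t : F) (c : Fin m → F) : cov f (t • c) = σ t • cov f c :=
  funext fun _ => hf.smul_right t _ c

theorem cov_add (c d : Fin m → F) : cov f (c + d) = cov f c + cov f d :=
  funext fun _ => hf.add_right _ c d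

theorem cov_sub (c d : Fin m → F) : cov f (c - d) = cov f c - cov f d :=
  funext fun _ => hf.sub_right _ c d

end IsSForm

/-- The data of a tensor product of two forms and of a group `M` of its isometries. -/
structure Setup (σ : F →+* F) (ε : F) (f₁ : (Fin a → F) → (Fin a → F) → F)
    (f₂ : (Fin b → F) → (Fin b → F) → F)
    (B : Matrix (Fin a) (Fin b) F → Matrix (Fin a) (Fin b) F → F)
    (M : Subgroup (GL (Fin a × Fin b) F)) : Prop where
  form₁ : IsSForm σ ε f₁
  form₂ : IsSForm σ ε f₂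
  add_left : ∀ X Y Z, B (X + Y) Z = B X Z + B Y Z
  smul_left : ∀ (c : F) X Z, B (c • X) Z = c * B X Z
  add_right : ∀ X Y Z, B X (Y + Z) = B X Y + B X Z
  flip : ∀ X Y, B X Y = 0 → B Y X = 0
  pure : ∀ X y c, B X (vecMulVec y c) = f₁ (X *ᵥ cov f₂ c) y
  iso : ∀ g ∈ M, ∀ X Y, B (op g X) (op g Y) = B X Y
  skew : ∃ l : F, l ≠ 0 ∧ ε * l + σ l = 0
  two_le : 2 ≤ a
  lt : a < b
  four_le : 4 ≤ b
  five_or_moved : 5 ≤ b ∨ ∃ t, σ t ≠ t
  iso_two : ∀ S : Submodule F (Fin b → F), 2 ≤ Module.finrank F S → ∃ v ∈ S, v ≠ 0 ∧ f₂ v v = 0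
  iso_add : ∀ u w, f₂ u u = 0 → f₂ w w = 0 → ∃ t : F, t ≠ 0 ∧ f₂ (u + t • w) (u + t • w) = 0
  iso_span : ∀ u, f₂ u u = 0 → ∀ e, f₂ e u = 0 →
    e ∈ Submodule.span F {z | f₂ z z = 0 ∧ f₂ z u = 0}
  iso_top : Submodule.span F {z : Fin b → F | f₂ z z = 0} = ⊤
  transB : ∀ (c : Fin b → F) (l : F), f₂ c c = 0 → ε * l + σ l = 0 →
    ∃ g ∈ M, g ∈ Cfsg.Geo.kroneckerSubgroup a b F ∧
      ∀ X, op g X = X + l • vecMulVec (X *ᵥ cov f₂ c) c
  transA : ∀ (x : Fin a → F) (l : F), f₁ x x = 0 → ε * l + σ l = 0 →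
    ∃ g ∈ M, g ∈ Cfsg.Geo.kroneckerSubgroup a b F ∧
      ∀ X, op g X = X + l • vecMulVec x (cov f₁ x ᵥ* X)

/-- The orthogonal of the pure space at `c`. -/
def cSp (a : ℕ) (f₂ : (Fin b → F) → (Fin b → F) → F) (c : Fin b → F) :
    Submodule F (Matrix (Fin a) (Fin b) F) :=
  LinearMap.ker (contr a (cov f₂ c))

theorem mem_cSp {f₂ : (Fin b → F) → (Fin b → F) → F} {c : Fin b → F} {X : Matrix (Fin a) (Fin b) F} :
    X ∈ cSp a f₂ c ↔ X *ᵥ cov f₂ c = 0 := Iff.rfl

/-- The radical at `c`. -/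
def InR (f₂ : (Fin b → F) → (Fin b → F) → F) (c : Fin b → F) (g : GL (Fin a × Fin b) F) : Prop :=
  (∀ x, op g (vecMulVec x c) = vecMulVec x c) ∧
    ∀ X, X *ᵥ cov f₂ c = 0 → op g X - X ∈ LinearMap.range (pl a c)

/-- Radical elements in `M` are Kronecker products. -/
def NoRad (f₂ : (Fin b → F) → (Fin b → F) → F) (M : Subgroup (GL (Fin a × Fin b) F)) : Prop :=
  ∀ c, c ≠ 0 → f₂ c c = 0 → ∀ g ∈ M, InR f₂ c g → g ∈ Cfsg.Geo.kroneckerSubgroup a b F

variable {σ : F →+* F} {ε : F} {f₁ : (Fin a → F) → (Fin a → F) → F}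
  {f₂ : (Fin b → F) → (Fin b → F) → F}
  {B : Matrix (Fin a) (Fin b) F → Matrix (Fin a) (Fin b) F → F}
  {M : Subgroup (GL (Fin a × Fin b) F)}

namespace Setup

variable (S : Setup σ ε f₁ f₂ B M)
include S

theorem zero_left (Z : Matrix (Fin a) (Fin b) F) : B 0 Z = 0 := by
  rw [← zero_smul F (0 : Matrix (Fin a) (Fin b) F), S.smul_left, zero_mul]

theorem zero_right (Z : Matrix (Fin a) (Fin b) F) : B Z 0 = 0 := S.flip _ _ (S.zero_left Z)

theorem sub_left (X Y Z : Matrix (Fin a) (Fin b) F) : B (X - Y) Z = B X Z - B Y Z := by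
  rw [sub_eq_add_neg, S.add_left, ← neg_one_smul F Y, S.smul_left]
  ring

theorem sub_right (X Y Z : Matrix (Fin a) (Fin b) F) : B X (Y - Z) = B X Y - B X Z := by
  have h := S.add_right X (Y - Z) Z
  rw [sub_add_cancel] at h
  rw [h, add_sub_cancel_right]

theorem pure_pure (x y : Fin a → F) (e c : Fin b → F) :
    B (vecMulVec x e) (vecMulVec y c) = f₂ e c * f₁ x y := by
  rw [S.pure, pure_mulVec, S.form₂.dot_cov, S.form₁.smul_left]

theorem pl_mem_cSp {e c : Fin b → F} (h : f₂ e c = 0) (x : Fin a → F) :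
    vecMulVec x e ∈ cSp a f₂ c := by
  rw [mem_cSp, pure_mulVec, S.form₂.dot_cov, h, zero_smul]

theorem op_cSp {g : GL (Fin a × Fin b) F} (hg : g ∈ M) {c d : Fin b → F}
    (hcd : ∀ y, ∃ x, op g (vecMulVec x d) = vecMulVec y c) {X : Matrix (Fin a) (Fin b) F}
    (hX : X *ᵥ cov f₂ d = 0) : op g X *ᵥ cov f₂ c = 0 := by
  by_contra hne
  obtain ⟨w, hw⟩ := S.form₁.nondeg _ hne
  obtain ⟨x, hx⟩ := hcd w
  rw [← S.pure, ← hx, S.iso g hg, S.pure, hX, S.form₁.zero_left] at hw
  exact hw rfl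

/-- The pairing with `W` detects the kernel of the conjugate transvection. -/
theorem inv_mulVec_eq_zero {g : GL (Fin a × Fin b) F} (hg : g ∈ M) {v : Fin b → F}
    {Z : Matrix (Fin a) (Fin b) F} (hZ : ∀ X ∈ wsub g v, B X Z = 0) : op g⁻¹ Z *ᵥ cov f₂ v = 0 := by
  by_contra hne
  obtain ⟨w, hw⟩ := S.form₁.nondeg _ hne
  refine hw ?_
  rw [← S.pure, ← S.iso g hg, op_op_inv]
  exact S.flip _ _ (hZ _ (mem_wsub.2 ⟨w, rfl⟩))

/-- An image of a pure isotropic space is totally singular. -/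
theorem wsub_singular {g : GL (Fin a × Fin b) F} (hg : g ∈ M) {v : Fin b → F} (hv : f₂ v v = 0)
    {X Y : Matrix (Fin a) (Fin b) F} (hX : X ∈ wsub g v) (hY : Y ∈ wsub g v) : B X Y = 0 := by
  obtain ⟨x, rfl⟩ := mem_wsub.1 hX
  obtain ⟨y, rfl⟩ := mem_wsub.1 hY
  rw [S.iso g hg, S.pure_pure, hv, zero_mul]

theorem exists_orth_iso (c : Fin b → F) (hc0 : c ≠ 0) :
    ∃ d, f₂ d d = 0 ∧ f₂ d c = 0 ∧ d ∉ F ∙ c := by
  obtain ⟨T, hT⟩ := (F ∙ c).exists_isCompl
  have hTd : Module.finrank F T + 1 = b := by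
    have := Submodule.finrank_add_eq_of_isCompl hT
    rw [finrank_span_singleton hc0, Module.finrank_fin_fun] at this
    omega
  let L : T →ₗ[F] F :=
    { toFun := fun e => f₂ (e : Fin b → F) c
      map_add' := fun x y => S.form₂.add_left _ _ _
      map_smul' := fun t x => S.form₂.smul_left t _ _ }
  have h1 := L.finrank_range_add_finrank_ker
  have h2 := Submodule.finrank_le (LinearMap.range L)
  rw [Module.finrank_self] at h2
  have h3 : Module.finrank F ((LinearMap.ker L).map T.subtype) = Module.finrank F (LinearMap.ker L) :=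
    (Submodule.equivMapOfInjective _ T.injective_subtype _).finrank_eq.symm
  have := S.four_le
  obtain ⟨d, hd, hd0, hdd⟩ := S.iso_two ((LinearMap.ker L).map T.subtype) (by omega)
  obtain ⟨e, he, rfl⟩ := hd
  refine ⟨_, hdd, he, fun hmem => hd0 ?_⟩
  have := hT.disjoint.le_bot ⟨hmem, e.2⟩
  simpa using this

end Setup

/-- A transvection isometry is determined by its centre. -/
theorem IsSForm.exists_coeff {m : ℕ} {f : (Fin m → F) → (Fin m → F) → F} (hf : IsSForm σ ε f)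
    {T : Submodule F (Fin m → F)} {d w₀ : Fin m → F} (hd : f d d = 0) (hw₀ : w₀ ∈ T) (hdw : f d w₀ = 1)
    (k : (Fin m → F) → F) (hk : ∀ v ∈ T, ∀ w ∈ T, f (v + k v • d) (w + k w • d) = f v w) :
    ∃ μ : F, ε * μ + σ μ = 0 ∧ ∀ v ∈ T, k v = μ * f v d := by
  have key : ∀ v ∈ T, k v = -σ (k w₀) * f v d := by
    intro v hv
    have h := hk v hv w₀ hw₀
    simp only [hf.add_left, hf.smul_left, hf.add_right, hf.smul_right, hd, hdw, mul_zero, add_zero,
      mul_one] at h
    linear_combination h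
  refine ⟨-σ (k w₀), ?_, key⟩
  have h := key w₀ hw₀
  have he : f w₀ d = ε := by rw [hf.symm, hdw, map_one, mul_one]
  rw [he] at h
  rw [map_neg, hf.invol]
  linear_combination -h

end Cfsg.Agent.Lib.TensorForm
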