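import Cfsg.Agent.Lib.TensorForm.Classify

/-!
Central elements of the radical at an isotropic vector, and how radical elements produce them.
-/

set_option autoImplicit false
set_option linter.unusedSectionVars false

namespace Cfsg.Agent.Lib.TensorForm

open Matrix Cfsg.Agent.Lib Cfsg.Agent.Lib.TensorMax

variable {F : Type*} [Field F] {a b : ℕ} {σ : F →+* F} {ε : F}
  {f₁ : (Fin a → F) → (Fin a → F) → F} {f₂ : (Fin b → F) → (Fin b → F) → F}
  {B : Matrix (Fin a) (Fin b) F → Matrix (Fin a) (Fin b) F → F}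
  {M : Subgroup (GL (Fin a × Fin b) F)}

/-- The central element of the radical at `c` with coefficient `Z` lies in `M`. -/
def InZ (f₂ : (Fin b → F) → (Fin b → F) → F) (M : Subgroup (GL (Fin a × Fin b) F)) (c : Fin b → F)
    (Z : (Fin a → F) →ₗ[F] (Fin a → F)) : Prop :=
  ∃ g ∈ M, ∀ X, op g X = X + vecMulVec (Z (X *ᵥ cov f₂ c)) c

/-- Not a scalar map. -/
def NonScalar (Z : (Fin a → F) →ₗ[F] (Fin a → F)) : Prop :=
  ¬ ∃ s : F, ∀ m, Z m = s • m

theorem InR.mul {c : Fin b → F} {g h : GL (Fin a × Fin b) F} (hg : InR f₂ c g) (hh : InR f₂ c h) :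
    InR f₂ c (g * h) := by
  refine ⟨fun x => by rw [op_mul, hh.1, hg.1], fun X hX => ?_⟩
  obtain ⟨m, hm⟩ := hh.2 X hX
  rw [pl_apply] at hm
  obtain ⟨m', hm'⟩ := hg.2 X hX
  refine ⟨m' + m, ?_⟩
  rw [map_add, hm', op_mul, ← sub_add_cancel (op h X) X, ← hm, map_add, hg.1, pl_apply]
  abel

theorem InR.one (c : Fin b → F) : InR (a := a) f₂ c 1 :=
  ⟨fun x => op_one _, fun X _ => by rw [op_one, sub_self]; exact Submodule.zero_mem _⟩

namespace Setup

variable (S : Setup σ ε f₁ f₂ B M)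
include S

theorem rad_contr {c : Fin b → F} {g : GL (Fin a × Fin b) F} (hg : g ∈ M) (hR : InR f₂ c g)
    (X : Matrix (Fin a) (Fin b) F) : op g X *ᵥ cov f₂ c = X *ᵥ cov f₂ c := by
  by_contra hne
  obtain ⟨w, hw⟩ := S.form₁.nondeg _ (sub_ne_zero.2 hne)
  refine hw ?_
  rw [S.form₁.sub_left, ← S.pure, ← S.pure, ← hR.1 w, S.iso g hg, hR.1, sub_self]

theorem exists_gamma {c : Fin b → F} (hc0 : c ≠ 0) {g : GL (Fin a × Fin b) F} (hR : InR f₂ c g) :
    ∃ γ : Matrix (Fin a) (Fin b) F →ₗ[F] (Fin a → F),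
      ∀ X, X *ᵥ cov f₂ c = 0 → op g X = X + vecMulVec (γ X) c := by
  obtain ⟨φ₀, hφ₀⟩ := exists_dot_one hc0
  refine ⟨contr a φ₀ ∘ₗ (op g - LinearMap.id), fun X hX => ?_⟩
  obtain ⟨m, hm⟩ := hR.2 X hX
  rw [pl_apply] at hm
  show op g X = X + vecMulVec ((op g X - X) *ᵥ φ₀) c
  rw [← hm, pure_mulVec, hφ₀, one_smul, hm]
  abel

/-- The root element with both components. -/
theorem exists_r' {c z : Fin b → F} (hc : f₂ c c = 0) (hz : f₂ z z = 0) (hzc : f₂ z c = 0) {l : F}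
    (hl : ε * l + σ l = 0) :
    ∃ r ∈ M, r ∈ Cfsg.Geo.kroneckerSubgroup a b F ∧ InR f₂ c r ∧
      (∀ X, op r X = X + l • vecMulVec (X *ᵥ cov f₂ c) z
        + l • vecMulVec (X *ᵥ cov f₂ z + X *ᵥ cov f₂ c) c) := by
  have h2 := S.form₂
  have hcz := h2.eq_zero_symm hzc
  have hu : f₂ (z + c) (z + c) = 0 := by
    rw [h2.add_left, h2.add_right, h2.add_right, hz, hc, hzc, hcz]; ring
  obtain ⟨g₁, hg₁, hk₁, hX₁⟩ := S.transB (z + c) l hu hl
  obtain ⟨g₂, hg₂, hk₂, hX₂⟩ := S.transB z (-l) hz (by rw [map_neg]; linear_combination -hl)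
  have hX : ∀ X, op (g₁ * g₂) X = X + l • vecMulVec (X *ᵥ cov f₂ c) z
      + l • vecMulVec (X *ᵥ cov f₂ z + X *ᵥ cov f₂ c) c := fun X => by
    rw [op_mul, hX₂, hX₁, add_mulVec, smul_mulVec, pure_mulVec, h2.dot_cov, h2.add_right, hz, hzc,
      add_zero, zero_smul, smul_zero, add_zero, h2.cov_add, mulVec_add, pure_add_left, pure_add_left,
      pure_add_right, pure_add_right]
    module
  refine ⟨g₁ * g₂, M.mul_mem hg₁ hg₂, Subgroup.mul_mem _ hk₁ hk₂, ⟨fun x => ?_, fun X hXc => ?_⟩, hX⟩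
  · rw [hX, pure_mulVec, pure_mulVec, h2.dot_cov, h2.dot_cov, hc, hcz, zero_smul, add_zero,
      pure_zero_left, pure_zero_left, smul_zero, add_zero, add_zero]
  · rw [hX, hXc, pure_zero_left, smul_zero, add_zero, add_zero, add_sub_cancel_left]
    exact Submodule.smul_mem _ _ ⟨_, rfl⟩

/-- The commutator of a radical element and a root element is central. -/
theorem inZ_comm {c z e₀ : Fin b → F} (hc : f₂ c c = 0) (he₀ : f₂ e₀ c = 1) (hz : f₂ z z = 0)
    (hzc : f₂ z c = 0) {l : F} (hl : ε * l + σ l = 0) {g : GL (Fin a × Fin b) F} (hg : g ∈ M)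
    (hR : InR f₂ c g) {γ : Matrix (Fin a) (Fin b) F →ₗ[F] (Fin a → F)}
    (hγ : ∀ X, X *ᵥ cov f₂ c = 0 → op g X = X + vecMulVec (γ X) c) :
    InZ f₂ M c (l • (γ ∘ₗ pl a z - contr a (cov f₂ z) ∘ₗ op g ∘ₗ pl a e₀ + f₂ e₀ z • LinearMap.id)) := by
  have h2 := S.form₂
  obtain ⟨r, hr, -, hrR, hrX⟩ := S.exists_r' hc hz hzc hl
  refine ⟨g * r * (r * g)⁻¹, M.mul_mem (M.mul_mem hg hr) (M.inv_mem (M.mul_mem hr hg)), fun Y => ?_⟩
  obtain ⟨X, rfl⟩ : ∃ X, op (r * g) X = Y := ⟨op (r * g)⁻¹ Y, op_op_inv _ _⟩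
  have hphi : op (r * g) X *ᵥ cov f₂ c = X *ᵥ cov f₂ c := by
    rw [op_mul, S.rad_contr hr hrR, S.rad_contr hg hR]
  rw [hphi, op_mul, op_inv_op, op_mul, op_mul, hrX X, hrX (op g X), S.rad_contr hg hR, map_add, map_add,
    map_smul, map_smul, hR.1, hγ (vecMulVec (X *ᵥ cov f₂ c) z) (by rw [pure_mulVec, h2.dot_cov, hzc, zero_smul])]
  set m := X *ᵥ cov f₂ c with hm
  have hker : (X - vecMulVec m e₀) *ᵥ cov f₂ c = 0 := by
    rw [sub_mulVec, pure_mulVec, h2.dot_cov, he₀, one_smul, hm, sub_self]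
  have hgX : op g X *ᵥ cov f₂ z = X *ᵥ cov f₂ z + op g (vecMulVec m e₀) *ᵥ cov f₂ z - f₂ e₀ z • m := by
    have h := hγ _ hker
    rw [map_sub, sub_eq_iff_eq_add] at h
    rw [h, add_mulVec, add_mulVec, sub_mulVec, pure_mulVec, pure_mulVec, h2.dot_cov, h2.dot_cov,
      h2.eq_zero_symm hzc, zero_smul, add_zero]
    abel
  simp only [LinearMap.smul_apply, LinearMap.add_apply, LinearMap.sub_apply, LinearMap.comp_apply,
    pl_apply, contr_apply, LinearMap.id_apply, hgX]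
  rw [pure_smul_left]
  simp only [pure_add_left, sub_eq_add_neg, pure_neg_left, pure_smul_left]
  module

/-- Every covector is realised by a Kronecker radical element. -/
theorem exists_kron_rad [Finite F] {c : Fin b → F} (hc : f₂ c c = 0) {ψ : Fin b → F} (hψ : c ⬝ᵥ ψ = 0) :
    ∃ h ∈ M, h ∈ Cfsg.Geo.kroneckerSubgroup a b F ∧ InR f₂ c h ∧
      ∀ X, X *ᵥ cov f₂ c = 0 → op h X = X + vecMulVec (X *ᵥ ψ) c := by
  let P : (Fin b → F) → Prop := fun ψ => ∃ h ∈ M, h ∈ Cfsg.Geo.kroneckerSubgroup a b F ∧ InR f₂ c h ∧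
      ∀ X, X *ᵥ cov f₂ c = 0 → op h X = X + vecMulVec (X *ᵥ ψ) c
  let T : Submodule F (Fin b → F) :=
    { carrier := {ψ | ∀ t : F, P (t • ψ)}
      zero_mem' := fun t => ⟨1, M.one_mem, Subgroup.one_mem _, InR.one c,
        fun X _ => by rw [op_one, smul_zero, mulVec_zero, pure_zero_left, add_zero]⟩
      add_mem' := fun {p q} hp hq t => by
        obtain ⟨h, hh, hk, hR, hX⟩ := hp t
        obtain ⟨h', hh', hk', hR', hX'⟩ := hq t
        refine ⟨h * h', M.mul_mem hh hh', Subgroup.mul_mem _ hk hk', hR.mul hR', fun X hXc => ?_⟩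
        rw [op_mul, hX' X hXc, map_add, hX X hXc, hR.1, smul_add, mulVec_add, pure_add_left, add_assoc]
      smul_mem' := fun r p hp t => by rw [smul_smul]; exact hp (t * r) }
  have hmem : ψ ∈ T := by
    refine S.cov_mem_of_iso hc T (fun z hz hzc t => ?_) hψ
    obtain ⟨l, hl0, hl⟩ := S.skew
    have h2 := S.form₂
    have hz' : f₂ (σ (t / l) • z) (σ (t / l) • z) = 0 := by
      rw [h2.smul_left, h2.smul_right, hz, mul_zero, mul_zero]
    have hzc' : f₂ (σ (t / l) • z) c = 0 := by rw [h2.smul_left, hzc, mul_zero]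
    obtain ⟨r, hr, hrk, hrR, hrX⟩ := S.exists_r' hc hz' hzc' hl
    refine ⟨r, hr, hrk, hrR, fun X hX => ?_⟩
    rw [hrX, hX, pure_zero_left, smul_zero, add_zero, add_zero, h2.cov_smul, h2.invol, mulVec_smul,
      mulVec_smul, pure_smul_left, pure_smul_left, smul_smul, mul_div_cancel₀ _ hl0]
  simpa using hmem 1

/-- A radical element acting by scalars yields a non-scalar central element. -/
theorem centre_of_scalar [Finite F] {c : Fin b → F} (hc0 : c ≠ 0) (hc : f₂ c c = 0)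
    {g : GL (Fin a × Fin b) F} (hg : g ∈ M) (hR : InR f₂ c g)
    (hgk : g ∉ Cfsg.Geo.kroneckerSubgroup a b F) {γ : Matrix (Fin a) (Fin b) F →ₗ[F] (Fin a → F)}
    (hγ : ∀ X, X *ᵥ cov f₂ c = 0 → op g X = X + vecMulVec (γ X) c)
    (hscal : ∀ e, f₂ e c = 0 → ∃ s : F, ∀ m, γ (vecMulVec m e) = s • m) :
    ∃ Z, InZ f₂ M c Z ∧ NonScalar Z := by
  classical
  have h1 := S.form₁
  have h2 := S.form₂
  obtain ⟨x₁, hx₁⟩ : ∃ x : Fin a → F, x ≠ 0 :=
    ⟨Pi.single ⟨0, by have := S.two_le; omega⟩ 1, by simp⟩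
  obtain ⟨η, hη⟩ := exists_dot_one hx₁
  let fn : (Fin b → F) →ₗ[F] F :=
    { toFun := fun e => η ⬝ᵥ γ (vecMulVec x₁ e)
      map_add' := fun p q => by rw [pure_add_right, map_add, dotProduct_add]
      map_smul' := fun r p => by rw [pure_smul_right, map_smul, dotProduct_smul]; rfl }
  obtain ⟨ψ, hψ⟩ := exists_dot_of_dual fn
  have hγψ : ∀ e, f₂ e c = 0 → ∀ m, γ (vecMulVec m e) = (e ⬝ᵥ ψ) • m := by
    intro e he m
    obtain ⟨s, hs⟩ := hscal e he
    rw [hs, hψ]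
    show s • m = (η ⬝ᵥ γ (vecMulVec x₁ e)) • m
    rw [hs, dotProduct_smul, dotProduct_comm, hη, smul_eq_mul, mul_one]
  have hcψ : c ⬝ᵥ ψ = 0 := by
    have h := hγ _ (show vecMulVec x₁ c *ᵥ cov f₂ c = 0 by
      rw [pure_mulVec, h2.dot_cov, hc, zero_smul])
    rw [hR.1, hγψ c hc, left_eq_add] at h
    by_contra hne
    have h' : (c ⬝ᵥ ψ) • x₁ = 0 := pl_injective hc0 (h.trans (map_zero _).symm)
    exact hx₁ ((smul_eq_zero.1 h').resolve_left hne)
  obtain ⟨h, hh, hhk, hhR, hhX⟩ := S.exists_kron_rad hc (ψ := -ψ) (by rw [dotProduct_neg, hcψ, neg_zero])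
  set g' := g * h with hg'def
  have hg'M : g' ∈ M := M.mul_mem hg hh
  have hfix : ∀ X, X *ᵥ cov f₂ c = 0 → op g' X = X := by
    intro X hX
    rw [op_mul, hhX X hX, map_add, hγ X hX, hR.1, mulVec_neg, pure_neg_left]
    have e : γ X = X *ᵥ ψ := by
      conv_lhs => rw [eq_sum_rows X, map_sum]
      conv_rhs => rw [eq_sum_rows X, sum_mulVec]
      exact Finset.sum_congr rfl fun i _ => by rw [hγψ _ (S.orth_row hX i), pure_mulVec]
    rw [e]
    abel
  obtain ⟨e₀, he₀⟩ := h2.exists_partner hc0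
  obtain ⟨φ₀, hφ₀⟩ := exists_dot_one hc0
  let Z : (Fin a → F) →ₗ[F] (Fin a → F) := contr a φ₀ ∘ₗ (op g' - LinearMap.id) ∘ₗ pl a e₀
  have hPl : ∀ X, op g' X - X ∈ LinearMap.range (pl a c) := fun X => mem_pl_of_kill hc0 fun ψ' hψ' => by
    obtain ⟨u, rfl⟩ := h2.exists_cov ψ'
    rw [h2.dot_cov] at hψ'
    by_contra hne
    obtain ⟨w, hw⟩ := h1.nondeg _ hne
    refine hw ?_
    have hfw := hfix (vecMulVec w u) (by rw [pure_mulVec, h2.dot_cov, h2.eq_zero_symm hψ', zero_smul])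
    rw [← S.pure, S.sub_left]
    conv_lhs => rw [← hfw, S.iso g' hg'M, hfw, sub_self]
  have hX : ∀ X, op g' X = X + vecMulVec (Z (X *ᵥ cov f₂ c)) c := by
    intro X
    set m := X *ᵥ cov f₂ c with hm
    have h' := hfix (X - vecMulVec m e₀) (by
      rw [sub_mulVec, pure_mulVec, h2.dot_cov, he₀, one_smul, hm, sub_self])
    rw [map_sub, sub_eq_iff_eq_add] at h'
    obtain ⟨p, hp⟩ := hPl (vecMulVec m e₀)
    rw [pl_apply] at hp
    show _ = X + vecMulVec ((op g' (vecMulVec m e₀) - vecMulVec m e₀) *ᵥ φ₀) c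
    rw [h', ← hp, pure_mulVec, hφ₀, one_smul, hp]
    abel
  refine ⟨Z, ⟨g', hg'M, hX⟩, fun ⟨s, hs⟩ => hgk ?_⟩
  obtain ⟨x, y, hxy⟩ := S.exists_pair
  have hsk : ε * s + σ s = 0 := by
    have e1 : ∀ u, op g' (vecMulVec u e₀) = vecMulVec u (e₀ + s • c) := fun u => by
      rw [hX, pure_mulVec, h2.dot_cov, he₀, one_smul, hs, pure_add_right, pure_smul_left, pure_smul_right]
    have h' := S.iso g' hg'M (vecMulVec x e₀) (vecMulVec y e₀)
    rw [e1, e1, S.pure_pure, S.pure_pure] at h'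
    have h'' := mul_right_cancel₀ hxy h'
    rw [h2.add_left, h2.add_right, h2.add_right, h2.smul_left, h2.smul_left, h2.smul_right, h2.smul_right,
      hc, he₀, h2.symm e₀ c, he₀, map_one] at h''
    linear_combination h''
  obtain ⟨t, -, htk, htX⟩ := S.transB c s hc hsk
  have ek : g' = t := ext_op fun X => by rw [hX, htX, hs, pure_smul_left]
  have hk := Subgroup.mul_mem _ (ek ▸ htk) (Subgroup.inv_mem _ hhk)
  rwa [hg'def, mul_inv_cancel_right] at hk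

/-- Some non-scalar central element, when the field automorphism is not trivial. -/
theorem exists_centre_of_twist [Finite F] (htw : ∃ t : F, σ t ≠ t)
    (hM : ¬ M ≤ Cfsg.Geo.kroneckerSubgroup a b F) :
    ∃ c Z, c ≠ 0 ∧ f₂ c c = 0 ∧ InZ f₂ M c Z ∧ NonScalar Z := by
  classical
  have h2 := S.form₂
  have hno := S.not_noRad hM
  unfold NoRad at hno
  push Not at hno
  obtain ⟨c, hc0, hc, g, hg, hR, hgk⟩ := hno
  obtain ⟨γ, hγ⟩ := S.exists_gamma hc0 hR
  by_cases hscal : ∀ z, f₂ z z = 0 → f₂ z c = 0 → ∃ s : F, ∀ m, γ (vecMulVec m z) = s • m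
  · obtain ⟨Z, hZ, hZ'⟩ := S.centre_of_scalar hc0 hc hg hR hgk hγ (fun e he => by
      have hmem := S.iso_span c hc e he
      clear he
      induction hmem using Submodule.span_induction with
      | mem z hz => exact hscal z hz.1 hz.2
      | zero => exact ⟨0, fun m => by rw [pure_zero_right, map_zero, zero_smul]⟩
      | add p q _ _ hp hq =>
        obtain ⟨s, hs⟩ := hp
        obtain ⟨s', hs'⟩ := hq
        exact ⟨s + s', fun m => by rw [pure_add_right, map_add, hs, hs', add_smul]⟩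
      | smul r p _ hp =>
        obtain ⟨s, hs⟩ := hp
        exact ⟨r * s, fun m => by rw [pure_smul_right, map_smul, hs, smul_smul]⟩)
    exact ⟨c, Z, hc0, hc, hZ, hZ'⟩
  push Not at hscal
  obtain ⟨z, hz, hzc, hzns⟩ := hscal
  obtain ⟨t, ht⟩ := htw
  obtain ⟨l, hl0, hl⟩ := S.skew
  obtain ⟨e₀, he₀⟩ := h2.exists_partner hc0
  have hz' : f₂ (t • z) (t • z) = 0 := by rw [h2.smul_left, h2.smul_right, hz, mul_zero, mul_zero]
  have hzc' : f₂ (t • z) c = 0 := by rw [h2.smul_left, hzc, mul_zero]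
  have hZ₁ := S.inZ_comm hc he₀ hz hzc hl hg hR hγ
  have hZ₂ := S.inZ_comm hc he₀ hz' hzc' hl hg hR hγ
  by_contra hcon
  push Not at hcon
  have hs₁ := hcon c _ hc0 hc hZ₁
  have hs₂ := hcon c _ hc0 hc hZ₂
  simp only [NonScalar, not_not] at hs₁ hs₂
  obtain ⟨s₁, hs₁⟩ := hs₁
  obtain ⟨s₂, hs₂⟩ := hs₂
  have hne : l * (σ t - t) ≠ 0 := mul_ne_zero hl0 (sub_ne_zero.2 ht)
  obtain ⟨m, hm⟩ := hzns ((σ t * s₁ - s₂) / (l * (σ t - t)))
  refine hm ?_
  have e₁ := hs₁ m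
  have e₂ := hs₂ m
  simp only [LinearMap.smul_apply, LinearMap.add_apply, LinearMap.sub_apply, LinearMap.comp_apply,
    pl_apply, contr_apply, LinearMap.id_apply, pure_smul_right, map_smul, h2.cov_smul, mulVec_smul,
    h2.smul_right] at e₁ e₂
  rw [div_eq_inv_mul, ← smul_smul]
  have e : (l * (σ t - t)) • γ (vecMulVec m z) = (σ t * s₁ - s₂) • m := by
    linear_combination (norm := module) σ t • e₁ - e₂
  rw [← e, smul_smul, inv_mul_cancel₀ hne, one_smul]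

/-- Central coefficients are skew. -/
theorem inZ_skew {c : Fin b → F} (hc0 : c ≠ 0) (hc : f₂ c c = 0) {Z : (Fin a → F) →ₗ[F] (Fin a → F)}
    (hZ : InZ f₂ M c Z) (m m' : Fin a → F) : f₁ m (Z m') + ε * f₁ (Z m) m' = 0 := by
  obtain ⟨g, hg, hX⟩ := hZ
  have h1 := S.form₁
  have h2 := S.form₂
  obtain ⟨e₀, he₀⟩ := h2.exists_partner hc0
  have e : ∀ u, op g (vecMulVec u e₀) = vecMulVec u e₀ + vecMulVec (Z u) c := fun u => by
    rw [hX, pure_mulVec, h2.dot_cov, he₀, one_smul]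
  have h := S.iso g hg (vecMulVec m e₀) (vecMulVec m' e₀)
  rw [e, e, S.add_left, S.add_right, S.add_right, S.pure_pure, S.pure_pure, S.pure_pure, S.pure_pure, hc,
    he₀, h2.symm e₀ c, he₀, map_one] at h
  linear_combination h

theorem inZ_zero (c : Fin b → F) : InZ (a := a) f₂ M c 0 :=
  ⟨1, M.one_mem, fun X => by rw [op_one, LinearMap.zero_apply, pure_zero_left, add_zero]⟩

theorem inZ_add {c : Fin b → F} (hc : f₂ c c = 0) {Z Z' : (Fin a → F) →ₗ[F] (Fin a → F)}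
    (h : InZ f₂ M c Z) (h' : InZ f₂ M c Z') : InZ f₂ M c (Z + Z') := by
  obtain ⟨g, hg, hX⟩ := h
  obtain ⟨g', hg', hX'⟩ := h'
  refine ⟨g * g', M.mul_mem hg hg', fun X => ?_⟩
  rw [op_mul, hX', hX, add_mulVec, pure_mulVec, S.form₂.dot_cov, hc, zero_smul, add_zero,
    LinearMap.add_apply, pure_add_left]
  abel

theorem inZ_neg {c : Fin b → F} (hc : f₂ c c = 0) {Z : (Fin a → F) →ₗ[F] (Fin a → F)}
    (h : InZ f₂ M c Z) : InZ f₂ M c (-Z) := by
  obtain ⟨g, hg, hX⟩ := h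
  refine ⟨g⁻¹, M.inv_mem hg, fun X => ?_⟩
  apply op_injective g
  rw [op_op_inv, hX, add_mulVec, pure_mulVec, S.form₂.dot_cov, hc, zero_smul, add_zero,
    LinearMap.neg_apply, pure_neg_left]
  abel

theorem inZ_sub {c : Fin b → F} (hc : f₂ c c = 0) {Z Z' : (Fin a → F) →ₗ[F] (Fin a → F)}
    (h : InZ f₂ M c Z) (h' : InZ f₂ M c Z') : InZ f₂ M c (Z - Z') :=
  sub_eq_add_neg Z Z' ▸ S.inZ_add hc h (S.inZ_neg hc h')

/-- Conjugation by a tensor `T ⊗ 1` of `M`. -/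
theorem inZ_conj {c : Fin b → F} {Z T T' : (Fin a → F) →ₗ[F] (Fin a → F)} {t : GL (Fin a × Fin b) F}
    (ht : t ∈ M) (htX : ∀ x e, op t (vecMulVec x e) = vecMulVec (T x) e) (hTT : ∀ x, T' (T x) = x)
    (h : InZ f₂ M c Z) : InZ f₂ M c (T ∘ₗ Z ∘ₗ T') := by
  obtain ⟨g, hg, hX⟩ := h
  have hφ : ∀ X, op t X *ᵥ cov f₂ c = T (X *ᵥ cov f₂ c) := fun X => by
    conv_lhs => rw [eq_sum_rows X, map_sum, sum_mulVec]
    conv_rhs => rw [eq_sum_rows X, sum_mulVec, map_sum]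
    exact Finset.sum_congr rfl fun i _ => by rw [htX, pure_mulVec, pure_mulVec, map_smul]
  refine ⟨t * g * t⁻¹, M.mul_mem (M.mul_mem ht hg) (M.inv_mem ht), fun Y => ?_⟩
  obtain ⟨X, rfl⟩ : ∃ X, op t X = Y := ⟨op t⁻¹ Y, op_op_inv _ _⟩
  rw [op_mul, op_inv_op, op_mul, hX, map_add, htX, hφ]
  simp only [LinearMap.comp_apply, hTT]

/-- The transvection `m ↦ m + l f(m,x) x` of the first factor. -/
theorem inZ_trans {c : Fin b → F} (hc : f₂ c c = 0) {Z : (Fin a → F) →ₗ[F] (Fin a → F)}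
    (hZ : InZ f₂ M c Z) {x : Fin a → F} {l : F} (hx : f₁ x x = 0) (hl : ε * l + σ l = 0)
    {E : (Fin a → F) →ₗ[F] (Fin a → F)} (hE : ∀ m, E m = (l * f₁ m x) • x) :
    InZ f₂ M c (E ∘ₗ Z - Z ∘ₗ E - E ∘ₗ Z ∘ₗ E) := by
  obtain ⟨t, ht, -, htX⟩ := S.transA x l hx hl
  have h1 := S.form₁
  have hEE : ∀ m, E (E m) = 0 := fun m => by
    rw [hE (E m), hE m, h1.smul_left, hx, mul_zero, mul_zero, zero_smul]
  have h := S.inZ_conj (T := LinearMap.id + E) (T' := LinearMap.id - E) ht (fun u e => by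
    rw [htX, vecMul_pure, dotProduct_comm, h1.dot_cov, LinearMap.add_apply, LinearMap.id_apply, hE,
      pure_add_left, pure_smul_right, pure_smul_left, smul_smul])
    (fun u => by simp only [LinearMap.sub_apply, LinearMap.add_apply, LinearMap.id_apply, map_add, hEE]
                 abel) hZ
  have h' := S.inZ_sub hc h hZ
  have e : (LinearMap.id + E) ∘ₗ Z ∘ₗ (LinearMap.id - E) - Z = E ∘ₗ Z - Z ∘ₗ E - E ∘ₗ Z ∘ₗ E :=
    LinearMap.ext fun m => by
      simp only [LinearMap.sub_apply, LinearMap.add_apply, LinearMap.comp_apply, LinearMap.id_apply,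
        map_sub]
      abel
  rwa [e] at h'

end Setup

end Cfsg.Agent.Lib.TensorForm
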