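import Cfsg.Agent.Lib.TensorForm.Sylow

/-!
Without radical elements, every element of `M` is a Kronecker product.
-/

set_option autoImplicit false
set_option linter.unusedSectionVars false

namespace Cfsg.Agent.Lib.TensorForm

open Matrix Cfsg.Agent.Lib Cfsg.Agent.Lib.TensorMax

variable {F : Type*} [Field F] {a b : ℕ} {σ : F →+* F} {ε : F}
  {f₁ : (Fin a → F) → (Fin a → F) → F} {f₂ : (Fin b → F) → (Fin b → F) → F}
  {B : Matrix (Fin a) (Fin b) F → Matrix (Fin a) (Fin b) F → F}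
  {M : Subgroup (GL (Fin a × Fin b) F)}

theorem eq_pure_of_kill {x η₁ : Fin a → F} (hη₁ : η₁ ⬝ᵥ x = 1) {X : Matrix (Fin a) (Fin b) F}
    (h : ∀ η, η ⬝ᵥ x = 0 → η ᵥ* X = 0) : X = vecMulVec x (η₁ ᵥ* X) := by
  refine Matrix.ext fun i j => ?_
  have h' := congrFun (h (Pi.single i 1 - x i • η₁) (by
    rw [sub_dotProduct, smul_dotProduct, hη₁, single_dotProduct, one_mul, smul_eq_mul, mul_one, sub_self])) j
  rw [sub_vecMul, smul_vecMul, Pi.sub_apply, Pi.zero_apply, sub_eq_zero, Pi.smul_apply, smul_eq_mul] at h'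
  rw [vecMulVec_apply, ← h']
  simp [vecMul, single_dotProduct]

theorem mem_line_of_pure {x x₁ m : Fin a → F} {u z e : Fin b → F} (hx₁ : x₁ ≠ 0) (hu : u ∉ F ∙ z)
    (h : vecMulVec x u = vecMulVec m z + vecMulVec x₁ e) : x ∈ F ∙ x₁ := by
  by_contra hne
  obtain ⟨η, hη0, hη1⟩ := exists_sep hne
  have h' := congrArg (fun Z => η ᵥ* Z) h
  simp only [vecMul_add, vecMul_pure, (dotProduct_comm _ _).trans hη1,
    (dotProduct_comm _ _).trans (hη0 _ (Submodule.mem_span_singleton_self _)), one_smul, zero_smul,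
    add_zero] at h'
  exact hu (Submodule.mem_span_singleton.2 ⟨_, h'.symm⟩)

namespace Setup

variable (S : Setup σ ε f₁ f₂ B M)
include S

theorem exc_meet {W : Submodule F (Matrix (Fin a) (Fin b) F)} {c : Fin b → F} (hc0 : c ≠ 0)
    (hc : f₂ c c = 0) (hE : Exc W c) :
    ∃ (d : Fin b → F) (X : Matrix (Fin a) (Fin b) F), f₂ d d = 0 ∧ d ≠ 0 ∧ d ∉ F ∙ c ∧ X ∈ W ∧ X ≠ 0 ∧
      X *ᵥ cov f₂ c = 0 ∧ X *ᵥ cov f₂ d = 0 := by
  have h2 := S.form₂
  obtain ⟨x₁, hx₁, -, hx₁W⟩ := hE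
  obtain ⟨e, he, hec, henc⟩ := S.exists_orth_iso c hc0
  have hce := h2.eq_zero_symm hec
  obtain ⟨X, hX, Y, ⟨m, rfl⟩, hXY⟩ := Submodule.mem_sup.1 (hx₁W e)
  rw [pl_apply] at hXY
  have hX' : X = vecMulVec x₁ e - vecMulVec m c := by rw [← hXY]; abel
  obtain ⟨φ, hφ0, hφ1⟩ := exists_sep henc
  have hne : c + e ∉ F ∙ c := fun h => henc (by
    simpa using Submodule.sub_mem _ h (Submodule.mem_span_singleton_self c))
  refine ⟨c + e, X, ?_, fun h => hne (by rw [h]; exact Submodule.zero_mem _), hne, hX, fun h0 => hx₁ ?_, ?_, ?_⟩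
  · rw [h2.add_left, h2.add_right, h2.add_right, hc, he, hec, hce]; ring
  · have h' := congrArg (fun Z => Z *ᵥ φ) hX'
    simp only [h0, zero_mulVec, sub_mulVec, pure_mulVec, hφ1,
      hφ0 c (Submodule.mem_span_singleton_self c), one_smul, zero_smul, sub_zero] at h'
    exact h'.symm
  · rw [hX', sub_mulVec, pure_mulVec, pure_mulVec, h2.dot_cov, h2.dot_cov, hec, hc, zero_smul, zero_smul,
      sub_zero]
  · rw [hX', sub_mulVec, pure_mulVec, pure_mulVec, h2.dot_cov, h2.dot_cov, h2.add_right, h2.add_right,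
      hec, he, hc, hce, add_zero, zero_smul, zero_smul, sub_zero]

theorem three_le_of_exc {W : Submodule F (Matrix (Fin a) (Fin b) F)} (hWa : Module.finrank F W = a)
    {c : Fin b → F} (hc0 : c ≠ 0) (hE : Exc W c) : 3 ≤ a := by
  obtain ⟨x₁, hx₁, -, hfull⟩ := hE
  obtain ⟨η₁, hη₁⟩ := exists_dot_one hx₁
  rw [dotProduct_comm] at hη₁
  let T : (Fin a → F) × (Fin b → F) →ₗ[F] Matrix (Fin a) (Fin b) F := (pl a c).coprod (plL b x₁)
  have hle : LinearMap.range T ≤ W ⊔ LinearMap.range (pl a c) := by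
    rintro _ ⟨⟨m, e⟩, rfl⟩
    exact Submodule.add_mem _ (Submodule.mem_sup_right ⟨m, rfl⟩) (hfull e)
  let f : (Fin a → F) × (Fin b → F) →ₗ[F] F :=
    { toFun := fun q => η₁ ⬝ᵥ q.1
      map_add' := fun p q => dotProduct_add _ _ _
      map_smul' := fun r p => dotProduct_smul _ _ _ }
  have h := finrank_le_range_succ T f (fun ⟨m, e⟩ hT hf => by
    change vecMulVec m c + vecMulVec x₁ e = 0 at hT
    change η₁ ⬝ᵥ m = 0 at hf
    have h' := congrArg (fun Z => η₁ ᵥ* Z) hT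
    simp only [vecMul_add, vecMul_pure, vecMul_zero, hη₁, hf, zero_smul, zero_add, one_smul] at h'
    subst h'
    rw [pure_zero_right, add_zero] at hT
    have hm : m = 0 := pl_injective hc0 (hT.trans (map_zero _).symm)
    subst hm
    rfl)
  rw [Module.finrank_prod, Module.finrank_fin_fun, Module.finrank_fin_fun] at h
  have h' := Submodule.finrank_mono hle
  have h'' : Module.finrank F (W ⊔ LinearMap.range (pl a c) : Submodule F (Matrix (Fin a) (Fin b) F))
      ≤ a + a := finrank_sup_le hWa.le (finrank_range_pl hc0).le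
  have := S.four_le
  omega

theorem meet_or_exc [Finite F] (hno : NoRad f₂ M) {g : GL (Fin a × Fin b) F} (hg : g ∈ M)
    {v : Fin b → F} (hv0 : v ≠ 0) (hv : f₂ v v = 0) (hW : ¬ IsProd (wsub g v)) {c : Fin b → F}
    (hc0 : c ≠ 0) (hc : f₂ c c = 0) {X : Matrix (Fin a) (Fin b) F} (hX : X ∈ wsub g v) (hX0 : X ≠ 0)
    (hXc : X *ᵥ cov f₂ c = 0) :
    (∃ x : Fin a → F, x ≠ 0 ∧ vecMulVec x c ∈ wsub g v) ∨ Exc (wsub g v) c := by
  rcases S.exc_or_move hno hg hv0 hv hW hc0 hc with hE | ⟨h, -, hfix, -, hWh⟩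
  · exact Or.inr hE
  left
  let P : wsub g v →ₗ[F] (Fin a → F) := (contr a (cov f₂ c)).domRestrict _
  have h1 := P.finrank_range_add_finrank_ker
  rw [finrank_wsub g hv0] at h1
  have h3 : 0 < Module.finrank F (LinearMap.ker P) :=
    (Module.finrank_pos_iff_exists_ne_zero (R := F)).2
      ⟨⟨⟨X, hX⟩, hXc⟩, fun e => hX0 (congrArg (fun w : LinearMap.ker P => w.1.1) e)⟩
  obtain ⟨z, hz⟩ : ∃ z, z ∉ LinearMap.range P := by
    by_contra hall
    push Not at hall
    rw [Submodule.eq_top_iff'.2 hall, finrank_top, Module.finrank_fin_fun] at h1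
    omega
  obtain ⟨ξ, hξ0, hξ1⟩ := exists_sep hz
  obtain ⟨x, rfl⟩ := S.form₁.exists_cov ξ
  refine ⟨x, fun e => ?_, ?_⟩
  · rw [e, S.form₁.dot_cov, S.form₁.zero_right] at hξ1
    exact zero_ne_one hξ1
  · rw [← hWh]
    refine mem_wsub.2 ⟨x, hfix _ (by rw [pure_mulVec, S.form₂.dot_cov, hc, zero_smul]) fun Y hY => ?_⟩
    rw [S.pure, ← S.form₁.dot_cov]
    exact hξ0 _ ⟨⟨Y, hY⟩, rfl⟩

theorem pure_of_two_exc {W : Submodule F (Matrix (Fin a) (Fin b) F)} (hWa : Module.finrank F W = a)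
    {c d : Fin b → F} (hc0 : c ≠ 0) (hd : d ∉ F ∙ c) (hc : Exc W c) (hd' : Exc W d) :
    ∃ x₀ : Fin a → F, x₀ ≠ 0 ∧ ∀ X ∈ W, ∃ e, X = vecMulVec x₀ e := by
  have ha := S.three_le_of_exc hWa hc0 hc
  obtain ⟨x₁, hx₁, hX₁, -⟩ := hc
  obtain ⟨x₂, hx₂, hX₂, -⟩ := hd'
  have hcd : c ∉ F ∙ d := fun h => by
    obtain ⟨r, hr⟩ := Submodule.mem_span_singleton.1 h
    have hr0 : r ≠ 0 := fun e => hc0 (by rw [← hr, e, zero_smul])
    exact hd (Submodule.mem_span_singleton.2 ⟨r⁻¹, by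
      rw [← hr, smul_smul, inv_mul_cancel₀ hr0, one_smul]⟩)
  obtain ⟨φ, hφd, hφc⟩ := exists_sep hcd
  obtain ⟨φ', hφ'c, hφ'd⟩ := exists_sep hd
  have hline : ∀ X ∈ W, ∀ η, η ⬝ᵥ x₁ = 0 → (η ᵥ* X) ⬝ᵥ φ = 0 → η ᵥ* X = 0 := by
    intro X hX η hη1 h
    obtain ⟨m, e, rfl⟩ := hX₁ X hX
    rw [vecMul_add, vecMul_pure, vecMul_pure, hη1, zero_smul, add_zero] at h ⊢
    rw [smul_dotProduct, hφc, smul_eq_mul, mul_one] at h
    rw [h, zero_smul]
  have hline' : ∀ X ∈ W, ∀ η, η ⬝ᵥ x₂ = 0 → (η ᵥ* X) ⬝ᵥ φ' = 0 → η ᵥ* X = 0 := by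
    intro X hX η hη1 h
    obtain ⟨m, e, rfl⟩ := hX₂ X hX
    rw [vecMul_add, vecMul_pure, vecMul_pure, hη1, zero_smul, add_zero] at h ⊢
    rw [smul_dotProduct, hφ'd, smul_eq_mul, mul_one] at h
    rw [h, zero_smul]
  have hboth : ∀ X ∈ W, ∀ η, η ⬝ᵥ x₁ = 0 → η ⬝ᵥ x₂ = 0 → η ᵥ* X = 0 := by
    intro X hX η h1 h2
    refine hline X hX η h1 ?_
    obtain ⟨m, e, rfl⟩ := hX₂ X hX
    rw [vecMul_add, vecMul_pure, vecMul_pure, h2, zero_smul, add_zero, smul_dotProduct,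
      hφd d (Submodule.mem_span_singleton_self d), smul_zero]
  obtain ⟨η₁, hη₁⟩ := exists_dot_one hx₁
  rw [dotProduct_comm] at hη₁
  refine ⟨x₁, hx₁, fun X hX => ⟨_, eq_pure_of_kill hη₁ fun η hη => ?_⟩⟩
  by_cases h12 : x₂ ∈ F ∙ x₁
  · obtain ⟨r, rfl⟩ := Submodule.mem_span_singleton.1 h12
    exact hboth X hX η hη (by rw [dotProduct_smul, hη, smul_zero])
  exfalso
  obtain ⟨η', hη'1, hη'2⟩ := exists_sep h12
  rw [dotProduct_comm] at hη'2
  have hη'x₁ : η' ⬝ᵥ x₁ = 0 :=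
    (dotProduct_comm _ _).trans (hη'1 _ (Submodule.mem_span_singleton_self _))
  set η'' := η₁ - (η₁ ⬝ᵥ x₂) • η' with hη''
  have h''2 : η'' ⬝ᵥ x₂ = 0 := by
    rw [hη'', sub_dotProduct, smul_dotProduct, hη'2, smul_eq_mul, mul_one, sub_self]
  let L : W →ₗ[F] (Fin 2 → F) :=
    { toFun := fun Y => ![(η' ᵥ* Y.1) ⬝ᵥ φ, (η'' ᵥ* Y.1) ⬝ᵥ φ']
      map_add' := fun p q => by simp [vecMul_add, add_dotProduct]
      map_smul' := fun r p => by simp [vecMul_smul, smul_dotProduct] }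
  have hinj : Function.Injective L := (injective_iff_map_eq_zero L).2 fun ⟨Y, hY⟩ h => by
    have h1 := hline Y hY η' hη'x₁ (congrFun h 0)
    have h2 := hline' Y hY η'' h''2 (congrFun h 1)
    rw [hη'', sub_vecMul, smul_vecMul, h1, smul_zero, sub_zero] at h2
    refine Subtype.ext ?_
    show Y = 0
    refine (eq_pure_of_kill hη₁ fun η₀ hη₀ => ?_).trans (by rw [h2, pure_zero_right])
    have h3 := hboth Y hY (η₀ - (η₀ ⬝ᵥ x₂) • η')
      (by rw [sub_dotProduct, smul_dotProduct, hη₀, hη'x₁, smul_zero, sub_zero])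
      (by rw [sub_dotProduct, smul_dotProduct, hη'2, smul_eq_mul, mul_one, sub_self])
    rwa [sub_vecMul, smul_vecMul, h1, smul_zero, sub_zero] at h3
  have := LinearMap.finrank_le_finrank_of_injective hinj
  rw [hWa, Module.finrank_fin_fun] at this
  omega

theorem pure_of_meet [Finite F] (hno : NoRad f₂ M) {g : GL (Fin a × Fin b) F} (hg : g ∈ M)
    {v : Fin b → F} (hv0 : v ≠ 0) (hv : f₂ v v = 0) (hW : ¬ IsProd (wsub g v)) {c : Fin b → F}
    (hc0 : c ≠ 0) (hc : f₂ c c = 0) {X : Matrix (Fin a) (Fin b) F} (hX : X ∈ wsub g v) (hX0 : X ≠ 0)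
    (hXc : X *ᵥ cov f₂ c = 0) :
    ∃ x₀ : Fin a → F, x₀ ≠ 0 ∧ ∀ X ∈ wsub g v, ∃ e, X = vecMulVec x₀ e := by
  classical
  have h2 := S.form₂
  by_contra hclass
  have hWa := finrank_wsub g hv0
  obtain ⟨u, x₀, hu0, hu, hx₀, hx₀W⟩ : ∃ (u : Fin b → F) (x₀ : Fin a → F),
      u ≠ 0 ∧ f₂ u u = 0 ∧ x₀ ≠ 0 ∧ vecMulVec x₀ u ∈ wsub g v := by
    rcases S.meet_or_exc hno hg hv0 hv hW hc0 hc hX hX0 hXc with ⟨x, hx, hxW⟩ | hE
    · exact ⟨c, x, hc0, hc, hx, hxW⟩
    obtain ⟨d, Y, hd, hd0, hdc, hY, hY0, -, hYd⟩ := S.exc_meet hc0 hc hE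
    rcases S.meet_or_exc hno hg hv0 hv hW hd0 hd hY hY0 hYd with ⟨x, hx, hxW⟩ | hE'
    · exact ⟨d, x, hd0, hd, hx, hxW⟩
    exact absurd (S.pure_of_two_exc hWa hc0 hdc hE hE') hclass
  have hpure0 : vecMulVec x₀ u ≠ 0 := fun e => hx₀ (pl_injective hu0 (e.trans (map_zero _).symm))
  have hkey : ∀ z, f₂ z z = 0 → f₂ z u = 0 → z ≠ 0 →
      ∃ x : Fin a → F, x ≠ 0 ∧ vecMulVec x z ∈ wsub g v := by
    intro z hz hzu hz0
    have huz := h2.eq_zero_symm hzu
    by_cases hmem : u ∈ F ∙ z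
    · obtain ⟨r, hr⟩ := Submodule.mem_span_singleton.1 hmem
      have hr0 : r ≠ 0 := fun e => hu0 (by rw [← hr, e, zero_smul])
      exact ⟨r • x₀, smul_ne_zero hr0 hx₀, by rwa [pure_smul_left, ← pure_smul_right, hr]⟩
    have hker : ∀ {y}, f₂ u y = 0 → vecMulVec x₀ u *ᵥ cov f₂ y = 0 := fun h => by
      rw [pure_mulVec, h2.dot_cov, h, zero_smul]
    rcases S.meet_or_exc hno hg hv0 hv hW hz0 hz hx₀W hpure0 (hker huz) with h | hE
    · exact h
    obtain ⟨x₁, hx₁, hdec, -⟩ := id hE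
    have hwz : z + u ∉ F ∙ z := fun h => hmem (by
      simpa using Submodule.sub_mem _ h (Submodule.mem_span_singleton_self z))
    have hw0 : z + u ≠ 0 := fun h => hwz (by rw [h]; exact Submodule.zero_mem _)
    have hw : f₂ (z + u) (z + u) = 0 := by
      rw [h2.add_left, h2.add_right, h2.add_right, hz, hu, hzu, huz]; ring
    rcases S.meet_or_exc hno hg hv0 hv hW hw0 hw hx₀W hpure0
      (hker (by rw [h2.add_right, huz, hu, add_zero])) with ⟨x, hx, hxW⟩ | hE'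
    · obtain ⟨m, e, hm⟩ := hdec _ hx₀W
      obtain ⟨s, hs⟩ := Submodule.mem_span_singleton.1 (mem_line_of_pure hx₁ hmem hm)
      obtain ⟨m', e', hm'⟩ := hdec _ hxW
      obtain ⟨r, hr⟩ := Submodule.mem_span_singleton.1 (mem_line_of_pure hx₁ hwz hm')
      have hs0 : s ≠ 0 := fun e => hx₀ (by rw [← hs, e, zero_smul])
      have hr0 : r ≠ 0 := fun e => hx (by rw [← hr, e, zero_smul])
      refine ⟨x₁, hx₁, ?_⟩
      have h := (wsub g v).sub_mem ((wsub g v).smul_mem r⁻¹ hxW) ((wsub g v).smul_mem s⁻¹ hx₀W)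
      rwa [← hr, ← hs, pure_smul_left, pure_smul_left, smul_smul, smul_smul, inv_mul_cancel₀ hr0,
        inv_mul_cancel₀ hs0, one_smul, one_smul, ← pure_sub_right, add_sub_cancel_right] at h
    · exact absurd (S.pure_of_two_exc hWa hz0 hwz hE hE') hclass
  let T : Set (Fin b → F) := {z | f₂ z z = 0 ∧ f₂ z u = 0}
  obtain ⟨bs, hbT, hspan, hli⟩ := exists_linearIndependent F T
  have hperp : h2.perp u ≤ Submodule.span F bs := by
    rw [hspan]; exact fun e he => S.iso_span u hu e he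
  haveI : Fintype bs := Set.Finite.fintype hli.set_finite_of_isNoetherian
  have hcard : Module.finrank F (h2.perp u) ≤ Fintype.card bs := by
    have h := Submodule.finrank_mono hperp
    rwa [finrank_span_set_eq_card hli, Set.toFinset_card] at h
  choose xs hxs hxsW using fun i : bs => hkey i.1 (hbT i.2).1 (hbT i.2).2 (hli.ne_zero i)
  let WC := wsub g v ⊓ cSp a f₂ u
  let fam : bs → WC := fun i => ⟨vecMulVec (xs i) i.1, hxsW i, by
    show vecMulVec (xs i) i.1 *ᵥ cov f₂ u = 0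
    rw [pure_mulVec, h2.dot_cov, (hbT i.2).2, zero_smul]⟩
  have hfam : LinearIndependent F fam := by
    rw [Fintype.linearIndependent_iff]
    intro r hr i
    have h : ∑ j, r j • vecMulVec (xs j) j.1 = 0 := by
      have := congrArg (fun w : WC => (w : Matrix (Fin a) (Fin b) F)) hr
      simpa [fam] using this
    obtain ⟨η, hη⟩ := exists_dot_one (hxs i)
    have h' := congrArg (fun Z => η ᵥ* Z) h
    simp only [vecMul_sum, vecMul_smul, vecMul_pure, vecMul_zero, smul_smul] at h'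
    have := Fintype.linearIndependent_iff.1 hli _ h' i
    rwa [dotProduct_comm η, hη, mul_one] at this
  have hle := hfam.fintype_card_le_finrank
  have hperpdim := h2.le_finrank_perp u
  have := S.lt
  have hWC : WC = wsub g v := Submodule.eq_of_le_of_finrank_le inf_le_left (by rw [hWa]; omega)
  exact hW (S.prod_of_killed hno hg hv0 hv hu0 hu fun Y hY => by
    have : Y ∈ WC := hWC.symm ▸ hY
    exact this.2)

/-- On a totally singular line, faithful contractions preserve orthogonality. -/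
theorem orth_of_faithful [Finite F] (hno : NoRad f₂ M) {g : GL (Fin a × Fin b) F} (hg : g ∈ M)
    {v : Fin b → F} (hv0 : v ≠ 0) (hv : f₂ v v = 0) (hW : ¬ IsProd (wsub g v))
    (hfaith : ∀ {c}, c ≠ 0 → f₂ c c = 0 → ∀ {X}, X ∈ wsub g v → X *ᵥ cov f₂ c = 0 → X = 0)
    {c d : Fin b → F} (hc0 : c ≠ 0) (hc : f₂ c c = 0) (hd0 : d ≠ 0) (hd : f₂ d d = 0) (hdc : f₂ d c = 0)
    (hdnc : d ∉ F ∙ c) {X X' : Matrix (Fin a) (Fin b) F} (hX : X ∈ wsub g v) (hX' : X' ∈ wsub g v)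
    (h0 : f₁ (X *ᵥ cov f₂ d) (X' *ᵥ cov f₂ d) = 0) : f₁ (X *ᵥ cov f₂ c) (X' *ᵥ cov f₂ c) = 0 := by
  classical
  have h2 := S.form₂
  by_cases hX'0 : X' = 0
  · rw [hX'0, zero_mulVec, S.form₁.zero_right]
  have hcd := h2.eq_zero_symm hdc
  have hnoexc : ∀ {c'}, c' ≠ 0 → f₂ c' c' = 0 → ¬ Exc (wsub g v) c' := fun hc0' hc' hE => by
    obtain ⟨_, Y, -, -, -, hY, hY0, hYc, -⟩ := S.exc_meet hc0' hc' hE
    exact hY0 (hfaith hc0' hc' hY hYc)
  obtain ⟨hC, hCM, hCfix, hCimg, hCW⟩ :=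
    (S.exc_or_move hno hg hv0 hv hW hc0 hc).resolve_left (hnoexc hc0 hc)
  obtain ⟨hD, hDM, hDfix, hDimg, hDW⟩ :=
    (S.exc_or_move hno hg hv0 hv hW hd0 hd).resolve_left (hnoexc hd0 hd)
  set n := hC⁻¹ * hD with hn
  have hnM : n ∈ M := M.mul_mem (M.inv_mem hCM) hDM
  have hncd : ∀ m, ∃ x, op n (vecMulVec x d) = vecMulVec m c := fun m => by
    have h : op hC (vecMulVec m c) ∈ wsub hD d := by rw [hDW, ← hCW]; exact mem_wsub.2 ⟨m, rfl⟩
    obtain ⟨x, hx⟩ := mem_wsub.1 h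
    exact ⟨x, by rw [hn, op_mul, hx, op_inv_op]⟩
  obtain ⟨φ₀, hφ₀⟩ := exists_dot_one hc0
  let α : (Fin a → F) →ₗ[F] (Fin a → F) := contr a φ₀ ∘ₗ op n ∘ₗ pl a d
  have hα : ∀ x, op n (vecMulVec x d) = vecMulVec (α x) c := fun x => by
    have h : op hD (vecMulVec x d) ∈ wsub hC c := by rw [hCW, ← hDW]; exact mem_wsub.2 ⟨x, rfl⟩
    obtain ⟨m, hm⟩ := mem_wsub.1 h
    have e : op n (vecMulVec x d) = vecMulVec m c := by rw [hn, op_mul, ← hm, op_inv_op]
    show _ = vecMulVec (op n (vecMulVec x d) *ᵥ φ₀) c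
    rw [e, pure_mulVec, hφ₀, one_smul]
  obtain ⟨β, hβ⟩ := S.levi hno hc0 hc hd0 hd hnM hα
  set x := X' *ᵥ cov f₂ c with hx
  have hx0 : x ≠ 0 := fun e => hX'0 (hfaith hc0 hc hX' e)
  have hαx0 : α x ≠ 0 := fun e => hx0 (pl_injective hd0 ((op_injective n ((hα x).trans
    (by rw [e, pure_zero_left, map_zero]))).trans (map_zero _).symm))
  -- the other contraction lies on the line of `α x`
  obtain ⟨r, hr⟩ : ∃ r : F, X' *ᵥ cov f₂ d = r • α x := by
    obtain ⟨ξ, hξd, hξc⟩ := exists_sep (show c ∉ F ∙ d from fun h => by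
      obtain ⟨t, ht⟩ := Submodule.mem_span_singleton.1 h
      have ht0 : t ≠ 0 := fun e => hc0 (by rw [← ht, e, zero_smul])
      exact hdnc (Submodule.mem_span_singleton.2 ⟨t⁻¹, by rw [← ht, smul_smul, inv_mul_cancel₀ ht0, one_smul]⟩))
    obtain ⟨e, rfl⟩ := h2.exists_cov ξ
    have hed : f₂ e d = 0 := h2.eq_zero_symm (by
      rw [← h2.dot_cov]; exact hξd d (Submodule.mem_span_singleton_self d))
    have hec : f₂ e c ≠ 0 := fun h => by
      rw [h2.dot_cov, h2.eq_zero_symm h] at hξc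
      exact zero_ne_one hξc
    set Z := vecMulVec x e with hZ
    have hZd : Z *ᵥ cov f₂ d = 0 := by rw [hZ, pure_mulVec, h2.dot_cov, hed, zero_smul]
    have hnc : op n Z *ᵥ cov f₂ c = 0 := S.op_cSp hnM (fun m => hncd m) hZd
    have h1 := hDimg Z
    have h3 : op n Z - op hD Z ∈ wsub g v ⊔ LinearMap.range (pl a c) := by
      have := Submodule.neg_mem _ (hCimg (op n Z))
      rwa [neg_sub, show op hC (op n Z) = op hD Z by rw [hn, op_mul, op_op_inv]] at this
    obtain ⟨w₁, hw₁, q₁, ⟨m₁, rfl⟩, e₁⟩ := Submodule.mem_sup.1 h3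
    obtain ⟨w₂, hw₂, q₂, ⟨m₂, rfl⟩, e₂⟩ := Submodule.mem_sup.1 h1
    have hsum : op n Z = Z + (w₁ + w₂) + vecMulVec m₁ c + vecMulVec m₂ d := by
      rw [pl_apply] at e₁ e₂
      linear_combination (norm := module) -e₁ - e₂
    have hw : w₁ + w₂ = -(f₂ e c • X') := by
      rw [eq_neg_iff_add_eq_zero]
      refine hfaith hc0 hc (Submodule.add_mem _ (Submodule.add_mem _ hw₁ hw₂) (Submodule.smul_mem _ _ hX')) ?_
      have h := congrArg (fun Y => Y *ᵥ cov f₂ c) hsum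
      rw [hnc] at h
      simp only [add_mulVec, pure_mulVec, h2.dot_cov, hZ, hc, hdc, zero_smul, add_zero] at h
      rw [add_mulVec, smul_mulVec, ← hx, h, add_mulVec]
      abel
    obtain ⟨m₃, hm₃⟩ := hβ x e hed
    rw [pl_apply, ← hZ, hsum, hw] at hm₃
    have h := congrArg (fun Y => Y *ᵥ cov f₂ d) hm₃
    simp only [hZ, add_mulVec, sub_mulVec, neg_mulVec, smul_mulVec, pure_mulVec, h2.dot_cov, hed, hd, hcd,
      zero_smul, smul_zero, add_zero, zero_add] at h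
    refine ⟨-((f₂ e c)⁻¹ * f₂ (β e) d), ?_⟩
    rw [neg_smul, ← smul_smul, eq_neg_iff_add_eq_zero]
    have h' : f₂ e c • (X' *ᵥ cov f₂ d) + f₂ (β e) d • α x = 0 := by
      linear_combination (norm := module) h
    have h'' := congrArg ((f₂ e c)⁻¹ • ·) h'
    simpa [smul_add, smul_smul, inv_mul_cancel₀ hec] using h''
  -- the adjoint lies on the same line
  let Pd : wsub g v →ₗ[F] (Fin a → F) := (contr a (cov f₂ d)).domRestrict _
  let Pc : wsub g v →ₗ[F] (Fin a → F) := (contr a (cov f₂ c)).domRestrict _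
  have hPd : Function.Injective Pd := (injective_iff_map_eq_zero Pd).2 fun Y hY =>
    Subtype.ext (hfaith hd0 hd Y.2 hY)
  have hdim : Module.finrank F (wsub g v) = Module.finrank F (Fin a → F) := by
    rw [finrank_wsub g hv0, Module.finrank_fin_fun]
  let Pe := LinearEquiv.ofBijective Pd
    ⟨hPd, (LinearMap.injective_iff_surjective_of_finrank_eq_finrank hdim).1 hPd⟩
  let T : (Fin a → F) →ₗ[F] (Fin a → F) := Pc ∘ₗ Pe.symm.toLinearMap
  have hT : ∀ Y : wsub g v, T (Y.1 *ᵥ cov f₂ d) = Y.1 *ᵥ cov f₂ c := fun Y => by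
    show Pc (Pe.symm (Pe Y)) = _
    rw [Pe.symm_apply_apply]
    rfl
  let fn : (Fin a → F) →ₗ[F] F :=
    { toFun := fun u => f₁ (T u) x
      map_add' := fun p q => by rw [map_add, S.form₁.add_left]
      map_smul' := fun r p => by rw [map_smul, S.form₁.smul_left]; rfl }
  obtain ⟨ξm, hξm⟩ := exists_dot_of_dual fn
  obtain ⟨m, rfl⟩ := S.form₁.exists_cov ξm
  have hm : ∀ Y ∈ wsub g v, f₁ (Y *ᵥ cov f₂ c) x = f₁ (Y *ᵥ cov f₂ d) m := fun Y hY => by
    rw [← hT ⟨Y, hY⟩, ← S.form₁.dot_cov (Y *ᵥ cov f₂ d)]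
    exact (hξm _).symm
  set K := vecMulVec x c - vecMulVec m d with hK
  have hKperp : ∀ Y ∈ wsub g v, B Y K = 0 := fun Y hY => by
    rw [hK, S.sub_right, S.pure, S.pure, hm Y hY, sub_self]
  have hKc : K *ᵥ cov f₂ c = 0 := by
    rw [hK, sub_mulVec, pure_mulVec, pure_mulVec, h2.dot_cov, h2.dot_cov, hc, hdc, zero_smul, zero_smul,
      sub_zero]
  have hKd : K *ᵥ cov f₂ d = 0 := by
    rw [hK, sub_mulVec, pure_mulVec, pure_mulVec, h2.dot_cov, h2.dot_cov, hd, hcd, zero_smul, zero_smul,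
      sub_zero]
  have hnK : op n K = K := by
    rw [hn, op_mul, hDfix K hKd hKperp]
    conv_lhs => rw [← hCfix K hKc hKperp, op_inv_op]
  obtain ⟨m₃, hm₃⟩ := hβ x c hcd
  have e : op n (vecMulVec x c) = K + vecMulVec (α m) c := by
    rw [show vecMulVec x c = K + vecMulVec m d by rw [hK, sub_add_cancel], map_add, hnK, hα]
  rw [pl_apply, e, hK] at hm₃
  obtain ⟨t, ht⟩ := Submodule.mem_span_singleton.1 (mem_line_of_pure hαx0 hdnc
    (show vecMulVec (-m) d = vecMulVec (m₃ - x - α m) c + vecMulVec (α x) (β c) by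
      have hsub : ∀ p q : Fin a → F, vecMulVec (p - q) c = vecMulVec p c - vecMulVec q c := fun p q => by
        ext i j; simp [vecMulVec_apply, sub_mul]
      rw [hsub, hsub, show vecMulVec (-m) d = -vecMulVec m d by ext i j; simp [vecMulVec_apply]]
      linear_combination (norm := module) -hm₃))
  rw [hm X hX, show m = (-t) • α x by rw [neg_smul, ht, neg_neg], S.form₁.smul_right]
  rw [hr, S.form₁.smul_right] at h0
  have hr0 : σ r ≠ 0 := fun e => hX'0 (hfaith hd0 hd hX' (by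
    rw [hr, (map_eq_zero σ).1 e, zero_smul]))
  rw [(mul_eq_zero.1 h0).resolve_left hr0, mul_zero]

/-- Faithfulness fails when the field has a conjugation. -/
theorem not_all_faithful_moved [Finite F] (hmoved : ∃ t, σ t ≠ t) (hno : NoRad f₂ M)
    {g : GL (Fin a × Fin b) F} (hg : g ∈ M) {v : Fin b → F} (hv0 : v ≠ 0) (hv : f₂ v v = 0)
    (hW : ¬ IsProd (wsub g v)) :
    ∃ c, c ≠ 0 ∧ f₂ c c = 0 ∧ ∃ X ∈ wsub g v, X ≠ 0 ∧ X *ᵥ cov f₂ c = 0 := by
  classical
  by_contra hall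
  have h2 := S.form₂
  have hfaith : ∀ {c}, c ≠ 0 → f₂ c c = 0 → ∀ {X}, X ∈ wsub g v → X *ᵥ cov f₂ c = 0 → X = 0 :=
    fun {c} hc0 hc {X} hX hXc => by
      by_contra hX0
      exact hall ⟨c, hc0, hc, X, hX, hX0, hXc⟩
  obtain ⟨c, -, hc0, hc⟩ := S.iso_two ⊤ (by rw [finrank_top, Module.finrank_fin_fun]; have := S.four_le; omega)
  obtain ⟨d, hd, hdc, hdnc⟩ := S.exists_orth_iso c hc0
  have hd0 : d ≠ 0 := fun e => hdnc (by rw [e]; exact Submodule.zero_mem _)
  have hcd := h2.eq_zero_symm hdc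
  obtain ⟨t, ht⟩ := hmoved
  have hcross : ∀ X ∈ wsub g v, ∀ X' ∈ wsub g v, f₁ (X *ᵥ cov f₂ d) (X' *ᵥ cov f₂ d) = 0 →
      f₁ (X *ᵥ cov f₂ c) (X' *ᵥ cov f₂ d) = 0 := by
    intro X hX X' hX' h0
    have hs : ∀ s : F, s * f₁ (X *ᵥ cov f₂ c) (X' *ᵥ cov f₂ d) +
        σ s * f₁ (X *ᵥ cov f₂ d) (X' *ᵥ cov f₂ c) = 0 := by
      intro s
      have hcnd : c ∉ F ∙ d := fun h => by
        obtain ⟨r, hr⟩ := Submodule.mem_span_singleton.1 h
        have hr0 : r ≠ 0 := fun e => hc0 (by rw [← hr, e, zero_smul])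
        exact hdnc (Submodule.mem_span_singleton.2 ⟨r⁻¹, by rw [← hr, smul_smul, inv_mul_cancel₀ hr0, one_smul]⟩)
      have hns : d ∉ F ∙ (c + s • d) := fun h => by
        obtain ⟨r, hr⟩ := Submodule.mem_span_singleton.1 h
        refine hcnd (Submodule.mem_span_singleton.2 ⟨r⁻¹ - s, ?_⟩)
        have hr0 : r ≠ 0 := fun e => hd0 (by rw [← hr, e, zero_smul])
        have h' := congrArg (r⁻¹ • ·) hr
        rw [smul_smul, inv_mul_cancel₀ hr0, one_smul] at h'
        rw [sub_smul, ← h', add_sub_cancel_right]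
      have hcs0 : c + s • d ≠ 0 := fun e => hcnd (Submodule.mem_span_singleton.2
        ⟨-s, by rw [neg_smul, eq_comm]; exact eq_neg_of_add_eq_zero_left e⟩)
      have hcs : f₂ (c + s • d) (c + s • d) = 0 := by
        rw [h2.add_left, h2.add_right, h2.add_right, h2.smul_left, h2.smul_left, h2.smul_right,
          h2.smul_right, hc, hd, hcd, hdc]
        ring
      have h1 := S.orth_of_faithful hno hg hv0 hv hW hfaith hc0 hc hd0 hd hdc hdnc hX hX' h0
      have hcov : cov f₂ (c + s • d) = cov f₂ c + σ s • cov f₂ d := by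
        rw [h2.cov_add, h2.cov_smul]
      have h := S.orth_of_faithful hno hg hv0 hv hW hfaith hcs0 hcs hd0 hd
        (by rw [h2.add_right, h2.smul_right, hdc, hd, mul_zero, add_zero]) hns hX hX' h0
      rw [hcov, mulVec_add, mulVec_add, mulVec_smul, mulVec_smul, S.form₁.add_left, S.form₁.add_right,
        S.form₁.add_right, S.form₁.smul_left, S.form₁.smul_left, S.form₁.smul_right, S.form₁.smul_right,
        h1, h0, h2.invol] at h
      linear_combination h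
    have e1 := hs 1
    have e2 := hs t
    rw [map_one, one_mul, one_mul] at e1
    exact (mul_eq_zero.1 (show (t - σ t) * f₁ (X *ᵥ cov f₂ c) (X' *ᵥ cov f₂ d) = 0 by
      linear_combination e2 - σ t * e1)).resolve_left (sub_ne_zero.2 (Ne.symm ht))
  let Pd : wsub g v →ₗ[F] (Fin a → F) := (contr a (cov f₂ d)).domRestrict _
  let Pc : wsub g v →ₗ[F] (Fin a → F) := (contr a (cov f₂ c)).domRestrict _
  have hPd : Function.Injective Pd := (injective_iff_map_eq_zero Pd).2 fun Y hY =>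
    Subtype.ext (hfaith hd0 hd Y.2 hY)
  have hdim : Module.finrank F (wsub g v) = Module.finrank F (Fin a → F) := by
    rw [finrank_wsub g hv0, Module.finrank_fin_fun]
  have hsur : Function.Surjective Pd := (LinearMap.injective_iff_surjective_of_finrank_eq_finrank hdim).1 hPd
  let Pe := LinearEquiv.ofBijective Pd ⟨hPd, hsur⟩
  let T : (Fin a → F) →ₗ[F] (Fin a → F) := Pc ∘ₗ Pe.symm.toLinearMap
  have hT : ∀ Y : wsub g v, T (Y.1 *ᵥ cov f₂ d) = Y.1 *ᵥ cov f₂ c := fun Y => by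
    show Pc (Pe.symm (Pe Y)) = _
    rw [Pe.symm_apply_apply]
    rfl
  obtain ⟨s, hs⟩ : ∃ s : F, ∀ w, T w = s • w := by
    refine exists_scalar_of_eigen T fun w => ?_
    suffices h : T w ∈ F ∙ w from (Submodule.mem_span_singleton.1 h).imp fun r hr => hr.symm
    by_contra hne
    obtain ⟨ξ, hξ0, hξ1⟩ := exists_sep hne
    obtain ⟨u', rfl⟩ := S.form₁.exists_cov ξ
    obtain ⟨X, rfl⟩ := hsur w
    obtain ⟨X', rfl⟩ := hsur u'
    have h0 : f₁ (X.1 *ᵥ cov f₂ d) (X'.1 *ᵥ cov f₂ d) = 0 := by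
      rw [← S.form₁.dot_cov]; exact hξ0 _ (Submodule.mem_span_singleton_self _)
    rw [S.form₁.dot_cov, show T (Pd X) = X.1 *ᵥ cov f₂ c from hT X] at hξ1
    exact zero_ne_one ((hcross X.1 X.2 X'.1 X'.2 h0).symm.trans hξ1)
  obtain ⟨X, hX⟩ : ∃ X : wsub g v, X ≠ 0 :=
    (Module.finrank_pos_iff_exists_ne_zero (R := F)).1 (by rw [finrank_wsub g hv0]; have := S.two_le; omega)
  have hc' : f₂ (c - σ s • d) (c - σ s • d) = 0 := by
    rw [h2.sub_left, h2.sub_right, h2.sub_right, h2.smul_left, h2.smul_left, h2.smul_right, h2.smul_right,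
      hc, hd, hcd, hdc]
    ring
  have hc'0 : c - σ s • d ≠ 0 := fun e => by
    rw [sub_eq_zero] at e
    have hs0 : σ s ≠ 0 := fun e0 => hc0 (by rw [e, e0, zero_smul])
    exact hdnc (Submodule.mem_span_singleton.2 ⟨(σ s)⁻¹, by
      rw [e, smul_smul, inv_mul_cancel₀ hs0, one_smul]⟩)
  refine hX (Subtype.ext (hfaith hc'0 hc' X.2 ?_))
  rw [h2.cov_sub, h2.cov_smul, h2.invol, mulVec_sub, mulVec_smul, ← hT X, hs, sub_self]

theorem not_all_faithful [Finite F] (hno : NoRad f₂ M) {g : GL (Fin a × Fin b) F} (hg : g ∈ M)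
    {v : Fin b → F} (hv0 : v ≠ 0) (hv : f₂ v v = 0) (hW : ¬ IsProd (wsub g v)) :
    ∃ c, c ≠ 0 ∧ f₂ c c = 0 ∧ ∃ X ∈ wsub g v, X ≠ 0 ∧ X *ᵥ cov f₂ c = 0 := by
  classical
  rcases S.five_or_moved with hb5 | hmoved
  swap
  · exact S.not_all_faithful_moved hmoved hno hg hv0 hv hW
  by_contra hall
  have h2 := S.form₂
  have hfaith : ∀ {c}, c ≠ 0 → f₂ c c = 0 → ∀ {X}, X ∈ wsub g v → X *ᵥ cov f₂ c = 0 → X = 0 :=
    fun {c} hc0 hc {X} hX hXc => by
      by_contra hX0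
      exact hall ⟨c, hc0, hc, X, hX, hX0, hXc⟩
  obtain ⟨c, -, hc0, hc⟩ := S.iso_two ⊤ (by rw [finrank_top, Module.finrank_fin_fun]; have := S.four_le; omega)
  obtain ⟨d, hd, hdc, hdnc⟩ := S.exists_orth_iso c hc0
  have hd0 : d ≠ 0 := fun e => hdnc (by rw [e]; exact Submodule.zero_mem _)
  have hcd := h2.eq_zero_symm hdc
  have hnoexc : ∀ {c'}, c' ≠ 0 → f₂ c' c' = 0 → ¬ Exc (wsub g v) c' := fun hc0' hc' hE => by
    obtain ⟨_, X, -, -, -, hX, hX0, hXc, -⟩ := S.exc_meet hc0' hc' hE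
    exact hX0 (hfaith hc0' hc' hX hXc)
  obtain ⟨hC, hCM, hCfix, hCimg, hCW⟩ :=
    (S.exc_or_move hno hg hv0 hv hW hc0 hc).resolve_left (hnoexc hc0 hc)
  obtain ⟨hD, hDM, hDfix, hDimg, hDW⟩ :=
    (S.exc_or_move hno hg hv0 hv hW hd0 hd).resolve_left (hnoexc hd0 hd)
  set n := hC⁻¹ * hD with hn
  have hnM : n ∈ M := M.mul_mem (M.inv_mem hCM) hDM
  have hncd : ∀ m, ∃ x, op n (vecMulVec x d) = vecMulVec m c := fun m => by
    have h : op hC (vecMulVec m c) ∈ wsub hD d := by rw [hDW, ← hCW]; exact mem_wsub.2 ⟨m, rfl⟩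
    obtain ⟨x, hx⟩ := mem_wsub.1 h
    exact ⟨x, by rw [hn, op_mul, hx, op_inv_op]⟩
  obtain ⟨φ₀, hφ₀⟩ := exists_dot_one hc0
  let α : (Fin a → F) →ₗ[F] (Fin a → F) := contr a φ₀ ∘ₗ op n ∘ₗ pl a d
  have hα : ∀ x, op n (vecMulVec x d) = vecMulVec (α x) c := fun x => by
    have h : op hD (vecMulVec x d) ∈ wsub hC c := by rw [hCW, ← hDW]; exact mem_wsub.2 ⟨x, rfl⟩
    obtain ⟨m, hm⟩ := mem_wsub.1 h
    have e : op n (vecMulVec x d) = vecMulVec m c := by rw [hn, op_mul, ← hm, op_inv_op]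
    show _ = vecMulVec (op n (vecMulVec x d) *ᵥ φ₀) c
    rw [e, pure_mulVec, hφ₀, one_smul]
  obtain ⟨β, hβ⟩ := S.levi hno hc0 hc hd0 hd hnM hα
  obtain ⟨ρ, hρ⟩ : ∃ ρ : F, ∀ x, α x = ρ • x := by
    refine exists_scalar_of_eigen α fun x => ?_
    suffices h : x = 0 ∨ α x ∈ F ∙ x by
      rcases h with rfl | h
      · exact ⟨0, by rw [map_zero, smul_zero]⟩
      · exact (Submodule.mem_span_singleton.1 h).imp fun r hr => hr.symm
    by_contra hneg
    push Not at hneg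
    obtain ⟨hx0, hxα⟩ := hneg
    obtain ⟨e, he, henot⟩ := exists_perp (F := F) ![cov f₂ c, cov f₂ d] (Submodule.span F {c, d}) (by
      have h2' : Module.finrank F (Submodule.span F ({c, d} : Set (Fin b → F))) ≤ 2 := by
        have := finrank_span_finset_le_card (R := F) ({c, d} : Finset (Fin b → F))
        rw [Finset.coe_pair] at this
        exact this.trans Finset.card_le_two
      have := S.four_le
      omega)
    have hec : f₂ e c = 0 := by rw [← h2.dot_cov, dotProduct_comm]; exact he 0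
    have hed : f₂ e d = 0 := by rw [← h2.dot_cov, dotProduct_comm]; exact he 1
    obtain ⟨η, hη0, hη1⟩ := exists_sep (show x ∉ F ∙ α x from fun h => by
      obtain ⟨r, hr⟩ := Submodule.mem_span_singleton.1 h
      have hr0 : r ≠ 0 := fun e => hx0 (by rw [← hr, e, zero_smul])
      exact hxα (Submodule.mem_span_singleton.2 ⟨r⁻¹, by
        conv_lhs => rw [← hr, smul_smul, inv_mul_cancel₀ hr0, one_smul]⟩))
    set Z := vecMulVec x e with hZ
    have hZd : Z *ᵥ cov f₂ d = 0 := by rw [hZ, pure_mulVec, h2.dot_cov, hed, zero_smul]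
    have hnc : op n Z *ᵥ cov f₂ c = 0 := S.op_cSp hnM (fun m => hncd m) hZd
    have h1 := hDimg Z
    have h3 : op n Z - op hD Z ∈ wsub g v ⊔ LinearMap.range (pl a c) := by
      have := Submodule.neg_mem _ (hCimg (op n Z))
      rwa [neg_sub, show op hC (op n Z) = op hD Z by rw [hn, op_mul, op_op_inv]] at this
    obtain ⟨w₁, hw₁, q₁, ⟨m₁, rfl⟩, e₁⟩ := Submodule.mem_sup.1 h3
    obtain ⟨w₂, hw₂, q₂, ⟨m₂, rfl⟩, e₂⟩ := Submodule.mem_sup.1 h1
    have hsum : op n Z = Z + (w₁ + w₂) + vecMulVec m₁ c + vecMulVec m₂ d := by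
      rw [pl_apply] at e₁ e₂
      linear_combination (norm := module) -e₁ - e₂
    have hw0 : w₁ + w₂ = 0 := by
      refine hfaith hc0 hc (Submodule.add_mem _ hw₁ hw₂) ?_
      have h := congrArg (fun Y => Y *ᵥ cov f₂ c) hsum
      rw [hnc] at h
      simp only [ add_mulVec, pure_mulVec, h2.dot_cov, hZ, hec, hc, hdc, zero_smul, add_zero,
        zero_add] at h
      rw [add_mulVec]
      exact h.symm
    obtain ⟨m₃, hm₃⟩ := hβ x e hed
    rw [pl_apply, ← hZ, hsum, hw0, add_zero] at hm₃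
    have h := congrArg (fun Y => η ᵥ* Y) hm₃
    simp only [hZ, vecMul_add, vecMul_sub, vecMul_pure, (dotProduct_comm _ _).trans hη1,
      (dotProduct_comm _ _).trans (hη0 _ (Submodule.mem_span_singleton_self _)), one_smul, zero_smul,
      sub_zero] at h
    refine henot (Submodule.mem_span_pair.2 ⟨η ⬝ᵥ m₃ - η ⬝ᵥ m₁, -(η ⬝ᵥ m₂), ?_⟩)
    rw [sub_smul, neg_smul, h]
    abel
  -- compare the two contractions on the subspace
  let Pc : wsub g v →ₗ[F] (Fin a → F) := (contr a (cov f₂ c)).domRestrict _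
  let Pd : wsub g v →ₗ[F] (Fin a → F) := (contr a (cov f₂ d)).domRestrict _
  have hPd : Function.Injective Pd := (injective_iff_map_eq_zero Pd).2 fun X hX =>
    Subtype.ext (hfaith hd0 hd X.2 hX)
  have hdim : Module.finrank F (wsub g v) = Module.finrank F (Fin a → F) := by
    rw [finrank_wsub g hv0, Module.finrank_fin_fun]
  have hsur : Function.Surjective Pd := (LinearMap.injective_iff_surjective_of_finrank_eq_finrank hdim).1 hPd
  let Pe := LinearEquiv.ofBijective Pd ⟨hPd, hsur⟩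
  let T : (Fin a → F) →ₗ[F] (Fin a → F) := Pc ∘ₗ Pe.symm.toLinearMap
  have hT : ∀ X : wsub g v, T (X.1 *ᵥ cov f₂ d) = X.1 *ᵥ cov f₂ c := fun X => by
    show Pc (Pe.symm (Pe X)) = _
    rw [Pe.symm_apply_apply]
    rfl
  obtain ⟨s, hs⟩ : ∃ s : F, ∀ w, T w = s • w := by
    refine exists_scalar_of_eigen T fun w => ?_
    suffices h : T w ∈ F ∙ w from (Submodule.mem_span_singleton.1 h).imp fun r hr => hr.symm
    by_contra hne
    obtain ⟨ξ, hξ0, hξ1⟩ := exists_sep hne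
    obtain ⟨x, rfl⟩ := S.form₁.exists_cov ξ
    obtain ⟨X, hX⟩ := hsur w
    have hXd : X.1 *ᵥ cov f₂ d = w := hX
    have hwx : f₁ w x = 0 := by
      rw [← S.form₁.dot_cov]; exact hξ0 _ (Submodule.mem_span_singleton_self _)
    rw [S.form₁.dot_cov, ← hXd, hT] at hξ1
    -- the element of the pure space at `d` matching `x ⊗ c`
    let fn : (Fin a → F) →ₗ[F] F :=
      { toFun := fun u => f₁ (T u) x
        map_add' := fun p q => by rw [map_add, S.form₁.add_left]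
        map_smul' := fun r p => by rw [map_smul, S.form₁.smul_left]; rfl }
    obtain ⟨ξm, hξm⟩ := exists_dot_of_dual fn
    obtain ⟨m, rfl⟩ := S.form₁.exists_cov ξm
    have hm : ∀ Y ∈ wsub g v, f₁ (Y *ᵥ cov f₂ c) x = f₁ (Y *ᵥ cov f₂ d) m := fun Y hY => by
      rw [← hT ⟨Y, hY⟩, ← S.form₁.dot_cov (Y *ᵥ cov f₂ d)]
      exact (hξm _).symm
    set K := vecMulVec x c - vecMulVec m d with hK
    have hKperp : ∀ Y ∈ wsub g v, B Y K = 0 := fun Y hY => by
      rw [hK, S.sub_right, S.pure, S.pure, hm Y hY, sub_self]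
    have hKc : K *ᵥ cov f₂ c = 0 := by
      rw [hK, sub_mulVec, pure_mulVec, pure_mulVec, h2.dot_cov, h2.dot_cov, hc, hdc, zero_smul, zero_smul,
        sub_zero]
    have hKd : K *ᵥ cov f₂ d = 0 := by
      rw [hK, sub_mulVec, pure_mulVec, pure_mulVec, h2.dot_cov, h2.dot_cov, hd, hcd, zero_smul, zero_smul,
        sub_zero]
    have hnK : op n K = K := by
      rw [hn, op_mul, hDfix K hKd hKperp]
      conv_lhs => rw [← hCfix K hKc hKperp, op_inv_op]
    have hmx : m ∈ F ∙ x := by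
      by_contra hne'
      obtain ⟨η, hη0, hη1⟩ := exists_sep hne'
      obtain ⟨m₃, hm₃⟩ := hβ x c hcd
      have e : op n (vecMulVec x c) = K + vecMulVec (ρ • m) c := by
        rw [show vecMulVec x c = K + vecMulVec m d by rw [hK, sub_add_cancel], map_add, hnK, hα, hρ]
      rw [pl_apply, e, hρ, hK] at hm₃
      have h := congrArg (fun Y => η ᵥ* Y) hm₃
      simp only [vecMul_add, vecMul_sub, vecMul_pure, dotProduct_smul, (dotProduct_comm _ _).trans hη1,
        (dotProduct_comm _ _).trans (hη0 _ (Submodule.mem_span_singleton_self _)), one_smul, zero_smul,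
        zero_sub, sub_zero, smul_eq_mul, mul_one, mul_zero] at h
      refine hdnc (Submodule.mem_span_singleton.2 ⟨ρ - η ⬝ᵥ m₃, ?_⟩)
      rw [sub_smul, h]
      abel
    obtain ⟨r, rfl⟩ := Submodule.mem_span_singleton.1 hmx
    rw [hm X.1 X.2, hXd, S.form₁.smul_right, hwx, mul_zero] at hξ1
    exact zero_ne_one hξ1
  obtain ⟨X, hX⟩ : ∃ X : wsub g v, X ≠ 0 :=
    (Module.finrank_pos_iff_exists_ne_zero (R := F)).1 (by rw [finrank_wsub g hv0]; have := S.two_le; omega)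
  have hc' : f₂ (c - σ s • d) (c - σ s • d) = 0 := by
    rw [h2.sub_left, h2.sub_right, h2.sub_right, h2.smul_left, h2.smul_left, h2.smul_right, h2.smul_right,
      hc, hd, hcd, hdc]
    ring
  have hc'0 : c - σ s • d ≠ 0 := fun e => by
    rw [sub_eq_zero] at e
    have hs0 : σ s ≠ 0 := fun e0 => hc0 (by rw [e, e0, zero_smul])
    exact hdnc (Submodule.mem_span_singleton.2 ⟨(σ s)⁻¹, by
      rw [e, smul_smul, inv_mul_cancel₀ hs0, one_smul]⟩)
  refine hX (Subtype.ext (hfaith hc'0 hc' X.2 ?_))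
  rw [h2.cov_sub, h2.cov_smul, h2.invol, mulVec_sub, mulVec_smul, ← hT X, hs, sub_self]

theorem exists_pure_of_nonprod [Finite F] (hno : NoRad f₂ M) {g : GL (Fin a × Fin b) F} (hg : g ∈ M)
    {v : Fin b → F} (hv0 : v ≠ 0) (hv : f₂ v v = 0) (hW : ¬ IsProd (wsub g v)) :
    ∃ x₀ : Fin a → F, x₀ ≠ 0 ∧ ∀ X ∈ wsub g v, ∃ e, X = vecMulVec x₀ e := by
  obtain ⟨c, hc0, hc, X, hX, hX0, hXc⟩ := S.not_all_faithful hno hg hv0 hv hW
  exact S.pure_of_meet hno hg hv0 hv hW hc0 hc hX hX0 hXc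

theorem isProd_wsub [Finite F] (hno : NoRad f₂ M) {g : GL (Fin a × Fin b) F} (hg : g ∈ M)
    {v : Fin b → F} (hv0 : v ≠ 0) (hv : f₂ v v = 0) : IsProd (wsub g v) := by
  classical
  by_contra hW
  have h1 := S.form₁
  have h2 := S.form₂
  obtain ⟨x₀, hx₀, hx₀W⟩ := S.exists_pure_of_nonprod hno hg hv0 hv hW
  obtain ⟨y, hy, l, hl0, hyX⟩ := S.exists_conj_trans hg hv
  obtain ⟨m, hm⟩ := h1.exists_partner hx₀
  have hm' : cov f₁ x₀ ⬝ᵥ m = 1 := by rw [dotProduct_comm, h1.dot_cov, hm]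
  have hfix : ∀ X, cov f₁ x₀ ᵥ* X = 0 → op y X = X := by
    intro X hX
    rw [hyX, S.inv_mulVec_eq_zero hg (fun Z hZ => ?_), pure_zero_left, map_zero, smul_zero, add_zero]
    obtain ⟨e, rfl⟩ := hx₀W Z hZ
    refine S.flip _ _ ?_
    rw [S.pure, ← h1.dot_cov, dotProduct_comm, dotProduct_mulVec, hX, zero_dotProduct]
  obtain ⟨η₀, hη₀⟩ := exists_dot_one hx₀
  rw [dotProduct_comm] at hη₀
  let Q : (Fin b → F) →ₗ[F] (Fin b → F) :=
    { toFun := fun e => η₀ ᵥ* (op y (vecMulVec m e) - vecMulVec m e)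
      map_add' := fun p q => by
        rw [pure_add_right, map_add, add_sub_add_comm, vecMul_add]
      map_smul' := fun r p => by
        rw [pure_smul_right, map_smul, ← smul_sub, vecMul_smul, RingHom.id_apply] }
  have hyW : ∀ X, op y X - X ∈ wsub g v := fun X => by
    rw [hyX, add_sub_cancel_left]; exact Submodule.smul_mem _ _ (mem_wsub.2 ⟨_, rfl⟩)
  have hQ : ∀ e, op y (vecMulVec m e) - vecMulVec m e = vecMulVec x₀ (Q e) := by
    intro e
    obtain ⟨e', he'⟩ := hx₀W _ (hyW (vecMulVec m e))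
    show _ = vecMulVec x₀ (η₀ ᵥ* (op y (vecMulVec m e) - vecMulVec m e))
    rw [he', vecMul_pure, hη₀, one_smul]
  have hyQ : ∀ X, op y X = X + vecMulVec x₀ (Q (cov f₁ x₀ ᵥ* X)) := by
    intro X
    have h := hfix (X - vecMulVec m (cov f₁ x₀ ᵥ* X)) (by
      rw [vecMul_sub, vecMul_pure, hm', one_smul, sub_self])
    rw [map_sub, sub_eq_iff_eq_add] at h
    rw [h, ← hQ]
    abel
  have hQc : ∀ c, c ≠ 0 → f₂ c c = 0 → Q c ∈ F ∙ c := by
    intro c hc0 hc
    by_contra hQc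
    obtain ⟨φ, hφ0, hφ1⟩ := exists_sep hQc
    have hWm : op y (vecMulVec m c) = vecMulVec m c + vecMulVec x₀ (Q c) := by
      rw [hyQ, vecMul_pure, hm', one_smul]
    obtain ⟨x, hx, hx0⟩ : ∃ x, f₁ x x₀ = 0 ∧ x ≠ 0 := by
      obtain ⟨x, hx, hx0⟩ := exists_perp_ne (F := F) ![cov f₁ x₀] (show 1 < a by have := S.two_le; omega)
      exact ⟨x, by rw [← h1.dot_cov, dotProduct_comm]; exact hx 0, hx0⟩
    have hxy : op y (vecMulVec x c) = vecMulVec x c := hfix _ (by
      rw [vecMul_pure, dotProduct_comm, h1.dot_cov, hx, zero_smul])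
    have hxW : vecMulVec x c ∈ wsub y c := mem_wsub.2 ⟨x, hxy⟩
    have hx0' : vecMulVec x c ≠ 0 := fun e => hx0 (pl_injective hc0 (e.trans (map_zero _).symm))
    by_cases hP : IsProd (wsub y c)
    · obtain ⟨u, hu0, hu⟩ := hP
      have heq := range_pl_eq hu0 hx0' (⟨x, rfl⟩ : vecMulVec x c ∈ LinearMap.range (pl a c)) (hu ▸ hxW)
      obtain ⟨m', hm''⟩ : op y (vecMulVec m c) ∈ LinearMap.range (pl a c) :=
        heq ▸ hu ▸ mem_wsub.2 ⟨m, rfl⟩
      have h := congrArg (fun Z => Z *ᵥ φ) (hm''.trans hWm)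
      simp only [pl_apply, add_mulVec, pure_mulVec, hφ0 c (Submodule.mem_span_singleton_self c), hφ1,
        zero_smul, one_smul, zero_add] at h
      exact hx₀ h.symm
    · obtain ⟨x', hx'0, hx'⟩ := S.exists_pure_of_nonprod hno hy hc0 hc hP
      obtain ⟨e₁, he₁⟩ := hx' _ hxW
      obtain ⟨e₂, he₂⟩ := hx' _ (mem_wsub.2 ⟨m, rfl⟩ : op y (vecMulVec m c) ∈ wsub y c)
      obtain ⟨r, hr⟩ : ∃ r : F, x = r • x' := by
        obtain ⟨φc, hφc⟩ := exists_dot_one hc0
        have h := congrArg (fun Z => Z *ᵥ φc) he₁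
        simp only [pure_mulVec, hφc, one_smul] at h
        exact ⟨_, h⟩
      have hx'f : f₁ x' x₀ = 0 := by
        have hr0 : r ≠ 0 := fun e => hx0 (by rw [hr, e, zero_smul])
        have := hx
        rw [hr, h1.smul_left] at this
        exact (mul_eq_zero.1 this).resolve_left hr0
      rw [hWm] at he₂
      by_cases hx₀' : x₀ ∈ F ∙ x'
      · have hmnot : m ∉ F ∙ x' := fun h => by
          obtain ⟨r, rfl⟩ := Submodule.mem_span_singleton.1 h
          rw [h1.smul_left, hx'f, mul_zero] at hm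
          exact zero_ne_one hm
        obtain ⟨η, hη0, hη1⟩ := exists_sep hmnot
        have h := congrArg (fun Z => η ᵥ* Z) he₂
        simp only [vecMul_add, vecMul_pure, (dotProduct_comm _ _).trans hη1,
          (dotProduct_comm _ _).trans (hη0 _ hx₀'),
          (dotProduct_comm _ _).trans (hη0 _ (Submodule.mem_span_singleton_self _)), one_smul, zero_smul,
          add_zero] at h
        exact hc0 h
      · obtain ⟨η, hη0, hη1⟩ := exists_sep hx₀'
        have h := congrArg (fun Z => η ᵥ* Z) he₂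
        simp only [vecMul_add, vecMul_pure, (dotProduct_comm _ _).trans hη1,
          (dotProduct_comm _ _).trans (hη0 _ (Submodule.mem_span_singleton_self _)), one_smul,
          zero_smul] at h
        exact hQc (Submodule.mem_span_singleton.2 ⟨-(η ⬝ᵥ m), by
          rw [neg_smul, eq_neg_of_add_eq_zero_left h, neg_neg]⟩)
  obtain ⟨c₁, -, hc₁0, hc₁⟩ :=
    S.iso_two ⊤ (by rw [finrank_top, Module.finrank_fin_fun]; have := S.four_le; omega)
  obtain ⟨r, hr⟩ := Submodule.mem_span_singleton.1 (hQc c₁ hc₁0 hc₁)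
  have hscal : Q = r • LinearMap.id := by
    refine LinearMap.ext_on (s := {z : Fin b → F | f₂ z z = 0}) S.iso_top ?_
    intro z hz
    show Q z = r • z
    by_cases hz0 : z = 0
    · rw [hz0, map_zero, smul_zero]
    obtain ⟨s, hs⟩ := Submodule.mem_span_singleton.1 (hQc z hz0 hz)
    by_cases hmem : z ∈ F ∙ c₁
    · obtain ⟨t, rfl⟩ := Submodule.mem_span_singleton.1 hmem
      rw [map_smul, ← hr, smul_comm]
    obtain ⟨t, ht, htz⟩ := S.iso_add c₁ z hc₁ hz
    have hsum0 : c₁ + t • z ≠ 0 := fun e => hmem (Submodule.mem_span_singleton.2 ⟨-t⁻¹, by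
      rw [eq_neg_of_add_eq_zero_left e, neg_smul, smul_neg, neg_neg, smul_smul, inv_mul_cancel₀ ht,
        one_smul]⟩)
    obtain ⟨u, hu⟩ := Submodule.mem_span_singleton.1 (hQc _ hsum0 htz)
    rw [map_add, map_smul, ← hr, ← hs, smul_add, smul_smul, smul_smul] at hu
    obtain ⟨φ, hφ0, hφ1⟩ := exists_sep hmem
    have hφc : c₁ ⬝ᵥ φ = 0 := hφ0 _ (Submodule.mem_span_singleton_self _)
    have e1 := congrArg (fun w => w ⬝ᵥ φ) hu
    simp only [add_dotProduct, smul_dotProduct, hφc, hφ1, smul_eq_mul, mul_zero, mul_one, zero_add] at e1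
    have hus : u = s := mul_right_cancel₀ ht (e1.trans (mul_comm t s))
    obtain ⟨φ', hφ'⟩ := exists_dot_one hc₁0
    have e2 := congrArg (fun w => w ⬝ᵥ φ') hu
    simp only [add_dotProduct, smul_dotProduct, hφ', smul_eq_mul, mul_one, hus, mul_comm t s,
      add_left_inj] at e2
    rw [← hs, e2]
  have ha2 := S.two_le
  have hlt := S.lt
  by_cases hr0 : r = 0
  · obtain ⟨e, he⟩ := h2.exists_partner hv0
    obtain ⟨p, hp⟩ : ∃ p : Fin a → F, p ≠ 0 := ⟨Pi.single ⟨0, by omega⟩ 1, by simp⟩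
    have h := (hyQ (op g (vecMulVec p e))).symm.trans (hyX _)
    rw [hscal, hr0, zero_smul, LinearMap.zero_apply, pure_zero_right, add_zero, op_inv_op, pure_mulVec,
      h2.dot_cov, he, one_smul, left_eq_add, smul_eq_zero] at h
    exact hp (pl_injective hv0
      ((op_injective g ((h.resolve_left hl0).trans (map_zero _).symm)).trans (map_zero _).symm))
  have hle : LinearMap.range (plL b x₀) ≤ wsub g v := by
    rintro _ ⟨e, rfl⟩
    have h := Submodule.smul_mem _ r⁻¹ (hyW (vecMulVec m e))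
    rw [hQ, hscal, LinearMap.smul_apply, LinearMap.id_apply, pure_smul_right, smul_smul,
      inv_mul_cancel₀ hr0, one_smul] at h
    exact h
  have hinj : Function.Injective (plL b x₀) := (injective_iff_map_eq_zero _).2 fun e he => by
    have h := congrArg (fun Z => η₀ ᵥ* Z) he
    simpa [plL_apply, vecMul_pure, hη₀] using h
  have := Submodule.finrank_mono hle
  rw [LinearMap.finrank_range_of_inj hinj, finrank_wsub g hv0, Module.finrank_fin_fun] at this
  omega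

theorem exists_iso_frame : ∃ (R : GL (Fin b) F) (j₀ : Fin b),
    (∀ j, f₂ ((R : Matrix (Fin b) (Fin b) F) *ᵥ Pi.single j 1) ((R : Matrix (Fin b) (Fin b) F) *ᵥ Pi.single j 1) = 0) ∧
    ∀ j, f₂ ((R : Matrix (Fin b) (Fin b) F) *ᵥ (Pi.single j₀ 1 + Pi.single j 1))
      ((R : Matrix (Fin b) (Fin b) F) *ᵥ (Pi.single j₀ 1 + Pi.single j 1)) = 0 := by
  classical
  obtain ⟨bs, hbT, hspan, hli⟩ := exists_linearIndependent F {z : Fin b → F | f₂ z z = 0}
  rw [S.iso_top] at hspan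
  let bas : Module.Basis bs F (Fin b → F) := Module.Basis.mk hli (by rw [Subtype.range_coe]; exact hspan.ge)
  haveI : Fintype bs := Set.Finite.fintype hli.set_finite_of_isNoetherian
  have hcard : Fintype.card bs = b := by
    rw [← Module.finrank_eq_card_basis bas, Module.finrank_fin_fun]
  let bas' := bas.reindex (Fintype.equivFinOfCardEq hcard)
  have hiso : ∀ j, f₂ (bas' j) (bas' j) = 0 := fun j => by
    rw [Module.Basis.reindex_apply, Module.Basis.mk_apply]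
    exact hbT (Subtype.coe_prop _)
  let j₀ : Fin b := ⟨0, by have := S.four_le; omega⟩
  have ht : ∀ j, ∃ t : F, t ≠ 0 ∧ f₂ (t • bas' j) (t • bas' j) = 0 ∧
      (j = j₀ → t = 1) ∧ (j ≠ j₀ → f₂ (bas' j₀ + t • bas' j) (bas' j₀ + t • bas' j) = 0) := by
    intro j
    by_cases hj : j = j₀
    · exact ⟨1, one_ne_zero, by rw [one_smul]; exact hiso j, fun _ => rfl, fun h => absurd hj h⟩
    · obtain ⟨t, ht, htz⟩ := S.iso_add _ _ (hiso j₀) (hiso j)
      exact ⟨t, ht, by rw [S.form₂.smul_left, S.form₂.smul_right, hiso j]; ring,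
        fun h => absurd h hj, fun _ => htz⟩
  choose t ht0 htiso htj₀ htsum using ht
  let bas'' := bas'.unitsSMul fun j => Units.mk0 (t j) (ht0 j)
  have hb'' : ∀ j, bas'' j = t j • bas' j := fun j => by
    rw [Module.Basis.unitsSMul_apply]; rfl
  let Rm : Matrix (Fin b) (Fin b) F := Matrix.of fun i j => bas'' j i
  have hRm : ∀ j, Rm *ᵥ Pi.single j 1 = bas'' j := fun j => by
    funext i; simp [Rm]
  have hdet : Rm.det ≠ 0 := by
    intro h0
    obtain ⟨w, hw, hw0⟩ := (Matrix.exists_mulVec_eq_zero_iff (M := Rm)).2 h0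
    refine hw (funext fun i => Fintype.linearIndependent_iff.1 bas''.linearIndependent w ?_ i)
    rw [← hw0]
    funext i
    simp [Rm, mulVec, dotProduct, mul_comm]
  refine ⟨Matrix.GeneralLinearGroup.mkOfDetNeZero Rm hdet, j₀, fun j => ?_, fun j => ?_⟩
  · show f₂ (Rm *ᵥ _) (Rm *ᵥ _) = 0
    rw [hRm, hb'']; exact htiso j
  · show f₂ (Rm *ᵥ _) (Rm *ᵥ _) = 0
    rw [mulVec_add, hRm, hRm, hb'', hb'']
    by_cases hj : j = j₀
    · subst hj
      simp only [S.form₂.add_left, S.form₂.add_right, htiso, add_zero]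
    · rw [htj₀ j₀ rfl, one_smul]; exact htsum j hj

/-- Some radical element of `M` is not a Kronecker product, unless all of `M` is one. -/
theorem not_noRad [Finite F] (hM : ¬ M ≤ Cfsg.Geo.kroneckerSubgroup a b F) : ¬ NoRad f₂ M := by
  classical
  intro hno
  refine hM fun g hg => ?_
  obtain ⟨R, j₀, hR₁, hR₂⟩ := S.exists_iso_frame
  have hb0 : 0 < b := by have := S.four_le; omega
  let k : GL (Fin a × Fin b) F := Matrix.GeneralLinearGroup.mkOfDetNeZero
    (Matrix.kroneckerMap (· * ·) (1 : Matrix (Fin a) (Fin a) F) (R : Matrix (Fin b) (Fin b) F))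
    (by rw [det_kronecker, det_one, one_pow, one_mul]; exact pow_ne_zero _ R.det.ne_zero)
  have hk : k ∈ Cfsg.Geo.kroneckerSubgroup a b F := ⟨1, R, rfl⟩
  have hkop : ∀ (x : Fin a → F) e, op k (vecMulVec x e) = vecMulVec x ((R : Matrix (Fin b) (Fin b) F) *ᵥ e) := by
    intro x e
    rw [op_kron (A := 1) (B := (R : Matrix (Fin b) (Fin b) F)) rfl, Matrix.one_mul, vecMulVec_mul,
      vecMul_transpose]
  have hws : ∀ e, wsub (g * k) e = wsub g ((R : Matrix (Fin b) (Fin b) F) *ᵥ e) := fun e => by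
    ext Z
    simp only [mem_wsub, op_mul, hkop]
  have hRne : ∀ {e : Fin b → F}, e ≠ 0 → (R : Matrix (Fin b) (Fin b) F) *ᵥ e ≠ 0 := fun {e} he h => he (by
    have h' := congrArg (fun w => ((R⁻¹ : GL (Fin b) F) : Matrix (Fin b) (Fin b) F) *ᵥ w) h
    simpa [mulVec_mulVec, ← Units.val_mul] using h')
  have h := mem_kron_of_prod' (by have := S.two_le; omega) (g * k) j₀
    (fun j => by rw [hws]; exact S.isProd_wsub hno hg (hRne (by simp)) (hR₁ j))
    (fun j hj => by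
      rw [hws]
      refine S.isProd_wsub hno hg (hRne fun e => ?_) (hR₂ j)
      have := congrFun e j
      simp [Pi.single_eq_of_ne hj] at this)
  have := Subgroup.mul_mem _ h (Subgroup.inv_mem _ hk)
  rwa [mul_inv_cancel_right] at this

end Setup

end Cfsg.Agent.Lib.TensorForm
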