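import Cfsg.Agent.Lib.UnitaryMax.Basic

/-!
Mixed root vectors over components of dimension at least four.
-/

set_option autoImplicit false
set_option linter.unusedSectionVars false

namespace Cfsg.Agent.Lib.TensorForm

open Matrix Cfsg.Agent.Lib.Forms Cfsg.Agent.Lib.FormMax Cfsg.Agent.Lib.UnitaryMax

variable {F : Type*} [Field F] [Fintype F] {n q : ℕ}

local notation "Vs" => (Fin n → F)
local notation "h" => Cfsg.hermForm n F q

variable (hF : Fintype.card F = q ^ 2) {H : Subgroup (GL (Fin n) F)}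
include hF

/-- A large nondegenerate subspace has vectors of every norm orthogonal to a few given ones. -/
theorem exists_orth_norm4 {X : Submodule F Vs} (hX : ∀ x ∈ X, x ≠ 0 → ∃ y ∈ X, h x y ≠ 0) {k : ℕ}
    (hdim : 2 * k < Module.finrank F X) (s : Fin k → Vs) {r : F} (hr : r ^ q = r) :
    ∃ z ∈ X, (∀ i, h z (s i) = 0) ∧ h z z = r := by
  classical
  have hgood := hermSesq_goodForm (n := n) hF
  let L : X →ₗ[F] (Fin k → F) := LinearMap.pi fun i => (hermSesq hF n (s i)).comp X.subtype
  set U : Submodule F Vs := L.ker.map X.subtype with hU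
  have hUmem : ∀ z ∈ U, z ∈ X ∧ ∀ i, h z (s i) = 0 := by
    rintro _ ⟨z, hz, rfl⟩
    exact ⟨z.2, fun i => congrFun (LinearMap.mem_ker.mp hz) i⟩
  have hUdim : Module.finrank F X ≤ k + Module.finrank F U := by
    rw [hU, (Submodule.equivMapOfInjective _ X.subtype_injective L.ker).finrank_eq.symm,
      ← L.finrank_range_add_finrank_ker]
    have := L.range.finrank_le
    rw [Module.finrank_fin_fun] at this
    omega
  obtain ⟨z, hz, hzz⟩ : ∃ z ∈ U, h z z ≠ 0 := by
    by_contra hno
    push Not at hno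
    have hts : ∀ u ∈ U, ∀ w ∈ U, hermSesq hF n u w = 0 :=
      hermitian_polarization (qPowHom_ne_id hF) (hermSesq_isSymm hF) U fun u hu => hno u hu
    have hle : U ⊔ perp (hermSesq hF n) X ≤ perp (hermSesq hF n) U := by
      refine sup_le (fun w hw u hu => hts u hu w hw) fun w hw u hu => ?_
      exact hw u (hUmem u hu).1
    have hdisj : U ⊓ perp (hermSesq hF n) X = ⊥ := by
      rw [eq_bot_iff]
      rintro x ⟨hx, hx'⟩
      rw [Submodule.mem_bot]
      by_contra hx0
      obtain ⟨y, hy, hxy⟩ := hX x (hUmem x hx).1 hx0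
      exact hxy (hx' y hy)
    have h1 := Submodule.finrank_mono hle
    have h2 := Submodule.finrank_sup_add_finrank_inf_eq U (perp (hermSesq hF n) X)
    rw [hdisj, finrank_bot, add_zero] at h2
    have h3 := hgood.finrank_add_finrank_perp U
    have h4 := hgood.finrank_add_finrank_perp X
    omega
  obtain ⟨c, hc⟩ := exists_norm_eq (qPowHom_ne_id hF) (qPowHom_qPowHom hF) (c := r / h z z)
    (by rw [qPowHom_apply, div_pow, hr, herm_conj hF])
  rw [qPowHom_apply] at hc
  refine ⟨c • z, X.smul_mem _ (hUmem z hz).1, fun i => ?_, ?_⟩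
  · rw [herm_smul_left hF, (hUmem z hz).2 i, mul_zero]
  · rw [herm_smul_left hF, herm_smul_right hF, ← mul_assoc, hc, div_mul_cancel₀ _ hzz]

/-- Prescribed products with two independent vectors, and prescribed norm. -/
theorem exists_prescribed4 {X : Submodule F Vs} (hX : ∀ x ∈ X, x ≠ 0 → ∃ y ∈ X, h x y ≠ 0)
    (hdim : 4 ≤ Module.finrank F X) {b b' : Vs} (hb : b ∈ X) (hb' : b' ∈ X)
    (hind : ∀ c d : F, c • b + d • b' = 0 → c = 0 ∧ d = 0) {α : F} (hα : α ≠ 0 ∨ h b b ≠ 0) (β : F) {r : F} (hr : r ^ q = r) :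
    ∃ t ∈ X, h t b = α ∧ h t b' = β ∧ h t t = r := by
  let L : X →ₗ[F] F × F :=
    ((hermSesq hF n b).comp X.subtype).prod ((hermSesq hF n b').comp X.subtype)
  have hsurj : L.range = ⊤ := by
    by_contra hne
    obtain ⟨p, hp⟩ : ∃ p, p ∉ L.range := by
      by_contra h'; push Not at h'; exact hne (eq_top_iff.mpr fun p _ => h' p)
    obtain ⟨φ, hφp, hφ⟩ := Submodule.exists_dual_map_eq_bot_of_notMem hp inferInstance
    set c := φ (1, 0) with hc
    set d := φ (0, 1) with hd
    have hφval : ∀ x y : F, φ (x, y) = c * x + d * y := fun x y => by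
      rw [show (x, y) = x • ((1 : F), (0 : F)) + y • ((0 : F), (1 : F)) by simp, map_add, map_smul,
        map_smul, smul_eq_mul, smul_eq_mul, hc, hd]
      ring
    have he : c ^ q • b + d ^ q • b' = 0 := by
      by_contra hne'
      obtain ⟨t, ht, hte⟩ := hX _ (X.add_mem (X.smul_mem _ hb) (X.smul_mem _ hb')) hne'
      refine hte (h_symm hF ?_)
      rw [herm_add_right hF, herm_smul_right hF, herm_smul_right hF, pow_q_pow_q hF, pow_q_pow_q hF,
        ← hφval]
      have : φ (L ⟨t, ht⟩) ∈ L.range.map φ := Submodule.mem_map_of_mem ⟨_, rfl⟩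
      rw [hφ, Submodule.mem_bot] at this
      exact this
    obtain ⟨hc0, hd0⟩ := hind _ _ he
    refine hφp ?_
    rw [← Prod.mk.eta (p := p), hφval, eq_zero_of_pow_eq_zero hc0, eq_zero_of_pow_eq_zero hd0]
    ring
  obtain ⟨t₀, ht₀⟩ := (hsurj ▸ Submodule.mem_top : (α, β) ∈ L.range)
  have e1 : h (t₀ : Vs) b = α := congrArg Prod.fst ht₀
  have e2 : h (t₀ : Vs) b' = β := congrArg Prod.snd ht₀
  set U : Submodule F Vs := L.ker.map X.subtype with hU
  have hUmem : ∀ z ∈ U, z ∈ X ∧ h z b = 0 ∧ h z b' = 0 := by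
    rintro _ ⟨z, hz, rfl⟩
    exact ⟨z.2, congrArg Prod.fst (LinearMap.mem_ker.mp hz), congrArg Prod.snd (LinearMap.mem_ker.mp hz)⟩
  by_cases hani : ∃ z ∈ U, h z z ≠ 0
  swap
  · -- `U` is totally singular
    push Not at hani
    have hgood := hermSesq_goodForm (n := n) hF
    have hts : ∀ u ∈ U, ∀ w ∈ U, hermSesq hF n u w = 0 :=
      hermitian_polarization (qPowHom_ne_id hF) (hermSesq_isSymm hF) U fun u hu => hani u hu
    obtain ⟨z, hz, htz⟩ : ∃ z ∈ U, h z (t₀ : Vs) ≠ 0 := by
      by_contra hno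
      push Not at hno
      have hle : U ⊔ perp (hermSesq hF n) X ≤ perp (hermSesq hF n) U := by
        refine sup_le (fun w hw u hu => hts u hu w hw) fun w hw u hu => hw u (hUmem u hu).1
      have hdisj : U ⊓ perp (hermSesq hF n) X = ⊥ := by
        rw [eq_bot_iff]
        rintro x ⟨hx, hx'⟩
        rw [Submodule.mem_bot]
        by_contra hx0
        obtain ⟨y, hy, hxy⟩ := hX x (hUmem x hx).1 hx0
        exact hxy (hx' y hy)
      have hUdim : Module.finrank F X ≤ 2 + Module.finrank F U := by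
        rw [hU, (Submodule.equivMapOfInjective _ X.subtype_injective L.ker).finrank_eq.symm,
          ← L.finrank_range_add_finrank_ker]
        have := L.range.finrank_le
        rw [Module.finrank_prod, Module.finrank_self] at this
        omega
      have h2 := Submodule.finrank_sup_add_finrank_inf_eq U (perp (hermSesq hF n) X)
      rw [hdisj, finrank_bot, add_zero] at h2
      have h3 := hgood.finrank_add_finrank_perp U
      have h4 := hgood.finrank_add_finrank_perp X
      have heq := Submodule.eq_of_le_of_finrank_le hle (by omega)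
      have horth : ∀ v ∈ X, (∀ u ∈ U, h u v = 0) → h v b = 0 := fun v _ hv => by
        obtain ⟨u, hu, p, hp, rfl⟩ := Submodule.mem_sup.mp
          (heq.ge (show v ∈ perp (hermSesq hF n) U from fun u hu => by simpa using h_symm hF (hv u hu)))
        rw [herm_add_left hF, (hUmem u hu).2.1, zero_add]
        have := hp b hb
        rw [hermSesq_apply] at this
        first | exact h_symm hF this | exact this
      rcases hα with hα | hα
      · exact hα (e1.symm.trans (horth _ t₀.2 hno))
      · exact hα (horth b hb fun u hu => (hUmem u hu).2.1)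
    obtain ⟨hzX, hz0, hz1⟩ := hUmem z hz
    have hzz : h z z = 0 := hani z hz
    set a := h z (t₀ : Vs) with ha
    have ha' : h (t₀ : Vs) z = a ^ q := by rw [ha, herm_conj hF]
    obtain ⟨τ, hτ⟩ := exists_trace_one hF
    set s := r - h (t₀ : Vs) t₀ with hs
    have hsq : s ^ q = s := by rw [hs, q_sub hF, hr, herm_conj hF]
    refine ⟨t₀ + (τ * s / a) • z, X.add_mem t₀.2 (X.smul_mem _ hzX), ?_, ?_, ?_⟩
    · rw [herm_add_left hF, e1, herm_smul_left hF, hz0, mul_zero, add_zero]
    · rw [herm_add_left hF, e2, herm_smul_left hF, hz1, mul_zero, add_zero]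
    · rw [herm_add_left hF, herm_add_right hF, herm_add_right hF, herm_smul_left hF, herm_smul_left hF,
        herm_smul_right hF, herm_smul_right hF, hzz, ha', ← ha, div_pow, mul_pow, hsq,
        div_mul_cancel₀ _ (pow_ne_zero q htz), div_mul_cancel₀ _ htz]
      linear_combination s * hτ + hs
  obtain ⟨z₀, hz₀, hz₀z⟩ := hani
  obtain ⟨hzX, hz00, hz01⟩ := hUmem z₀ hz₀
  obtain ⟨c, hc⟩ := exists_norm_eq (qPowHom_ne_id hF) (qPowHom_qPowHom hF) (c := 1 / h z₀ z₀)
    (by rw [qPowHom_apply, div_pow, one_pow, herm_conj hF])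
  rw [qPowHom_apply] at hc
  set z := c • z₀ with hzdef
  have hz : z ∈ X := X.smul_mem c hzX
  have hz0 : h z b = 0 := by rw [hzdef, herm_smul_left hF, hz00, mul_zero]
  have hz1 : h z b' = 0 := by rw [hzdef, herm_smul_left hF, hz01, mul_zero]
  have hzz : h z z = 1 := by
    rw [hzdef, herm_smul_left hF, herm_smul_right hF, ← mul_assoc, hc, div_mul_cancel₀ _ hz₀z]
  clear_value z
  set t₁ : Vs := (t₀ : Vs) - h (t₀ : Vs) z • z with ht₁
  have ht₁z : h t₁ z = 0 := by rw [ht₁, h_sub_left hF, herm_smul_left hF, hzz, mul_one, sub_self]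
  obtain ⟨μ, hμ⟩ := exists_norm_eq (qPowHom_ne_id hF) (qPowHom_qPowHom hF) (c := r - h t₁ t₁)
    (by rw [qPowHom_apply, q_sub hF, hr, herm_conj hF])
  rw [qPowHom_apply] at hμ
  refine ⟨t₁ + μ • z, X.add_mem (X.sub_mem t₀.2 (X.smul_mem _ hz)) (X.smul_mem _ hz), ?_, ?_, ?_⟩
  · rw [herm_add_left hF, ht₁, h_sub_left hF, herm_smul_left hF, herm_smul_left hF, e1, hz0]
    ring
  · rw [herm_add_left hF, ht₁, h_sub_left hF, herm_smul_left hF, herm_smul_left hF, e2, hz1]
    ring
  · rw [herm_add_left hF, herm_add_right hF, herm_add_right hF, herm_smul_left hF, herm_smul_left hF,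
      herm_smul_right hF, herm_smul_right hF, ht₁z, h_symm hF ht₁z, hzz]
    linear_combination hμ

/-- A vector independent of a given one and orthogonal to it. -/
theorem exists_indep4 {X : Submodule F Vs} (hX : ∀ x ∈ X, x ≠ 0 → ∃ y ∈ X, h x y ≠ 0)
    (hdim : 4 ≤ Module.finrank F X) {b : Vs} (hb0 : b ≠ 0) :
    ∃ b' ∈ X, h b' b = 0 ∧ ∀ c d : F, c • b + d • b' = 0 → c = 0 ∧ d = 0 := by
  obtain ⟨z, hz, hzs, hzz⟩ := exists_orth_norm4 hF hX (show 2 * 1 < _ by omega) (fun _ => b) (r := 1) (one_pow q)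
  refine ⟨z, hz, hzs 0, fun c d e => ?_⟩
  have hd : d = 0 := by
    have := congrArg (h · z) e
    simp only [herm_add_left hF, herm_smul_left hF, h_zero_left hF] at this
    rwa [h_symm hF (hzs 0), hzz, mul_zero, zero_add, mul_one] at this
  rw [hd, zero_smul, add_zero] at e
  exact ⟨(smul_eq_zero.mp e).resolve_right hb0, hd⟩

/-- In a large component, mixed root vectors only depend on the other component. -/
theorem root_component4 (hH : H ≤ suGL n F q) {X : Submodule F Vs}
    (hX : ∀ x ∈ X, x ≠ 0 → ∃ y ∈ X, h x y ≠ 0) (hdim : 4 ≤ Module.finrank F X)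
    (hroot : ∀ x ∈ X, h x x = 0 → x ∈ root q H) {a b b' : Vs} (ha : ∀ x ∈ X, h a x = 0) (hb : b ∈ X)
    (hb0 : b ≠ 0) (hb' : b' ∈ X) (hb'0 : b' ≠ 0) (hnorm : h b b = h b' b') (hab : a + b ∈ root q H) :
    a + b' ∈ root q H := by
  obtain ⟨δ, hδ, hδ0⟩ := exists_skew_ne hF
  set r := h b b with hr
  have hrr : r ^ q = r := herm_conj hF b b
  have hδq : δ ^ q = -δ := eq_neg_of_add_eq_zero_right hδ
  have haa : h a a + r = 0 := by
    have := hab.1
    rw [herm_add_left hF, herm_add_right hF, herm_add_right hF, ha b hb, h_symm hF (ha b hb), ← hr] at this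
    linear_combination this
  have hrδ : r + δ ≠ 0 ∨ r ≠ 0 := (ne_or_eq r 0).symm.imp_left fun e => by rw [e, zero_add]; exact hδ0
  -- one step
  have step : ∀ s t : Vs, s ∈ X → t ∈ X → h s s = r → h t t = r → a + s ∈ root q H →
      h t s = r + δ ∨ h t s = r - δ → a + t ∈ root q H := by
    intro s t hs ht hss htt hroot' hts
    have hd : t - s ∈ X := X.sub_mem ht hs
    have hst : h s t = h t s ^ q := (herm_conj hF t s).symm
    have hsum : h s t + h t s = r + r ∧ h s t ≠ r := by
      rw [hst]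
      rcases hts with e | e <;>
      · rw [e]
        simp only [q_add hF, q_sub hF, hrr, hδq]
        exact ⟨by ring, fun e' => hδ0 (by first | linear_combination e' | linear_combination -e')⟩
    have hts0 : h (t - s) (t - s) = 0 := by
      simp only [h_sub_left hF, h_sub_right hF, hss, htt]
      linear_combination -hsum.1
    have h1 : a + s + (t - s) = a + t := by abel
    rw [← h1]
    refine root_add hF hH hroot' (hroot _ hd hts0) ?_ ?_
    · rw [herm_add_left hF, ha _ hd, zero_add, h_sub_right hF, hss]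
      exact sub_ne_zero.mpr hsum.2
    · rw [h1, herm_add_left hF, herm_add_right hF, herm_add_right hF, ha t ht, h_symm hF (ha t ht), htt]
      linear_combination haa
  have two : ∀ s s' : Vs, s ∈ X → s' ∈ X → h s s = r → h s' s' = r →
      (∀ c d : F, c • s + d • s' = 0 → c = 0 ∧ d = 0) → a + s ∈ root q H → a + s' ∈ root q H := by
    intro s s' hs hs' hss hss' hind hsr
    obtain ⟨t, ht, h1, h2, h3⟩ := exists_prescribed4 hF hX hdim hs hs' hind (hrδ.imp_right fun e => hss.symm ▸ e) (r + δ) hrr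
    refine step t s' ht hs' h3 hss' (step s t hs ht hss h3 hsr (Or.inl h1)) (Or.inr ?_)
    rw [← herm_conj hF t s', h2, q_add hF, hrr, hδq, sub_eq_add_neg]
  by_cases hdep : ∀ c d : F, c • b + d • b' = 0 → c = 0 ∧ d = 0
  · exact two b b' hb hb' rfl hnorm.symm hdep hab
  · obtain ⟨b'', hb'', -, hind⟩ := exists_indep4 hF hX hdim hb0
    obtain ⟨t, ht, h1, -, h3⟩ := exists_prescribed4 hF hX hdim hb hb'' hind hrδ 0 hrr
    have htb : ∀ μ : F, t ≠ μ • b := by
      intro μ e
      rw [e, herm_smul_left hF, ← hr] at h1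
      rw [e, herm_smul_left hF, herm_smul_right hF, ← hr] at h3
      have h4 := congrArg (· ^ q) h1
      simp only [mul_pow, q_add hF, hrr, hδq] at h4
      refine hδ0 (pow_eq_zero_iff two_ne_zero |>.mp (?_ : δ ^ 2 = 0))
      linear_combination -r * h3 + (μ ^ q * r) * h1 + (r + δ) * h4
    push Not at hdep
    obtain ⟨c, d, hcd, hne⟩ := hdep
    have hd0 : d ≠ 0 := fun e => by
      subst e
      rw [zero_smul, add_zero] at hcd
      exact hne ((smul_eq_zero.mp hcd).resolve_right hb0) rfl
    have hb'eq : b' = (-c / d) • b := by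
      rw [div_eq_inv_mul, mul_smul, neg_smul, eq_neg_of_add_eq_zero_left hcd, neg_neg, smul_smul,
        inv_mul_cancel₀ hd0, one_smul]
    refine two t b' ht hb' h3 hnorm.symm (fun x y e => ?_)
      (step b t hb ht rfl h3 hab (Or.inl h1))
    by_cases hx : x = 0
    · subst hx
      rw [zero_smul, zero_add] at e
      exact ⟨rfl, (smul_eq_zero.mp e).resolve_right hb'0⟩
    · refine absurd ?_ (htb (-(y * (-c / d)) / x))
      rw [hb'eq, smul_smul, add_eq_zero_iff_eq_neg, ← neg_smul] at e
      rw [div_eq_inv_mul, mul_smul, ← e, smul_smul, inv_mul_cancel₀ hx, one_smul]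

end Cfsg.Agent.Lib.TensorForm
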