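import Cfsg.Agent.Lib.TensorForm.Centre

/-!
The tensor product of two forms, and the Kronecker isometries of it.
-/

set_option autoImplicit false
set_option linter.unusedSectionVars false

namespace Cfsg.Agent.Lib.TensorForm

open Matrix Cfsg.Agent.Lib Cfsg.Agent.Lib.TensorMax
open scoped Kronecker

variable {F : Type*} [Field F] {a b : ℕ} {σ : F →+* F} {ε : F}
  {f₁ : (Fin a → F) → (Fin a → F) → F} {f₂ : (Fin b → F) → (Fin b → F) → F}

/-- The tensor product of two forms on matrices. -/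
def tB (f₁ : (Fin a → F) → (Fin a → F) → F) (f₂ : (Fin b → F) → (Fin b → F) → F)
    (X Y : Matrix (Fin a) (Fin b) F) : F :=
  ∑ k, f₁ (X *ᵥ cov f₂ (Y k)) (Pi.single k 1)

variable (h1 : IsSForm σ ε f₁) (h2 : IsSForm σ ε f₂)
include h1 h2

theorem tB_add_left (X Y Z : Matrix (Fin a) (Fin b) F) :
    tB f₁ f₂ (X + Y) Z = tB f₁ f₂ X Z + tB f₁ f₂ Y Z := by
  simp only [tB, add_mulVec, h1.add_left, Finset.sum_add_distrib]

theorem tB_smul_left (c : F) (X Z : Matrix (Fin a) (Fin b) F) :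
    tB f₁ f₂ (c • X) Z = c * tB f₁ f₂ X Z := by
  simp only [tB, smul_mulVec, h1.smul_left, Finset.mul_sum]

theorem tB_add_right (X Y Z : Matrix (Fin a) (Fin b) F) :
    tB f₁ f₂ X (Y + Z) = tB f₁ f₂ X Y + tB f₁ f₂ X Z := by
  simp only [tB, ← Finset.sum_add_distrib]
  refine Finset.sum_congr rfl fun k _ => ?_
  rw [show (Y + Z) k = Y k + Z k from rfl, h2.cov_add, mulVec_add, h1.add_left]

theorem tB_pure (X : Matrix (Fin a) (Fin b) F) (y : Fin a → F) (c : Fin b → F) :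
    tB f₁ f₂ X (vecMulVec y c) = f₁ (X *ᵥ cov f₂ c) y := by
  let L : (Fin a → F) →+ F :=
    { toFun := fun v => f₁ (X *ᵥ cov f₂ c) v
      map_zero' := h1.zero_right _
      map_add' := fun p q => h1.add_right _ p q }
  have hy : y = ∑ k, y k • (Pi.single k 1 : Fin a → F) := pi_eq_sum_univ' y
  show _ = L y
  conv_rhs => rw [hy, map_sum]
  refine Finset.sum_congr rfl fun k _ => ?_
  show _ = f₁ (X *ᵥ cov f₂ c) (y k • Pi.single k 1)
  rw [show vecMulVec y c k = y k • c from rfl, h2.cov_smul, mulVec_smul, h1.smul_left, h1.smul_right]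

theorem tB_pure_pure (x y : Fin a → F) (e c : Fin b → F) :
    tB f₁ f₂ (vecMulVec x e) (vecMulVec y c) = f₂ e c * f₁ x y := by
  rw [tB_pure h1 h2, pure_mulVec, h2.dot_cov, h1.smul_left]

theorem tB_zero_left (Z : Matrix (Fin a) (Fin b) F) : tB f₁ f₂ 0 Z = 0 := by
  rw [← zero_smul F (0 : Matrix (Fin a) (Fin b) F), tB_smul_left h1 h2, zero_mul]

theorem tB_zero_right (Z : Matrix (Fin a) (Fin b) F) : tB f₁ f₂ Z 0 = 0 := by
  have := tB_pure h1 h2 Z 0 (0 : Fin b → F)
  rwa [pure_zero_left, h1.zero_right] at this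

theorem tB_sum_left {κ : Type*} (s : Finset κ) (X : κ → Matrix (Fin a) (Fin b) F)
    (Z : Matrix (Fin a) (Fin b) F) : tB f₁ f₂ (∑ i ∈ s, X i) Z = ∑ i ∈ s, tB f₁ f₂ (X i) Z := by
  classical
  induction s using Finset.induction_on with
  | empty => simp [tB_zero_left h1 h2]
  | insert k t hk ih => rw [Finset.sum_insert hk, Finset.sum_insert hk, tB_add_left h1 h2, ih]

theorem tB_sum_right {κ : Type*} (s : Finset κ) (X : κ → Matrix (Fin a) (Fin b) F)
    (Z : Matrix (Fin a) (Fin b) F) : tB f₁ f₂ Z (∑ i ∈ s, X i) = ∑ i ∈ s, tB f₁ f₂ Z (X i) := by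
  classical
  induction s using Finset.induction_on with
  | empty => simp [tB_zero_right h1 h2]
  | insert k t hk ih => rw [Finset.sum_insert hk, Finset.sum_insert hk, tB_add_right h1 h2, ih]

theorem tB_herm (X Y : Matrix (Fin a) (Fin b) F) :
    tB f₁ f₂ Y X = ε * ε * σ (tB f₁ f₂ X Y) := by
  rw [eq_sum_rows' X, eq_sum_rows' Y, tB_sum_left h1 h2, tB_sum_left h1 h2]
  simp only [tB_sum_right h1 h2, map_sum, Finset.mul_sum]
  rw [Finset.sum_comm]
  refine Finset.sum_congr rfl fun i _ => Finset.sum_congr rfl fun j _ => ?_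
  rw [tB_pure_pure h1 h2, tB_pure_pure h1 h2, map_mul, h2.symm (X i) (Y j), h1.symm]
  ring
where
  eq_sum_rows' (X : Matrix (Fin a) (Fin b) F) : X = ∑ i, vecMulVec (Pi.single i 1) (X i) := by
    ext p q
    simp [Matrix.sum_apply, vecMulVec_apply, Pi.single_apply]

theorem tB_flip (X Y : Matrix (Fin a) (Fin b) F) (h : tB f₁ f₂ X Y = 0) : tB f₁ f₂ Y X = 0 := by
  rw [tB_herm h1 h2, h, map_zero, mul_zero]

/-- The Gram description of the tensor form. -/
theorem tB_gram (X Y : Matrix (Fin a) (Fin b) F) :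
    Cfsg.Geo.formOfGram σ (Cfsg.Geo.gramMatrix f₁ ⊗ₖ Cfsg.Geo.gramMatrix f₂)
      (fun p : Fin a × Fin b => X p.1 p.2) (fun p => Y p.1 p.2) = tB f₁ f₂ X Y := by
  have hd : ∀ (X : Matrix (Fin a) (Fin b) F), X
      = ∑ p : Fin a × Fin b, X p.1 p.2 • vecMulVec (Pi.single p.1 1) (Pi.single p.2 1) := fun X => by
    refine Matrix.ext fun i j => ?_
    rw [Matrix.sum_apply, Finset.sum_eq_single (i, j) (fun p _ hp => ?_) (fun h => absurd (Finset.mem_univ _) h)]
    · simp [vecMulVec_apply]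
    · rw [Matrix.smul_apply, vecMulVec_apply]
      by_cases h1' : p.1 = i
      · have h2' : p.2 ≠ j := fun e => hp (Prod.ext h1' e)
        rw [Pi.single_eq_of_ne (Ne.symm h2'), mul_zero, smul_zero]
      · rw [Pi.single_eq_of_ne (Ne.symm h1'), zero_mul, smul_zero]
  conv_rhs => rw [hd X, hd Y, tB_sum_left h1 h2]
  simp only [tB_sum_right h1 h2, Cfsg.Geo.formOfGram]
  refine Finset.sum_congr rfl fun p _ => Finset.sum_congr rfl fun r _ => ?_
  rw [← pure_smul_left, ← pure_smul_left, tB_pure_pure h1 h2, h1.smul_left, h1.smul_right,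
    kroneckerMap_apply]
  show X p.1 p.2 * (f₁ _ _ * f₂ _ _) * σ (Y r.1 r.2) = _
  ring

/-- An element preserving the form on pure tensors preserves it. -/
theorem tB_iso_of_pure {g : GL (Fin a × Fin b) F}
    (h : ∀ x y e c, tB f₁ f₂ (op g (vecMulVec x e)) (op g (vecMulVec y c)) = f₂ e c * f₁ x y)
    (X Y : Matrix (Fin a) (Fin b) F) : tB f₁ f₂ (op g X) (op g Y) = tB f₁ f₂ X Y := by
  rw [eq_sum_rows X, eq_sum_rows Y, map_sum, map_sum, tB_sum_left h1 h2, tB_sum_left h1 h2]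
  simp only [tB_sum_right h1 h2]
  exact Finset.sum_congr rfl fun i _ => Finset.sum_congr rfl fun j _ => by rw [h, tB_pure_pure h1 h2]

omit h1 h2

/-- The Kronecker product as an element of `GL`. -/
theorem exists_kron_of (A : Matrix (Fin a) (Fin a) F) (C : Matrix (Fin b) (Fin b) F) (hA : A.det ≠ 0)
    (hC : C.det ≠ 0) : ∃ g : GL (Fin a × Fin b) F, g ∈ Cfsg.Geo.kroneckerSubgroup a b F ∧
      (g : Matrix (Fin a × Fin b) (Fin a × Fin b) F).det = A.det ^ b * C.det ^ a ∧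
      ∀ x e, op g (vecMulVec x e) = vecMulVec (A *ᵥ x) (C *ᵥ e) := by
  have hd : (A ⊗ₖ C).det = A.det ^ b * C.det ^ a := by
    rw [det_kronecker, Fintype.card_fin, Fintype.card_fin]
  refine ⟨Matrix.GeneralLinearGroup.mkOfDetNeZero (A ⊗ₖ C)
    (by rw [hd]; exact mul_ne_zero (pow_ne_zero _ hA) (pow_ne_zero _ hC)),
    ⟨Matrix.GeneralLinearGroup.mkOfDetNeZero A hA, Matrix.GeneralLinearGroup.mkOfDetNeZero C hC, rfl⟩,
    hd, fun x e => ?_⟩
  rw [op_kron (A := A) (B := C) rfl, mul_vecMulVec, vecMulVec_mul, vecMul_transpose]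

end Cfsg.Agent.Lib.TensorForm
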