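import Cfsg.Agent.Lib.TensorForm.Basic
import Cfsg.Agent.Lib.Forms.Families

/-!
Elementary facts on hermitian forms.
-/

set_option autoImplicit false
set_option linter.unusedSectionVars false

namespace Cfsg.Agent.Lib.TensorForm

open Matrix Cfsg.Agent.Lib Cfsg.Agent.Lib.TensorMax

variable {F : Type*} [Field F] [Finite F] {m : ℕ} {σ : F →+* F} {f : (Fin m → F) → (Fin m → F) → F}
  (hf : IsSForm σ 1 f) (hσ : σ ≠ RingHom.id F)
include hf

theorem herm_eq (v w : Fin m → F) : f w v = σ (f v w) := by rw [hf.symm v w, one_mul]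

theorem herm_fixed (v : Fin m → F) : σ (f v v) = f v v := (herm_eq hf v v).symm

include hσ

theorem herm_moved : ∃ t : F, σ t ≠ t := by
  by_contra hno
  push Not at hno
  exact hσ (RingHom.ext fun t => hno t)

theorem herm_trace : ∃ τ : F, τ + σ τ = 1 := by
  obtain ⟨t, ht⟩ : ∃ t : F, t + σ t ≠ 0 := by
    by_contra hno
    push Not at hno
    refine hσ (RingHom.ext fun t => ?_)
    have h1 := hno 1
    rw [map_one] at h1
    rw [RingHom.id_apply]
    linear_combination hno t - t * h1
  exact ⟨t / (t + σ t), by rw [map_div₀, map_add, hf.invol, add_comm (σ t) t, ← add_div, div_self ht]⟩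

theorem herm_norm {r : F} (hr : σ r = r) : ∃ x : F, x * σ x = r := Forms.exists_norm_eq hσ hf.invol hr

/-- A vector isotropic along an isotropic line. -/
theorem herm_fill {x z : Fin m → F} (hz : f z z = 0) (hxz : f x z ≠ 0) :
    ∃ t : F, f (x + t • z) (x + t • z) = 0 := by
  obtain ⟨τ, hτ⟩ := herm_trace hf hσ
  refine ⟨-(f x x * τ) / f z x, ?_⟩
  have hzx : f z x ≠ 0 := fun e => hxz (hf.eq_zero_symm e)
  rw [hf.add_left, hf.add_right, hf.add_right, hf.smul_left, hf.smul_left, hf.smul_right, hf.smul_right,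
    hz, mul_zero, mul_zero, add_zero, div_mul_cancel₀ _ hzx, map_div₀, map_neg, map_mul, ← herm_eq hf z x,
    herm_fixed hf, div_mul_cancel₀ _ hxz]
  linear_combination (-(f x x)) * hτ

/-- An isotropic vector with a given product with an isotropic one. -/
theorem herm_partner {e : Fin m → F} (he0 : e ≠ 0) (he : f e e = 0) {δ : F} (hδ : δ ≠ 0) :
    ∃ d, f d d = 0 ∧ f e d = δ := by
  obtain ⟨d₀, hd₀⟩ := hf.exists_partner he0
  obtain ⟨t, ht⟩ := herm_fill hf hσ he (x := d₀) (by rw [hd₀]; exact one_ne_zero)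
  have hed : f e (d₀ + t • e) = 1 := by
    rw [hf.add_right, hf.smul_right, he, mul_zero, add_zero, herm_eq hf d₀ e, hd₀, map_one]
  exact ⟨σ δ • (d₀ + t • e), by rw [hf.smul_left, hf.smul_right, ht, mul_zero, mul_zero],
    by rw [hf.smul_right, hf.invol, hed, mul_one]⟩

/-- A non-degenerate subspace condition gives a vector of each norm. -/
theorem herm_norm_of_sub {P : Submodule F (Fin m → F)} {g : Fin m → F} (hg : g ∈ P) {y : Fin m → F}
    (hy : y ∈ P) (hgy : f g y ≠ 0) {r : F} (hr : σ r = r) : ∃ z ∈ P, f z z = r := by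
  obtain ⟨z, hz, hzz⟩ : ∃ z ∈ P, f z z ≠ 0 := by
    by_contra hno
    push Not at hno
    obtain ⟨τ, hτ⟩ := herm_trace hf hσ
    have h := hno _ (P.add_mem hg (P.smul_mem (σ (τ / f g y)) hy))
    rw [hf.add_left, hf.add_right, hf.add_right, hf.smul_left, hf.smul_left, hf.smul_right, hf.smul_right,
      hno g hg, hno y hy, hf.invol, herm_eq hf g y, ← map_mul, div_mul_cancel₀ _ hgy] at h
    exact one_ne_zero (α := F) (by linear_combination h - hτ)
  obtain ⟨μ, hμ⟩ := herm_norm hf hσ (r := r / f z z) (by rw [map_div₀, hr, herm_fixed hf])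
  exact ⟨μ • z, P.smul_mem _ hz, by
    rw [hf.smul_left, hf.smul_right, ← mul_assoc, hμ, div_mul_cancel₀ _ hzz]⟩

/-- A vector of given norm orthogonal to a hyperbolic pair. -/
theorem herm_perp_pair (hm : 3 ≤ m) {e d : Fin m → F} (he : f e e = 0) (hd : f d d = 0) (hed : f e d ≠ 0)
    {r : F} (hr : σ r = r) : ∃ z, f z e = 0 ∧ f z d = 0 ∧ f z z = r := by
  let P : Submodule F (Fin m → F) :=
    { carrier := {z | f z e = 0 ∧ f z d = 0}
      zero_mem' := ⟨hf.zero_left _, hf.zero_left _⟩
      add_mem' := fun {p q} hp hq => ⟨by rw [hf.add_left, hp.1, hq.1, add_zero],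
        by rw [hf.add_left, hp.2, hq.2, add_zero]⟩
      smul_mem' := fun c p hp => ⟨by rw [hf.smul_left, hp.1, mul_zero],
        by rw [hf.smul_left, hp.2, mul_zero]⟩ }
  obtain ⟨g, hg, hg0⟩ := exists_perp_ne (F := F) ![cov f e, cov f d] (show 2 < m by omega)
  have hge : f g e = 0 := by rw [← hf.dot_cov, dotProduct_comm]; exact hg 0
  have hgd : f g d = 0 := by rw [← hf.dot_cov, dotProduct_comm]; exact hg 1
  obtain ⟨y, hy⟩ := hf.nondeg g hg0
  have hde : f d e ≠ 0 := fun h => hed (hf.eq_zero_symm h)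
  obtain ⟨z, hz, hzz⟩ := herm_norm_of_sub hf hσ (P := P) (g := g) ⟨hge, hgd⟩
    (y := y - (f y e / f d e) • d - (f y d / f e d) • e)
    ⟨by simp only [hf.sub_left, hf.smul_left, he, div_mul_cancel₀ _ hde]; ring,
     by simp only [hf.sub_left, hf.smul_left, hd, div_mul_cancel₀ _ hed]; ring⟩
    (by simp only [hf.sub_right, hf.smul_right, hge, hgd, mul_zero, sub_zero]; exact hy) hr
  exact ⟨z, hz.1, hz.2, hzz⟩

/-- An orthonormal basis. -/
theorem herm_frame : ∃ e : Fin m → Fin m → F, ∀ i j, f (e i) (e j) = if i = j then 1 else 0 := by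
  suffices h : ∀ k, k ≤ m → ∃ e : Fin k → Fin m → F, ∀ i j, f (e i) (e j) = if i = j then 1 else 0 from
    h m le_rfl
  intro k
  induction k with
  | zero => exact fun _ => ⟨fun i => Fin.elim0 i, fun i => Fin.elim0 i⟩
  | succ k ih =>
    intro hk
    obtain ⟨e, he⟩ := ih (by omega)
    let P : Submodule F (Fin m → F) :=
      { carrier := {z | ∀ i, f z (e i) = 0}
        zero_mem' := fun i => hf.zero_left _
        add_mem' := fun {p q} hp hq i => by rw [hf.add_left, hp i, hq i, add_zero]
        smul_mem' := fun c p hp i => by rw [hf.smul_left, hp i, mul_zero] }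
    obtain ⟨g, hg, hg0⟩ := exists_perp_ne (F := F) (fun i => cov f (e i)) (show k < m by omega)
    have hge : ∀ i, f g (e i) = 0 := fun i => by rw [← hf.dot_cov, dotProduct_comm]; exact hg i
    obtain ⟨y, hy⟩ := hf.nondeg g hg0
    let L : (Fin m → F) →+ F :=
      { toFun := fun v => f g v, map_zero' := hf.zero_right _, map_add' := hf.add_right g }
    obtain ⟨z, hz, hzz⟩ := herm_norm_of_sub hf hσ (P := P) (g := g) hge
      (y := y - ∑ j, f y (e j) • e j)
      (fun i => by
        let R : (Fin m → F) →ₗ[F] F :=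
          { toFun := fun v => f v (e i)
            map_add' := fun p q => hf.add_left p q _
            map_smul' := fun c p => hf.smul_left c p _ }
        show R _ = 0
        rw [map_sub, map_sum]
        simp only [map_smul, smul_eq_mul]
        show f y (e i) - ∑ j, f y (e j) * f (e j) (e i) = 0
        simp [he])
      (by
        show L _ ≠ 0
        rw [map_sub, map_sum]
        show f g y - ∑ j, f g (f y (e j) • e j) ≠ 0
        simpa [hf.smul_right, hge] using hy)
      (r := 1) (map_one σ)
    refine ⟨Fin.cons z e, fun i j => ?_⟩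
    induction i using Fin.cases with
    | zero =>
      induction j using Fin.cases with
      | zero => simp [hzz]
      | succ j => simp [hz j, Fin.succ_ne_zero, Ne.symm]
    | succ i =>
      induction j using Fin.cases with
      | zero => simp [hf.eq_zero_symm (hz i), Fin.succ_ne_zero]
      | succ j => simp [he]

end Cfsg.Agent.Lib.TensorForm
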