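import Cfsg.Agent.Lib.TensorForm.Killed

/-!
A `p`-element normalising a root group and moving little: either it is in the root group, or the
subspace is exceptional.
-/

set_option autoImplicit false
set_option linter.unusedSectionVars false

namespace Cfsg.Agent.Lib.TensorForm

open Matrix Cfsg.Agent.Lib Cfsg.Agent.Lib.TensorMax

variable {F : Type*} [Field F] {a b : ℕ} {σ : F →+* F} {ε : F}
  {f₁ : (Fin a → F) → (Fin a → F) → F} {f₂ : (Fin b → F) → (Fin b → F) → F}
  {B : Matrix (Fin a) (Fin b) F → Matrix (Fin a) (Fin b) F → F}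
  {M : Subgroup (GL (Fin a × Fin b) F)}

/-- A linear map whose kernel has dimension at most one. -/
theorem finrank_le_range_succ {V W : Type*} [AddCommGroup V] [Module F V] [FiniteDimensional F V]
    [AddCommGroup W] [Module F W] [FiniteDimensional F W] (L : V →ₗ[F] W) (f : V →ₗ[F] F)
    (h : ∀ v, L v = 0 → f v = 0 → v = 0) :
    Module.finrank F V ≤ Module.finrank F (LinearMap.range L) + 1 := by
  have hinj : Function.Injective (L.rangeRestrict.prod f) := (injective_iff_map_eq_zero _).2 fun v hv =>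
    h v (congrArg Subtype.val (congrArg Prod.fst hv)) (congrArg Prod.snd hv)
  have := LinearMap.finrank_le_finrank_of_injective hinj
  rwa [Module.finrank_prod, Module.finrank_self] at this

/-- The left factor map. -/
def plL (b : ℕ) (x : Fin a → F) : (Fin b → F) →ₗ[F] Matrix (Fin a) (Fin b) F where
  toFun e := vecMulVec x e
  map_add' p q := pure_add_right x p q
  map_smul' r p := pure_smul_right r x p

theorem plL_apply (x : Fin a → F) (e : Fin b → F) : plL b x e = vecMulVec x e := rfl

/-- The orthogonal of a vector. -/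
def IsSForm.perp {m : ℕ} {f : (Fin m → F) → (Fin m → F) → F} (hf : IsSForm σ ε f) (c : Fin m → F) :
    Submodule F (Fin m → F) where
  carrier := {e | f e c = 0}
  zero_mem' := hf.zero_left c
  add_mem' := fun {p q} (hp : f p c = 0) (hq : f q c = 0) =>
    show f (p + q) c = 0 by rw [hf.add_left, hp, hq, add_zero]
  smul_mem' := fun r p (hp : f p c = 0) => show f (r • p) c = 0 by rw [hf.smul_left, hp, mul_zero]

theorem IsSForm.le_finrank_perp {m : ℕ} {f : (Fin m → F) → (Fin m → F) → F} (hf : IsSForm σ ε f)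
    (c : Fin m → F) : m ≤ Module.finrank F (hf.perp c) + 1 := by
  let L : (Fin m → F) →ₗ[F] F :=
    { toFun := fun e => f e c
      map_add' := fun x y => hf.add_left x y c
      map_smul' := fun t x => hf.smul_left t x c }
  have h := L.finrank_range_add_finrank_ker
  have h2 := Submodule.finrank_le (LinearMap.range L)
  rw [Module.finrank_self] at h2
  rw [Module.finrank_fin_fun] at h
  have e : LinearMap.ker L = hf.perp c := rfl
  rw [e] at h
  omega

/-- `W` lies in `Plc + x₁ ⊗ B` and conversely. -/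
def Exc (W : Submodule F (Matrix (Fin a) (Fin b) F)) (c : Fin b → F) : Prop :=
  ∃ x₁ : Fin a → F, x₁ ≠ 0 ∧ (∀ X ∈ W, ∃ m e, X = vecMulVec m c + vecMulVec x₁ e) ∧
    ∀ e, vecMulVec x₁ e ∈ W ⊔ LinearMap.range (pl a c)

theorem pow_eigen {g : GL (Fin a × Fin b) F} {X : Matrix (Fin a) (Fin b) F} {s : F}
    (h : op g X = s • X) : ∀ n : ℕ, op (g ^ n) X = s ^ n • X := by
  intro n
  induction n with
  | zero => rw [pow_zero, pow_zero, one_smul, op_one]
  | succ n ih => rw [pow_succ, op_mul, h, map_smul, ih, smul_smul, pow_succ, mul_comm]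

theorem eq_one_of_pow {p k : ℕ} [Fact p.Prime] [CharP F p] {s : F} (h : s ^ p ^ k = 1) : s = 1 := by
  have h1 : (s - 1) ^ p ^ k = 0 := by rw [sub_pow_char_pow, h, one_pow, sub_self]
  exact sub_eq_zero.1 (pow_eq_zero_iff (pow_ne_zero k (Fact.out (p := p.Prime)).ne_zero) |>.1 h1)

namespace Setup

variable (S : Setup σ ε f₁ f₂ B M)
include S

theorem exc_or_trans [Finite F] (hno : NoRad f₂ M) {p k : ℕ} [Fact p.Prime] [CharP F p]
    {g : GL (Fin a × Fin b) F} (hg : g ∈ M) {v : Fin b → F} (hv0 : v ≠ 0) (hv : f₂ v v = 0)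
    (hW : ¬ IsProd (wsub g v)) {c : Fin b → F} (hc0 : c ≠ 0) (hc : f₂ c c = 0)
    {z : GL (Fin a × Fin b) F} (hz : z ∈ M) (hzp : z ^ p ^ k = 1)
    (hfix : ∀ Z, Z *ᵥ cov f₂ c = 0 → (∀ X ∈ wsub g v, B X Z = 0) → op z Z = Z)
    (himg : ∀ Z, op z Z - Z ∈ wsub g v ⊔ LinearMap.range (pl a c))
    (hnorm : ∀ x, op z (vecMulVec x c) ∈ LinearMap.range (pl a c)) :
    Exc (wsub g v) c ∨
      ∃ l : F, ε * l + σ l = 0 ∧ ∀ X, op z X = X + l • vecMulVec (X *ᵥ cov f₂ c) c := by
  classical
  have h2 := S.form₂
  have ha := S.two_le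
  have h5 := S.four_le
  have hab := S.lt
  obtain ⟨φ₀, hφ₀⟩ := exists_dot_one hc0
  let α : (Fin a → F) →ₗ[F] (Fin a → F) := contr a φ₀ ∘ₗ op z ∘ₗ pl a c
  have hα : ∀ x, op z (vecMulVec x c) = vecMulVec (α x) c := fun x => by
    obtain ⟨m, hm⟩ := hnorm x
    rw [pl_apply] at hm
    show _ = vecMulVec (op z (vecMulVec x c) *ᵥ φ₀) c
    rw [← hm, pure_mulVec, hφ₀, one_smul]
  obtain ⟨β, hβ⟩ := S.levi hno hc0 hc hc0 hc hz hα
  have hαinj : ∀ {x}, α x = 0 → x = 0 := fun {x} h =>
    pl_injective hc0 ((op_injective z ((hα x).trans (by rw [h, pure_zero_left, map_zero]))).trans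
      (map_zero _).symm)
  let C : Submodule F (Matrix (Fin a) (Fin b) F) := cSp a f₂ c
  let D : C →ₗ[F] Matrix (Fin a) (Fin b) F := (op z - LinearMap.id).domRestrict C
  have hD : ∀ Z : C, D Z = op z (Z : Matrix (Fin a) (Fin b) F) - (Z : Matrix (Fin a) (Fin b) F) :=
    fun Z => rfl
  let π : C →ₗ[F] (Fin a → F) :=
    { toFun := fun Z i => B (Z : Matrix (Fin a) (Fin b) F) (op g (vecMulVec (Pi.single i 1) v))
      map_add' := fun X Y => funext fun i => S.add_left _ _ _
      map_smul' := fun r X => funext fun i => S.smul_left r _ _ }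
  have hπ : ∀ Z : C, π Z = 0 → ∀ X ∈ wsub g v, B X (Z : Matrix (Fin a) (Fin b) F) = 0 := by
    intro Z hZ X hX
    obtain ⟨x, rfl⟩ := mem_wsub.1 hX
    let L : (Fin a → F) →ₗ[F] F :=
      { toFun := fun w => B (op g (vecMulVec w v)) (Z : Matrix (Fin a) (Fin b) F)
        map_add' := fun p q => by rw [pure_add_left, map_add, S.add_left]
        map_smul' := fun r p => by rw [pure_smul_left, map_smul, S.smul_left]; rfl }
    show L x = 0
    rw [pi_eq_sum_univ' x, map_sum]
    refine Finset.sum_eq_zero fun i _ => ?_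
    rw [map_smul, show L (Pi.single i 1) = 0 from S.flip _ _ (congrFun hZ i), smul_zero]
  have hker : LinearMap.ker π ≤ LinearMap.ker D := fun Z hZ => by
    rw [LinearMap.mem_ker, hD, hfix _ Z.2 (hπ Z hZ), sub_self]
  have hDπ := D.finrank_range_add_finrank_ker
  have hππ := π.finrank_range_add_finrank_ker
  have hπa := Submodule.finrank_le (LinearMap.range π)
  rw [Module.finrank_fin_fun] at hπa
  have hrank : Module.finrank F (LinearMap.range D) ≤ a := by
    have := Submodule.finrank_mono hker
    omega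
  have hpure : ∀ (x : Fin a → F) e, f₂ e c = 0 → vecMulVec x e ∈ C := fun x e he => S.pl_mem_cSp he x
  by_cases hA : ∃ x, α x ∉ F ∙ x
  · obtain ⟨x, hx⟩ := hA
    left
    have hx0 : x ≠ 0 := fun e => hx (by rw [e, map_zero]; exact Submodule.zero_mem _)
    have hax0 : α x ≠ 0 := fun e => hx0 (hαinj e)
    obtain ⟨η, hη0, hη1⟩ := exists_sep (show x ∉ F ∙ α x from fun h => by
      obtain ⟨r, hr⟩ := Submodule.mem_span_singleton.1 h
      have hr0 : r ≠ 0 := fun e => hx0 (by rw [← hr, e, zero_smul])
      exact hx (Submodule.mem_span_singleton.2 ⟨r⁻¹, by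
        conv_lhs => rw [← hr, smul_smul, inv_mul_cancel₀ hr0, one_smul]⟩))
    have hη0' : η ⬝ᵥ α x = 0 := (dotProduct_comm _ _).trans (hη0 _ (Submodule.mem_span_singleton_self _))
    have hη1' : η ⬝ᵥ x = 1 := (dotProduct_comm _ _).trans hη1
    -- `e ↦ (z - 1)(x ⊗ e)` is injective modulo the pure space
    have hmod : ∀ e, f₂ e c = 0 → op z (vecMulVec x e) - vecMulVec x e ∈ LinearMap.range (pl a c) →
        e ∈ F ∙ c := by
      intro e he h
      obtain ⟨m, hm⟩ := Submodule.sub_mem _ (hβ x e he) h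
      have h' := congrArg (fun Z => η ᵥ* Z) hm
      rw [pl_apply, sub_sub_sub_cancel_left, vecMul_sub, vecMul_pure, vecMul_pure, vecMul_pure, hη0', hη1',
        one_smul, zero_smul, sub_zero] at h'
      exact Submodule.mem_span_singleton.2 ⟨_, h'⟩
    let L₁ : h2.perp c →ₗ[F] Matrix (Fin a) (Fin b) F :=
      ((op z - LinearMap.id) ∘ₗ plL b x).domRestrict (h2.perp c)
    have hL₁ : ∀ e : h2.perp c, L₁ e = op z (vecMulVec x e.1) - vecMulVec x e.1 := fun e => rfl
    have hL₁inj : Function.Injective L₁ := (injective_iff_map_eq_zero L₁).2 fun e he => by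
      rw [hL₁] at he
      obtain ⟨r, hr⟩ := Submodule.mem_span_singleton.1 (hmod _ e.2 (by rw [he]; exact Submodule.zero_mem _))
      rw [← hr, pure_smul_right, map_smul, hα, ← smul_sub, smul_eq_zero, sub_eq_zero] at he
      refine Subtype.ext ?_
      rcases he with rfl | he
      · rw [← hr, zero_smul]; rfl
      · exact absurd (show α x ∈ F ∙ x from (pl_injective hc0 he).symm ▸ Submodule.mem_span_singleton_self x) hx
    have hle : LinearMap.range L₁ ≤ LinearMap.range D := by
      rintro _ ⟨e, rfl⟩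
      exact ⟨⟨_, hpure x e.1 e.2⟩, rfl⟩
    have hperp := h2.le_finrank_perp c
    have hr1 := LinearMap.finrank_range_of_inj hL₁inj
    have hr2 := Submodule.finrank_mono hle
    have hrange := Submodule.eq_of_le_of_finrank_le hle (by omega)
    have hall : ∀ y e', f₂ e' c = 0 → ∃ e, f₂ e c = 0 ∧
        op z (vecMulVec y e') - vecMulVec y e' = op z (vecMulVec x e) - vecMulVec x e := by
      intro y e' he'
      have h : D ⟨_, hpure y e' he'⟩ ∈ LinearMap.range L₁ := hrange ▸ LinearMap.mem_range_self D _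
      obtain ⟨e, he⟩ := h
      exact ⟨e.1, e.2, he.symm⟩
    set x₁ := α x - x with hx₁
    have hx₁0 : x₁ ≠ 0 := fun e => hx (by
      rw [sub_eq_zero.1 e]; exact Submodule.mem_span_singleton_self x)
    have hone : ∀ y, α y - y ∈ F ∙ x₁ := by
      intro y
      obtain ⟨e, he, heq⟩ := hall y c hc
      obtain ⟨r, hr⟩ := Submodule.mem_span_singleton.1 (hmod e he (heq ▸ by
        rw [hα]; exact Submodule.sub_mem _ ⟨_, rfl⟩ ⟨_, rfl⟩))
      rw [← hr, pure_smul_right, map_smul, hα, hα, ← smul_sub] at heq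
      refine Submodule.mem_span_singleton.2 ⟨r, pl_injective hc0 ?_⟩
      rw [map_smul, map_sub, map_sub]
      exact heq.symm
    obtain ⟨η₁, hη₁⟩ := exists_dot_one hx₁0
    rw [dotProduct_comm] at hη₁
    let ξ : (Fin a → F) →ₗ[F] F :=
      { toFun := fun y => η₁ ⬝ᵥ (α y - y)
        map_add' := fun p q => by rw [map_add, add_sub_add_comm, dotProduct_add]
        map_smul' := fun r p => by rw [map_smul, ← smul_sub, dotProduct_smul]; rfl }
    have hξ : ∀ y, α y = y + ξ y • x₁ := fun y => by
      obtain ⟨r, hr⟩ := Submodule.mem_span_singleton.1 (hone y)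
      have : ξ y = r := by
        show η₁ ⬝ᵥ (α y - y) = r
        rw [← hr, dotProduct_smul, hη₁, smul_eq_mul, mul_one]
      rw [this, hr, add_sub_cancel]
    have hξx : ξ x = 1 := hη₁
    have hξx₁ : ξ x₁ = 0 := by
      have h : op z (vecMulVec x₁ c) = (1 + ξ x₁) • vecMulVec x₁ c := by
        rw [hα, hξ, add_smul, one_smul, pure_add_left, pure_smul_left]
      have h' := pow_eigen h (p ^ k)
      rw [hzp, op_one] at h'
      have h'' : (1 + ξ x₁) ^ p ^ k = 1 := by
        by_contra hne
        have : ((1 + ξ x₁) ^ p ^ k - 1) • vecMulVec x₁ c = 0 := by rw [sub_smul, ← h', one_smul, sub_self]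
        exact hx₁0 (pl_injective hc0 (((smul_eq_zero.1 this).resolve_left
          (sub_ne_zero.2 hne)).trans (map_zero _).symm))
      have := eq_one_of_pow h''
      rwa [add_eq_left] at this
    let Kx : Submodule F (Fin a → F) := LinearMap.ker ξ
    have hKx : a ≤ Module.finrank F Kx + 1 := by
      have h := ξ.finrank_range_add_finrank_ker
      have h' := Submodule.finrank_le (LinearMap.range ξ)
      rw [Module.finrank_self] at h'
      rw [Module.finrank_fin_fun] at h
      show a ≤ Module.finrank F (LinearMap.ker ξ) + 1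
      omega
    have ha3 : 3 ≤ a := by omega
    have hindep : ∀ {y}, y ∈ Kx → y ∉ F ∙ x₁ → y ∉ Submodule.span F {x, x₁} := by
      intro y hy hy₁ hmem
      obtain ⟨r, s, hrs⟩ := Submodule.mem_span_pair.1 hmem
      have h : ξ (r • x + s • x₁) = 0 := by rw [hrs]; exact hy
      rw [map_add, map_smul, map_smul, hξx, hξx₁, smul_eq_mul, smul_eq_mul, mul_one, mul_zero,
        add_zero] at h
      exact hy₁ (Submodule.mem_span_singleton.2 ⟨s, by rw [← hrs, h, zero_smul, zero_add]⟩)
    obtain ⟨y, hyK, hy₁⟩ : ∃ y ∈ Kx, y ∉ F ∙ x₁ := by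
      by_contra hall'
      push Not at hall'
      have := (Submodule.finrank_mono hall').trans (finrank_span_singleton hx₁0).le
      omega
    have hαK : ∀ u ∈ Kx, α u = u := fun u hu => by
      rw [hξ u, LinearMap.mem_ker.1 hu, zero_smul, add_zero]
    obtain ⟨ηy, hηy0, hηy1⟩ := exists_sep (hindep hyK hy₁)
    have hβ1 : ∀ e', f₂ e' c = 0 → β e' - e' ∈ F ∙ c := by
      intro e' he'
      obtain ⟨e, he, heq⟩ := hall y e' he'
      obtain ⟨m, hm⟩ := Submodule.sub_mem _ (hβ y e' he') (hβ x e he)
      have hm' : vecMulVec m c = vecMulVec y e' - vecMulVec (α y) (β e') + vecMulVec (α x) (β e)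
          - vecMulVec x e := by
        rw [pl_apply] at hm
        rw [hm, ← sub_add_cancel (op z (vecMulVec y e')) (vecMulVec y e'), heq]
        abel
      have h' := congrArg (fun Z => ηy ᵥ* Z) hm'
      have e1 : ηy ⬝ᵥ y = 1 := (dotProduct_comm _ _).trans hηy1
      have e2 : ηy ⬝ᵥ x = 0 := (dotProduct_comm _ _).trans (hηy0 x (Submodule.subset_span (by simp)))
      have e3 : ηy ⬝ᵥ α x = 0 := by
        rw [hξ x, dotProduct_add, dotProduct_smul, e2,
          (dotProduct_comm _ _).trans (hηy0 x₁ (Submodule.subset_span (by simp)))]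
        simp
      simp only [vecMul_pure, vecMul_add, vecMul_sub, hαK y hyK, e1, e2, e3, one_smul, zero_smul,
        sub_zero, add_zero] at h'
      exact Submodule.mem_span_singleton.2 ⟨-(ηy ⬝ᵥ m), by rw [neg_smul, h']; abel⟩
    have hz1 : ∀ u e, f₂ e c = 0 →
        op z (vecMulVec u e) - vecMulVec (α u) e ∈ LinearMap.range (pl a c) := by
      intro u e he
      obtain ⟨r, hr⟩ := Submodule.mem_span_singleton.1 (hβ1 e he)
      have h := Submodule.add_mem _ (hβ u e he) (⟨r • α u, rfl⟩ : pl a c (r • α u) ∈ LinearMap.range (pl a c))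
      convert h using 1
      rw [pl_apply, pure_smul_left, ← pure_smul_right, hr, pure_sub_right]
      abel
    -- `α` is a transvection isometry
    obtain ⟨d, hd, hdc, hdnc⟩ := S.exists_orth_iso c hc0
    obtain ⟨w, hwc, hwd⟩ := S.exists_dual_pair hdnc
    have hiso : ∀ u u', f₁ (α u) (α u') = f₁ u u' := by
      intro u u'
      have h := S.levi_iso hc hz (α := α) (fun m => by
        obtain ⟨x', hx'⟩ := LinearMap.injective_iff_surjective.1 ((injective_iff_map_eq_zero α).2
          (fun x h => hαinj h)) m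
        exact ⟨x', by rw [hα, hx']⟩) hβ (x := u) (x' := u') hwc hdc
      obtain ⟨r, hr⟩ := Submodule.mem_span_singleton.1 (hβ1 w hwc)
      obtain ⟨r', hr'⟩ := Submodule.mem_span_singleton.1 (hβ1 d hdc)
      have e : f₂ (β w) (β d) = 1 := by
        rw [← sub_add_cancel (β w) w, ← sub_add_cancel (β d) d, ← hr, ← hr', h2.add_left, h2.add_right,
          h2.add_right, h2.smul_left, h2.smul_left, h2.smul_right, h2.smul_right, hc, hwc, hwd,
          h2.eq_zero_symm hdc]
        ring
      rwa [e, hwd, one_mul, one_mul] at h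
    have hx₁f : ∀ u ∈ Kx, f₁ x₁ u = 0 := by
      intro u hu
      have h := hiso x u
      rw [hαK u hu, hξ x, hξx, one_smul, S.form₁.add_left, add_eq_left] at h
      exact h
    have hx₁i : f₁ x₁ x₁ = 0 := hx₁f x₁ hξx₁
    obtain ⟨e₁, he₁⟩ := S.form₁.exists_partner hx₁0
    obtain ⟨μ, hμ, hμξ⟩ := S.form₁.exists_coeff (T := ⊤) (w₀ := ε • e₁) hx₁i Submodule.mem_top
      (by rw [S.form₁.smul_right, S.form₁.symm e₁ x₁, he₁, map_one, mul_one, mul_comm, S.form₁.eps])
      ξ (fun u _ u' _ => by rw [← hξ, ← hξ]; exact hiso u u')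
    obtain ⟨t, ht, htk, htX⟩ := S.transA x₁ μ hx₁i hμ
    have hta : ∀ u e, op t (vecMulVec u e) = vecMulVec (α u) e := fun u e => by
      rw [htX, vecMul_pure, dotProduct_comm, S.form₁.dot_cov, hξ u, pure_add_left, pure_smul_right,
        pure_smul_left, smul_smul, hμξ u Submodule.mem_top]
    have hti : ∀ u e, op t⁻¹ (vecMulVec (α u) e) = vecMulVec u e := fun u e => by rw [← hta, op_inv_op]
    have hR : InR f₂ c (t⁻¹ * z) := by
      refine ⟨fun u => by rw [op_mul, hα, hti], fun X hX => ?_⟩
      have h' : op z X - op t X ∈ LinearMap.range (pl a c) := by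
        rw [eq_sum_rows X, map_sum, map_sum, ← Finset.sum_sub_distrib]
        exact Submodule.sum_mem _ fun i _ => by rw [hta]; exact hz1 _ _ (S.orth_row hX i)
      obtain ⟨m, hm⟩ := h'
      refine ⟨m - ξ m • x₁, ?_⟩
      have e : α (m - ξ m • x₁) = m := by
        rw [hξ, map_sub, map_smul, hξx₁, smul_zero, sub_zero, sub_add_cancel]
      rw [op_mul, ← sub_add_cancel (op z X) (op t X), map_add, op_inv_op, ← hm, add_sub_cancel_right,
        pl_apply, pl_apply, ← hti, e]
    obtain ⟨G, hG⟩ := exists_right_mul (by omega) hc0 (hno c hc0 hc _ (M.mul_mem (M.inv_mem ht) hz) hR) hR.1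
    have hzX : ∀ u e, op z (vecMulVec u e) = vecMulVec (α u) (e ᵥ* G) := fun u e => by
      have h := congrArg (op t) (hG (vecMulVec u e))
      rwa [op_mul, op_op_inv, vecMulVec_mul, hta] at h
    let U := wsub g v ⊔ LinearMap.range (pl a c)
    have hUdim : Module.finrank F U ≤ a + a :=
      finrank_sup_le (finrank_wsub g hv0).le (finrank_range_pl hc0).le
    have hPl : ∀ m, vecMulVec m c ∈ U := fun m => Submodule.mem_sup_right ⟨m, rfl⟩
    have hx₁U : ∀ e, f₂ e c = 0 → vecMulVec x₁ e ∈ U := fun e he => by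
      obtain ⟨m, hm⟩ := hz1 x e he
      have h := U.sub_mem (himg (vecMulVec x e)) (hPl m)
      convert h using 1
      rw [pl_apply] at hm
      rw [hm, hx₁, sub_eq_add_neg (α x), pure_add_left, pure_neg_left]
      abel
    obtain ⟨e₀, he₀⟩ := h2.exists_partner hc0
    have hu : e₀ ᵥ* G - e₀ ∈ F ∙ c := by
      by_contra hu
      have hy' : x ∉ Submodule.span F {y, x₁} := fun hmem => by
        obtain ⟨r, s, hrs⟩ := Submodule.mem_span_pair.1 hmem
        have h : ξ (r • y + s • x₁) = ξ x := by rw [hrs]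
        rw [map_add, map_smul, map_smul, hξx, hξx₁, show ξ y = 0 from hyK, smul_zero, smul_zero,
          add_zero] at h
        exact zero_ne_one h
      let T : (Fin a → F) × (h2.perp c) × F × F →ₗ[F] Matrix (Fin a) (Fin b) F :=
        (pl a c).coprod (((plL b x₁).domRestrict _).coprod
          ((LinearMap.toSpanSingleton F _ (vecMulVec y (e₀ ᵥ* G - e₀))).coprod
            (LinearMap.toSpanSingleton F _ (vecMulVec x (e₀ ᵥ* G - e₀) + vecMulVec x₁ (e₀ ᵥ* G)))))
      have hle : LinearMap.range T ≤ U := by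
        rintro _ ⟨⟨m, e, r, s⟩, rfl⟩
        have hY : ∀ u ∈ Kx, vecMulVec u (e₀ ᵥ* G - e₀) ∈ U := fun u hu => by
          have h := himg (vecMulVec u e₀)
          rwa [hzX, hαK u hu, ← pure_sub_right] at h
        have hW : vecMulVec x (e₀ ᵥ* G - e₀) + vecMulVec x₁ (e₀ ᵥ* G) ∈ U := by
          have h := himg (vecMulVec x e₀)
          rw [hzX, hξ x, hξx, one_smul, pure_add_left] at h
          convert h using 1
          rw [pure_sub_right]; abel
        exact U.add_mem (hPl m) (U.add_mem (hx₁U _ e.2)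
          (U.add_mem (U.smul_mem r (hY y hyK)) (U.smul_mem s hW)))
      let f : (Fin a → F) × (h2.perp c) × F × F →ₗ[F] F :=
        { toFun := fun q => η₁ ⬝ᵥ q.1
          map_add' := fun p q => dotProduct_add _ _ _
          map_smul' := fun r p => dotProduct_smul _ _ _ }
      have h := finrank_le_range_succ T f (fun ⟨m, e, r, s⟩ hT hf => by
        change vecMulVec m c + (vecMulVec x₁ e.1 + (r • vecMulVec y (e₀ ᵥ* G - e₀)
          + s • (vecMulVec x (e₀ ᵥ* G - e₀) + vecMulVec x₁ (e₀ ᵥ* G)))) = 0 at hT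
        change η₁ ⬝ᵥ m = 0 at hf
        have hrs : ∀ η : Fin a → F, η ⬝ᵥ x₁ = 0 → r * (η ⬝ᵥ y) + s * (η ⬝ᵥ x) = 0 := by
          intro η hηx
          by_contra hne
          have h' := congrArg (fun Z => η ᵥ* Z) hT
          simp only [vecMul_add, vecMul_smul, vecMul_pure, vecMul_zero, hηx, zero_smul, zero_add, add_zero,
            smul_smul, ← add_smul] at h'
          refine hu (Submodule.mem_span_singleton.2 ⟨-(η ⬝ᵥ m) / (r * (η ⬝ᵥ y) + s * (η ⬝ᵥ x)), ?_⟩)
          rw [div_eq_inv_mul, ← smul_smul, neg_smul, eq_neg_of_add_eq_zero_left h', neg_neg, smul_smul,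
            inv_mul_cancel₀ hne, one_smul]
        obtain ⟨η, hη0, hη1⟩ := exists_sep hy'
        have hs : s = 0 := by
          have := hrs η ((dotProduct_comm _ _).trans (hη0 _ (Submodule.subset_span (by simp))))
          rwa [(dotProduct_comm _ _).trans (hη0 y (Submodule.subset_span (by simp))),
            (dotProduct_comm _ _).trans hη1, mul_zero, zero_add, mul_one] at this
        subst hs
        obtain ⟨η', hη0', hη1'⟩ := exists_sep hy₁
        have hr : r = 0 := by
          have := hrs η' ((dotProduct_comm _ _).trans (hη0' _ (Submodule.mem_span_singleton_self _)))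
          rwa [(dotProduct_comm _ _).trans hη1', zero_mul, add_zero, mul_one] at this
        subst hr
        rw [zero_smul, zero_smul, add_zero, add_zero] at hT
        have h' := congrArg (fun Z => η₁ ᵥ* Z) hT
        simp only [vecMul_add, vecMul_pure, vecMul_zero, hη₁, hf, zero_smul, zero_add, one_smul] at h'
        have he : e = 0 := Subtype.ext h'
        rw [h', pure_zero_right, add_zero] at hT
        have hm : m = 0 := pl_injective hc0 (hT.trans (map_zero _).symm)
        subst he hm
        rfl)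
      have h' := Submodule.finrank_mono hle
      rw [Module.finrank_prod, Module.finrank_prod, Module.finrank_prod, Module.finrank_fin_fun,
        Module.finrank_self] at h
      omega
    have hfull : ∀ e, vecMulVec x₁ e ∈ U := by
      obtain ⟨γ, hγ⟩ := Submodule.mem_span_singleton.1 hu
      have h0 : vecMulVec x₁ e₀ ∈ U := by
        have h := U.sub_mem (himg (vecMulVec x e₀)) (hPl (γ • α x))
        convert h using 1
        rw [hzX, hx₁, sub_eq_add_neg (α x), pure_add_left, pure_neg_left, pure_smul_left,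
          ← pure_smul_right, hγ, pure_sub_right]
        abel
      intro e
      have he : e = (e - f₂ e c • e₀) + f₂ e c • e₀ := by abel
      rw [he, pure_add_right, pure_smul_right]
      exact U.add_mem (hx₁U _ (by rw [h2.sub_left, h2.smul_left, he₀, mul_one, sub_self]))
        (U.smul_mem _ h0)
    refine ⟨x₁, hx₁0, fun X hX => ?_, hfull⟩
    let T : (Fin a → F) × (Fin b → F) →ₗ[F] Matrix (Fin a) (Fin b) F := (pl a c).coprod (plL b x₁)
    have hle : LinearMap.range T ≤ U := by
      rintro _ ⟨⟨m, e⟩, rfl⟩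
      exact U.add_mem (hPl m) (hfull e)
    let f : (Fin a → F) × (Fin b → F) →ₗ[F] F :=
      { toFun := fun q => η₁ ⬝ᵥ q.1
        map_add' := fun p q => dotProduct_add _ _ _
        map_smul' := fun r p => dotProduct_smul _ _ _ }
    have h := finrank_le_range_succ T f (fun ⟨m, e⟩ hT hf => by
      change vecMulVec m c + vecMulVec x₁ e = 0 at hT
      change η₁ ⬝ᵥ m = 0 at hf
      have h' := congrArg (fun Z => η₁ ᵥ* Z) hT
      simp only [vecMul_add, vecMul_pure, vecMul_zero, hη₁, hf, zero_smul, zero_add, one_smul] at h'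
      subst h'
      rw [pure_zero_right, add_zero] at hT
      have hm : m = 0 := pl_injective hc0 (hT.trans (map_zero _).symm)
      subst hm
      rfl)
    rw [Module.finrank_prod, Module.finrank_fin_fun, Module.finrank_fin_fun] at h
    have h' := Submodule.finrank_mono hle
    have hTU := Submodule.eq_of_le_of_finrank_le hle (by omega)
    obtain ⟨⟨m, e⟩, hme⟩ := (hTU ▸ Submodule.mem_sup_left hX : X ∈ LinearMap.range T)
    exact ⟨m, e, hme.symm⟩
  · right
    push Not at hA
    obtain ⟨s, hs⟩ := exists_scalar_of_eigen α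
      (fun u => (Submodule.mem_span_singleton.1 (hA u)).imp fun r hr => hr.symm)
    obtain ⟨x₀, hx₀⟩ : ∃ x : Fin a → F, x ≠ 0 := ⟨Pi.single ⟨0, by omega⟩ 1, by simp⟩
    have hs1 : s = 1 := by
      have h : op z (vecMulVec x₀ c) = s • vecMulVec x₀ c := by rw [hα, hs, pure_smul_left]
      have h' := pow_eigen h (p ^ k)
      rw [hzp, op_one] at h'
      refine eq_one_of_pow (p := p) (k := k) ?_
      by_contra hne
      have : (s ^ p ^ k - 1) • vecMulVec x₀ c = 0 := by rw [sub_smul, ← h', one_smul, sub_self]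
      exact hx₀ (pl_injective hc0 (((smul_eq_zero.1 this).resolve_left
        (sub_ne_zero.2 hne)).trans (map_zero _).symm))
    have hzc : ∀ u, op z (vecMulVec u c) = vecMulVec u c := fun u => by rw [hα, hs, hs1, one_smul]
    have hlt : Module.finrank F (LinearMap.range D) < a := by
      obtain ⟨Y, hY, hYc⟩ : ∃ Y ∈ wsub g v, Y *ᵥ cov f₂ c ≠ 0 := by
        by_contra hall
        push Not at hall
        exact hW (S.prod_of_killed hno hg hv0 hv hc0 hc hall)
      obtain ⟨u, hu⟩ := S.form₁.nondeg _ hYc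
      have hP : vecMulVec u c ∈ C := hpure u c hc
      have hlt' : LinearMap.ker π < LinearMap.ker D := by
        refine lt_of_le_of_ne hker fun e => hu ?_
        have hmem : (⟨_, hP⟩ : C) ∈ LinearMap.ker π := by
          rw [e, LinearMap.mem_ker, hD, hzc, sub_self]
        rw [← S.pure]
        exact hπ _ hmem Y hY
      have := Submodule.finrank_lt_finrank_of_lt hlt'
      omega
    have hβ1 : ∀ e, f₂ e c = 0 → β e - e ∈ F ∙ c := by
      intro e he
      by_contra hne
      obtain ⟨φ, hφ0, hφ1⟩ := exists_sep hne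
      let L : (Fin a → F) →ₗ[F] Matrix (Fin a) (Fin b) F := (op z - LinearMap.id) ∘ₗ pl a e
      have hLinj : Function.Injective L := (injective_iff_map_eq_zero L).2 fun u hu => by
        change op z (vecMulVec u e) - vecMulVec u e = 0 at hu
        obtain ⟨m, hm⟩ := hβ u e he
        rw [pl_apply, hs, hs1, one_smul, sub_eq_zero.1 hu, ← pure_sub_right] at hm
        have h' := congrArg (fun Z => Z *ᵥ φ) hm
        simp only [pure_mulVec, hφ0 c (Submodule.mem_span_singleton_self c), zero_smul] at h'
        rw [← neg_sub, neg_dotProduct, hφ1, neg_smul, one_smul] at h'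
        exact neg_eq_zero.1 h'.symm
      have hle : LinearMap.range L ≤ LinearMap.range D := by
        rintro _ ⟨u, rfl⟩
        exact ⟨⟨_, hpure u e he⟩, rfl⟩
      have := Submodule.finrank_mono hle
      rw [LinearMap.finrank_range_of_inj hLinj, Module.finrank_fin_fun] at this
      omega
    have hR : InR f₂ c z := by
      refine ⟨hzc, fun X hX => ?_⟩
      rw [eq_sum_rows X, map_sum, ← Finset.sum_sub_distrib]
      refine Submodule.sum_mem _ fun i _ => ?_
      obtain ⟨r, hr⟩ := Submodule.mem_span_singleton.1 (hβ1 _ (S.orth_row hX i))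
      have h := Submodule.add_mem _ (hβ (Pi.single i 1) _ (S.orth_row hX i))
        (⟨r • Pi.single i 1, rfl⟩ : pl a c (r • Pi.single i 1) ∈ LinearMap.range (pl a c))
      convert h using 1
      rw [pl_apply, pure_smul_left, ← pure_smul_right, hr, hs, hs1, one_smul, pure_sub_right]
      abel
    obtain ⟨ψ, G, hG, hψc, hψ⟩ := exists_psi_of_kron (by omega) hc0 (hno c hc0 hc _ hz hR) hR
    have hψ0 : ∀ e, f₂ e c = 0 → e ⬝ᵥ ψ = 0 := by
      intro e he
      by_contra hne
      let L : (Fin a → F) →ₗ[F] Matrix (Fin a) (Fin b) F := (op z - LinearMap.id) ∘ₗ pl a e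
      have hLinj : Function.Injective L := (injective_iff_map_eq_zero L).2 fun u hu => by
        change op z (vecMulVec u e) - vecMulVec u e = 0 at hu
        rw [hψ _ (hpure u e he), add_sub_cancel_left, pure_mulVec, pure_smul_left, smul_eq_zero] at hu
        exact pl_injective hc0 ((hu.resolve_left hne).trans (map_zero _).symm)
      have hle : LinearMap.range L ≤ LinearMap.range D := by
        rintro _ ⟨u, rfl⟩
        exact ⟨⟨_, hpure u e he⟩, rfl⟩
      have := Submodule.finrank_mono hle
      rw [LinearMap.finrank_range_of_inj hLinj, Module.finrank_fin_fun] at this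
      omega
    obtain ⟨x, y, hxy⟩ := S.exists_pair
    have hGc : ∀ e, f₂ e c = 0 → e ᵥ* G = e := fun e he => by
      obtain ⟨η, hη⟩ := exists_dot_one hx₀
      rw [dotProduct_comm] at hη
      have h := congrArg (fun Z => η ᵥ* Z) (hψ _ (hpure x₀ e he))
      rw [hG, pure_mulVec, hψ0 e he, zero_smul, pure_zero_left, add_zero, vecMulVec_mul,
        vecMul_pure, vecMul_pure, hη, one_smul, one_smul] at h
      exact h
    have hGiso : ∀ e e', f₂ (e ᵥ* G) (e' ᵥ* G) = f₂ e e' := fun e e' => by
      have h := S.iso z hz (vecMulVec x e) (vecMulVec y e')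
      rw [hG, hG, vecMulVec_mul, vecMulVec_mul, S.pure_pure, S.pure_pure] at h
      exact mul_right_cancel₀ hxy h
    obtain ⟨e₀, he₀⟩ := h2.exists_partner hc0
    set u := e₀ ᵥ* G - e₀ with hu
    have huc : u ∈ F ∙ c := by
      by_contra hne
      obtain ⟨e, he, he'⟩ := S.exists_dual_pair hne
      have h := hGiso e e₀
      rw [hGc e he, ← sub_add_cancel (e₀ ᵥ* G) e₀, ← hu, h2.add_right, he', add_eq_right] at h
      exact one_ne_zero h
    obtain ⟨l, hl⟩ := Submodule.mem_span_singleton.1 huc
    have he0G : e₀ ᵥ* G = e₀ + l • c := by rw [hl, hu, add_sub_cancel]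
    have hskew : ε * l + σ l = 0 := by
      have h := hGiso e₀ e₀
      rw [he0G, h2.add_left, h2.add_right, h2.add_right, h2.smul_left, h2.smul_left, h2.smul_right,
        h2.smul_right, hc, h2.symm e₀ c, he₀, map_one] at h
      linear_combination h
    refine ⟨l, hskew, fun X => ?_⟩
    rw [hG]
    refine funext fun i => ?_
    show (X i) ᵥ* G = _
    conv_lhs => rw [← sub_add_cancel (X i) (f₂ (X i) c • e₀), add_vecMul, smul_vecMul, he0G,
      hGc _ (by rw [h2.sub_left, h2.smul_left, he₀, mul_one, sub_self])]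
    funext j
    have e : (X *ᵥ cov f₂ c) i = f₂ (X i) c := h2.dot_cov (X i) c
    simp only [Matrix.add_apply, Matrix.smul_apply, vecMulVec_apply, e, Pi.add_apply, Pi.sub_apply,
      Pi.smul_apply, smul_eq_mul]
    ring

end Setup

end Cfsg.Agent.Lib.TensorForm
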