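import Cfsg.Agent.Lib.TensorForm.Levi

/-!
Without radical elements, an image of a pure isotropic space orthogonal to a pure isotropic space is pure.
-/

set_option autoImplicit false
set_option linter.unusedSectionVars false

namespace Cfsg.Agent.Lib.TensorForm

open Matrix Cfsg.Agent.Lib Cfsg.Agent.Lib.TensorMax

variable {F : Type*} [Field F] {a b : ℕ} {σ : F →+* F} {ε : F}
  {f₁ : (Fin a → F) → (Fin a → F) → F} {f₂ : (Fin b → F) → (Fin b → F) → F}
  {B : Matrix (Fin a) (Fin b) F → Matrix (Fin a) (Fin b) F → F}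
  {M : Subgroup (GL (Fin a × Fin b) F)}

theorem pure_sub_right (x : Fin a → F) (p q : Fin b → F) :
    vecMulVec x (p - q) = vecMulVec x p - vecMulVec x q := by
  ext i j
  simp [vecMulVec_apply, mul_sub]

theorem eq_sum_rows (X : Matrix (Fin a) (Fin b) F) : X = ∑ i, vecMulVec (Pi.single i 1) (X i) := by
  ext p q
  simp [Matrix.sum_apply, vecMulVec_apply, Pi.single_apply]

theorem finrank_sup_le {U T : Submodule F (Matrix (Fin a) (Fin b) F)} {k m : ℕ}
    (hU : Module.finrank F U ≤ k) (hT : Module.finrank F T ≤ m) :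
    Module.finrank F (U ⊔ T : Submodule F (Matrix (Fin a) (Fin b) F)) ≤ k + m := by
  have := Submodule.finrank_sup_add_finrank_inf_eq U T
  omega

namespace Setup

variable (S : Setup σ ε f₁ f₂ B M)
include S

theorem exists_pair : ∃ x y : Fin a → F, f₁ x y ≠ 0 := by
  obtain ⟨y, hy⟩ := S.form₁.nondeg (Pi.single ⟨0, by have := S.two_le; omega⟩ 1) (by simp)
  exact ⟨_, y, hy⟩

theorem orth_row {c : Fin b → F} {X : Matrix (Fin a) (Fin b) F} (hX : X *ᵥ cov f₂ c = 0) (i : Fin a) :
    f₂ (X i) c = 0 := by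
  rw [← S.form₂.dot_cov]; exact congrFun hX i

theorem cov_notMem {c d : Fin b → F} (h : d ∉ F ∙ c) : cov f₂ d ∉ F ∙ cov f₂ c := by
  intro hm
  obtain ⟨r, hr⟩ := Submodule.mem_span_singleton.1 hm
  refine h (Submodule.mem_span_singleton.2 ⟨σ r, S.form₂.cov_injective ?_⟩)
  rw [S.form₂.cov_smul, S.form₂.invol, hr]

/-- A vector orthogonal to `c` and pairing to one with `d`. -/
theorem exists_dual_pair {c d : Fin b → F} (h : d ∉ F ∙ c) : ∃ w, f₂ w c = 0 ∧ f₂ w d = 1 := by
  obtain ⟨w, hw0, hw1⟩ := exists_sep (S.cov_notMem h)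
  exact ⟨w, by rw [← S.form₂.dot_cov, dotProduct_comm]; exact hw0 _ (Submodule.mem_span_singleton_self _),
    by rw [← S.form₂.dot_cov, dotProduct_comm]; exact hw1⟩

theorem plc_orth {c : Fin b → F} {X : Matrix (Fin a) (Fin b) F} (hX : X *ᵥ cov f₂ c = 0)
    (x : Fin a → F) : B X (vecMulVec x c) = 0 := by
  rw [S.pure, hX, S.form₁.zero_left]

theorem exists_conj_trans {g : GL (Fin a × Fin b) F} (hg : g ∈ M) {v : Fin b → F} (hv : f₂ v v = 0) :
    ∃ y ∈ M, ∃ l : F, l ≠ 0 ∧
      ∀ X, op y X = X + l • op g (vecMulVec (op g⁻¹ X *ᵥ cov f₂ v) v) := by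
  obtain ⟨l, hl0, hl⟩ := S.skew
  obtain ⟨t, ht, -, htX⟩ := S.transB v l hv hl
  refine ⟨g * t * g⁻¹, M.mul_mem (M.mul_mem hg ht) (M.inv_mem hg), l, hl0, fun X => ?_⟩
  rw [op_mul, op_mul, htX, map_add, map_smul, op_op_inv]

theorem prod_of_killed [Finite F] (hno : NoRad f₂ M) {g : GL (Fin a × Fin b) F} (hg : g ∈ M)
    {v : Fin b → F} (hv0 : v ≠ 0) (hv : f₂ v v = 0) {c : Fin b → F} (hc0 : c ≠ 0) (hc : f₂ c c = 0)
    (hkill : ∀ X ∈ wsub g v, X *ᵥ cov f₂ c = 0) : IsProd (wsub g v) := by
  classical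
  have h2 := S.form₂
  have ha := S.two_le
  obtain ⟨y, hy, l, hl0, hyX⟩ := S.exists_conj_trans hg hv
  have hyW : ∀ X, op y X - X ∈ wsub g v := fun X => by
    rw [hyX, add_sub_cancel_left]; exact Submodule.smul_mem _ _ (mem_wsub.2 ⟨_, rfl⟩)
  have hperp : ∀ x, ∀ Z ∈ wsub g v, B (vecMulVec x c) Z = 0 := fun x Z hZ =>
    S.flip _ _ (S.plc_orth (hkill Z hZ) x)
  have hfix : ∀ x, op y (vecMulVec x c) = vecMulVec x c := fun x => by
    rw [hyX, S.inv_mulVec_eq_zero hg (fun Z hZ => S.plc_orth (hkill Z hZ) x), pure_zero_left, map_zero, smul_zero, add_zero]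
  have hkron : y ∈ Cfsg.Geo.kroneckerSubgroup a b F := by
    obtain ⟨β, hβ⟩ := S.levi hno hc0 hc hc0 hc hy (α := LinearMap.id) hfix
    let U := wsub g v ⊔ LinearMap.range (pl a c)
    have hin : ∀ (x : Fin a → F) e, f₂ e c = 0 → vecMulVec x (β e - e) ∈ U := fun x e he => by
      have h : vecMulVec x (β e - e)
          = (op y (vecMulVec x e) - vecMulVec x e)
            - (op y (vecMulVec x e) - vecMulVec (LinearMap.id (R := F) x) (β e)) := by
        rw [pure_sub_right, LinearMap.id_apply]
        abel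
      rw [h]
      exact Submodule.sub_mem _ (Submodule.mem_sup_left (hyW _)) (Submodule.mem_sup_right (hβ x e he))
    by_cases hall : ∀ e, f₂ e c = 0 → β e - e ∈ F ∙ c
    · refine hno c hc0 hc y hy ⟨hfix, fun X hX => ?_⟩
      rw [eq_sum_rows X, map_sum, ← Finset.sum_sub_distrib]
      refine Submodule.sum_mem _ fun i _ => ?_
      obtain ⟨r, hr⟩ := Submodule.mem_span_singleton.1 (hall _ (S.orth_row hX i))
      have h := Submodule.add_mem _ (hβ (Pi.single i 1) _ (S.orth_row hX i))
        (⟨r • Pi.single i 1, rfl⟩ : pl a c (r • Pi.single i 1) ∈ LinearMap.range (pl a c))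
      convert h using 1
      rw [pl_apply, pure_smul_left, ← pure_smul_right, hr, LinearMap.id_apply, pure_sub_right]
      abel
    · push Not at hall
      obtain ⟨e₀, he₀, hd⟩ := hall
      set d := β e₀ - e₀ with hdd
      have hUsing : ∀ X ∈ U, ∀ Y ∈ U, B X Y = 0 := by
        intro X hX Y hY
        obtain ⟨X₁, hX₁, X₂, ⟨x, rfl⟩, rfl⟩ := Submodule.mem_sup.1 hX
        obtain ⟨Y₁, hY₁, Y₂, ⟨z, rfl⟩, rfl⟩ := Submodule.mem_sup.1 hY
        rw [pl_apply, pl_apply, S.add_left, S.add_right, S.add_right, S.wsub_singular hg hv hX₁ hY₁,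
          S.plc_orth (hkill X₁ hX₁), hperp x Y₁ hY₁, S.pure_pure, hc]
        ring
      obtain ⟨p, p', hpp⟩ := S.exists_pair
      have hdd0 : f₂ d d = 0 := by
        have h := hUsing _ (hin p e₀ he₀) _ (hin p' e₀ he₀)
        rw [S.pure_pure] at h
        exact (mul_eq_zero.1 h).resolve_right hpp
      have hdc : f₂ d c = 0 := by
        have h := hUsing _ (hin p e₀ he₀) (vecMulVec p' c) (Submodule.mem_sup_right ⟨p', rfl⟩)
        rw [S.pure_pure] at h
        exact (mul_eq_zero.1 h).resolve_right hpp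
      have hcd := h2.eq_zero_symm hdc
      have hspan : ∀ e, f₂ e c = 0 → β e - e ∈ Submodule.span F {c, d} := by
        intro e he
        by_contra hne
        let T : (Fin a → F) × (Fin a → F) × (Fin a → F) →ₗ[F] Matrix (Fin a) (Fin b) F :=
          (pl a c).coprod ((pl a d).coprod (pl a (β e - e)))
        have hTinj : Function.Injective T := (injective_iff_map_eq_zero T).2 fun ⟨x, x', x''⟩ h => by
          change vecMulVec x c + (vecMulVec x' d + vecMulVec x'' (β e - e)) = 0 at h
          obtain ⟨φ, hφ0, hφ1⟩ := exists_sep hne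
          obtain ⟨φ', hφ0', hφ1'⟩ := exists_sep hd
          have h3 := congrArg (fun Z => Z *ᵥ φ) h
          simp only [add_mulVec, pure_mulVec, hφ1, hφ0 c (Submodule.subset_span (by simp)),
            hφ0 d (Submodule.subset_span (by simp)), zero_smul, zero_mulVec, zero_add, one_smul] at h3
          subst h3
          rw [pure_zero_left, add_zero] at h
          have h4 := congrArg (fun Z => Z *ᵥ φ') h
          simp only [add_mulVec, pure_mulVec, hφ1', hφ0' c (Submodule.mem_span_singleton_self c),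
            zero_smul, zero_mulVec, zero_add, one_smul] at h4
          subst h4
          rw [pure_zero_left, add_zero] at h
          have h5 : x = 0 := pl_injective hc0 (h.trans (map_zero _).symm)
          simp [h5]
        have hle : LinearMap.range T ≤ U := by
          rintro _ ⟨⟨x, x', x''⟩, rfl⟩
          exact U.add_mem (Submodule.mem_sup_right ⟨x, rfl⟩) (U.add_mem (hin x' e₀ he₀) (hin x'' e he))
        have h := (LinearMap.finrank_range_of_inj hTinj).symm.trans_le (Submodule.finrank_mono hle)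
        have hU : Module.finrank F U ≤ a + a :=
          finrank_sup_le (finrank_wsub g hv0).le (finrank_range_pl hc0).le
        rw [Module.finrank_prod, Module.finrank_prod, Module.finrank_fin_fun] at h
        omega
      obtain ⟨φd, hφd0, hφd1⟩ := exists_sep hd
      have hk : ∀ e, f₂ e c = 0 → ∃ r : F, β e = e + ((β e - e) ⬝ᵥ φd) • d + r • c := by
        intro e he
        obtain ⟨r, s, hrs⟩ := Submodule.mem_span_pair.1 (hspan e he)
        refine ⟨r, ?_⟩
        have hs : (β e - e) ⬝ᵥ φd = s := by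
          rw [← hrs, add_dotProduct, smul_dotProduct, smul_dotProduct, hφd1,
            hφd0 c (Submodule.mem_span_singleton_self c)]
          simp
        rw [hs, add_assoc, add_comm (s • d), hrs, add_sub_cancel]
      obtain ⟨w, hwc, hwd⟩ := S.exists_dual_pair hd
      let Tc : Submodule F (Fin b → F) :=
        { carrier := {e | f₂ e c = 0}
          zero_mem' := h2.zero_left c
          add_mem' := fun {p q} (hp : f₂ p c = 0) (hq : f₂ q c = 0) =>
            show f₂ (p + q) c = 0 by rw [h2.add_left, hp, hq, add_zero]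
          smul_mem' := fun r p (hp : f₂ p c = 0) =>
            show f₂ (r • p) c = 0 by rw [h2.smul_left, hp, mul_zero] }
      obtain ⟨μ, hμ, hμk⟩ := h2.exists_coeff (T := Tc) (w₀ := ε • w) hdd0
        (show f₂ (ε • w) c = 0 by rw [h2.smul_left, hwc, mul_zero])
        (by rw [h2.smul_right, h2.symm w d, hwd, map_one, mul_one, mul_comm, h2.eps])
        (fun e => (β e - e) ⬝ᵥ φd) (fun e (he : f₂ e c = 0) e' (he' : f₂ e' c = 0) => by
          obtain ⟨r, hr⟩ := hk e he
          obtain ⟨r', hr'⟩ := hk e' he'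
          have h := S.levi_iso hc hy (α := LinearMap.id) (fun m => ⟨m, hfix m⟩) hβ (x := p) (x' := p') he he'
          rw [LinearMap.id_apply, LinearMap.id_apply] at h
          have h' := mul_right_cancel₀ hpp h
          rw [hr, hr'] at h'
          simp only [h2.add_left, h2.add_right, h2.smul_left, h2.smul_right, hc, hcd, hdc, he,
            h2.eq_zero_symm he', mul_zero, add_zero, zero_add] at h' ⊢
          exact h')
      obtain ⟨t, ht, htk, htX⟩ := S.transB d μ hdd0 hμ
      have htfix : ∀ x, op t (vecMulVec x c) = vecMulVec x c := fun x => by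
        rw [htX, pure_mulVec, h2.dot_cov, hcd, zero_smul, pure_zero_left, smul_zero, add_zero]
      have htC : ∀ X, X *ᵥ cov f₂ c = 0 → op t⁻¹ X *ᵥ cov f₂ c = 0 := fun X hX =>
        S.op_cSp (M.inv_mem ht) (fun m => ⟨m, by conv_lhs => rw [← htfix m, op_inv_op]⟩) hX
      have hR : InR f₂ c (y * t⁻¹) := by
        refine ⟨fun x => ?_, fun X hX => ?_⟩
        · rw [op_mul]
          conv_lhs => rw [← htfix x, op_inv_op, hfix]
        · have hZ := htC X hX
          have e1 : op (y * t⁻¹) X - X = op y (op t⁻¹ X) - op t (op t⁻¹ X) := by rw [op_mul, op_op_inv]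
          rw [e1]
          generalize op t⁻¹ X = Z at hZ ⊢
          rw [eq_sum_rows Z, map_sum, map_sum, ← Finset.sum_sub_distrib]
          refine Submodule.sum_mem _ fun i _ => ?_
          obtain ⟨r, hr⟩ := hk _ (S.orth_row hZ i)
          have h := Submodule.add_mem _ (hβ (Pi.single i 1) _ (S.orth_row hZ i))
            (⟨r • Pi.single i 1, rfl⟩ : pl a c (r • Pi.single i 1) ∈ LinearMap.range (pl a c))
          convert h using 1
          rw [pl_apply, htX, pure_mulVec, h2.dot_cov, LinearMap.id_apply, hr, hμk _ (S.orth_row hZ i)]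
          simp only [pure_add_right, pure_smul_right, pure_smul_left]
          module
      have h := Subgroup.mul_mem _ (hno c hc0 hc _ (M.mul_mem hy (M.inv_mem ht)) hR) htk
      rwa [inv_mul_cancel_right] at h
  obtain ⟨G, hG⟩ := exists_right_mul (by omega) hc0 hkron hfix
  obtain ⟨e, he⟩ := h2.exists_partner hv0
  obtain ⟨e', he'⟩ : ∃ e', e' ᵥ* G - e' ≠ 0 := by
    by_contra hall
    push Not at hall
    obtain ⟨m, hm⟩ : ∃ m : Fin a → F, m ≠ 0 := ⟨Pi.single ⟨0, by omega⟩ 1, by simp⟩
    have h := hyX (op g (vecMulVec m e))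
    have hid : ∀ X : Matrix (Fin a) (Fin b) F, X * G = X :=
      fun X => funext fun i => sub_eq_zero.1 (hall (X i))
    rw [hG, hid, op_inv_op, pure_mulVec, h2.dot_cov, he, one_smul, left_eq_add, smul_eq_zero] at h
    exact hm (pl_injective hv0
      ((op_injective g ((h.resolve_left hl0).trans (map_zero _).symm)).trans (map_zero _).symm))
  refine ⟨e' ᵥ* G - e', he', (Submodule.eq_of_le_of_finrank_eq ?_
    (by rw [finrank_wsub g hv0, finrank_range_pl he'])).symm⟩
  rintro _ ⟨x, rfl⟩
  have h := hyW (vecMulVec x e')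
  rw [hG, vecMulVec_mul] at h
  convert h using 1
  rw [pl_apply, pure_sub_right]

end Setup

end Cfsg.Agent.Lib.TensorForm
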