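import Cfsg.Agent.Lib.TensorForm.Basic

/-!
Without radical elements, a map between pure isotropic spaces induces a tensor map on the orthogonals.
-/

set_option autoImplicit false
set_option linter.unusedSectionVars false

namespace Cfsg.Agent.Lib.TensorForm

open Matrix Cfsg.Agent.Lib Cfsg.Agent.Lib.TensorMax
open scoped Kronecker

variable {F : Type*} [Field F] {a b : ℕ} {σ : F →+* F} {ε : F}
  {f₁ : (Fin a → F) → (Fin a → F) → F} {f₂ : (Fin b → F) → (Fin b → F) → F}
  {B : Matrix (Fin a) (Fin b) F → Matrix (Fin a) (Fin b) F → F}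
  {M : Subgroup (GL (Fin a × Fin b) F)}

/-- A Kronecker product fixing a pure space pointwise only moves the second factor. -/
theorem exists_right_mul (ha : 1 ≤ a) {c : Fin b → F} (hc : c ≠ 0) {g : GL (Fin a × Fin b) F}
    (hg : g ∈ Cfsg.Geo.kroneckerSubgroup a b F)
    (hfix : ∀ x, op g (vecMulVec x c) = vecMulVec x c) :
    ∃ G : Matrix (Fin b) (Fin b) F, ∀ X, op g X = X * G := by
  classical
  obtain ⟨A, C, hAC⟩ := hg
  have hop : ∀ X, op g X = (A : Matrix (Fin a) (Fin a) F) * X * (C : Matrix (Fin b) (Fin b) F)ᵀ :=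
    op_kron hAC
  obtain ⟨ξc, hξc⟩ := exists_dot_one hc
  have hpure : ∀ x, vecMulVec ((A : Matrix (Fin a) (Fin a) F) *ᵥ x)
      ((C : Matrix (Fin b) (Fin b) F) *ᵥ c) = vecMulVec x c := fun x => by
    have h := hfix x
    rwa [hop, mul_vecMulVec, vecMulVec_mul, vecMul_transpose] at h
  set s := ((C : Matrix (Fin b) (Fin b) F) *ᵥ c) ⬝ᵥ ξc with hs
  have hA : ∀ x, s • ((A : Matrix (Fin a) (Fin a) F) *ᵥ x) = x := fun x => by
    have h := congrArg (fun Z => Z *ᵥ ξc) (hpure x)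
    simpa [pure_mulVec, hξc] using h
  have hs0 : s ≠ 0 := by
    intro e
    have h := hA (Pi.single ⟨0, ha⟩ 1)
    rw [e, zero_smul] at h
    have := congrFun h ⟨0, ha⟩
    simp at this
  refine ⟨s⁻¹ • (C : Matrix (Fin b) (Fin b) F)ᵀ, fun X => ?_⟩
  have hAX : (A : Matrix (Fin a) (Fin a) F) * X = s⁻¹ • X := by
    refine Matrix.ext_iff_mulVec.2 fun w => ?_
    rw [← mulVec_mulVec, smul_mulVec]
    have := hA (X *ᵥ w)
    conv_rhs => rw [← this]
    rw [smul_smul, inv_mul_cancel₀ hs0, one_smul]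
  rw [hop, hAX, Matrix.smul_mul, Matrix.mul_smul]

/-- A Kronecker product in the radical is given by a covector. -/
theorem exists_psi_of_kron (ha : 1 ≤ a) {c : Fin b → F} (hc : c ≠ 0) {g : GL (Fin a × Fin b) F}
    (hg : g ∈ Cfsg.Geo.kroneckerSubgroup a b F) (hR : InR f₂ c g) :
    ∃ (ψ : Fin b → F) (G : Matrix (Fin b) (Fin b) F), (∀ X, op g X = X * G) ∧ c ⬝ᵥ ψ = 0 ∧
      ∀ X, X *ᵥ cov f₂ c = 0 → op g X = X + vecMulVec (X *ᵥ ψ) c := by
  classical
  obtain ⟨G, hgX⟩ := exists_right_mul ha hc hg hR.1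
  obtain ⟨ξc, hξc⟩ := exists_dot_one hc
  refine ⟨(G - 1) *ᵥ ξc, G, hgX, ?_, fun X hX => ?_⟩
  · obtain ⟨x, hx⟩ : ∃ x : Fin a → F, x ≠ 0 := ⟨Pi.single ⟨0, ha⟩ 1, by simp⟩
    have h := congrArg (fun Z => Z *ᵥ ξc) (hR.1 x)
    simp only [hgX, ← mulVec_mulVec] at h
    rw [pure_mulVec, pure_mulVec, hξc, one_smul] at h
    rw [sub_mulVec, one_mulVec, dotProduct_sub, hξc, sub_eq_zero]
    by_contra hne
    have : (c ⬝ᵥ G *ᵥ ξc - 1) • x = 0 := by rw [sub_smul, h, one_smul, sub_self]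
    exact hne (sub_eq_zero.1 ((smul_eq_zero.1 this).resolve_right hx))
  · obtain ⟨m, hm⟩ := hR.2 X hX
    have hmv : m = X *ᵥ ((G - 1) *ᵥ ξc) := by
      have h := congrArg (fun Z => Z *ᵥ ξc) hm
      simp only [pl_apply, pure_mulVec, hξc, one_smul, hgX, sub_mulVec, ← mulVec_mulVec] at h
      rw [h, sub_mulVec, one_mulVec, mulVec_sub]
    rw [pl_apply, hmv] at hm
    rw [hm]
    abel

namespace Setup

variable (S : Setup σ ε f₁ f₂ B M)
include S

/-- A root element of the parabolic at `c`. -/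
theorem exists_r {c z : Fin b → F} (hc : f₂ c c = 0) (hz : f₂ z z = 0) (hzc : f₂ z c = 0) {l : F}
    (hl : ε * l + σ l = 0) :
    ∃ r ∈ M, (∀ x, op r (vecMulVec x c) = vecMulVec x c) ∧
      ∀ X, X *ᵥ cov f₂ c = 0 → op r X = X + l • vecMulVec (X *ᵥ cov f₂ z) c := by
  have h2 := S.form₂
  have hcz := h2.eq_zero_symm hzc
  have hu : f₂ (z + c) (z + c) = 0 := by
    rw [h2.add_left, h2.add_right, h2.add_right, hz, hc, hzc, hcz]; ring
  obtain ⟨g₁, hg₁, -, hX₁⟩ := S.transB (z + c) l hu hl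
  obtain ⟨g₂, hg₂, -, hX₂⟩ := S.transB z (-l) hz (by rw [map_neg]; linear_combination -hl)
  refine ⟨g₁ * g₂, M.mul_mem hg₁ hg₂, fun x => ?_, fun X hX => ?_⟩
  · rw [op_mul, hX₂, pure_mulVec, h2.dot_cov, hcz, zero_smul, pure_zero_left, smul_zero, add_zero,
      hX₁, pure_mulVec, h2.dot_cov, h2.add_right, hcz, hc, add_zero, zero_smul, pure_zero_left,
      smul_zero, add_zero]
  · rw [op_mul, hX₂, hX₁, add_mulVec, smul_mulVec, pure_mulVec, h2.dot_cov, h2.add_right, hz, hzc,
      add_zero, zero_smul, smul_zero, add_zero, h2.cov_add, mulVec_add, hX, add_zero, pure_add_right]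
    module

theorem cov_mem_of_iso [Finite F] {d : Fin b → F} (hd : f₂ d d = 0) (T : Submodule F (Fin b → F))
    (h : ∀ z, f₂ z z = 0 → f₂ z d = 0 → cov f₂ z ∈ T) {ψ : Fin b → F} (hψ : d ⬝ᵥ ψ = 0) : ψ ∈ T := by
  have h2 := S.form₂
  obtain ⟨u, rfl⟩ := h2.exists_cov ψ
  rw [h2.dot_cov] at hψ
  have hu := S.iso_span d hd u (h2.eq_zero_symm hψ)
  clear hψ
  induction hu using Submodule.span_induction with
  | mem z hz => exact h z hz.1 hz.2
  | zero =>
    have : cov f₂ (0 : Fin b → F) = 0 := funext fun _ => h2.zero_right _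
    rw [this]; exact T.zero_mem
  | add p q _ _ hp hq => rw [h2.cov_add]; exact T.add_mem hp hq
  | smul r p _ hp => rw [h2.cov_smul]; exact T.smul_mem _ hp

/-- A map `x ⊗ d ↦ α x ⊗ c` in `M` is a tensor map modulo the pure space at `c` on the orthogonals. -/
theorem levi [Finite F] (hno : NoRad f₂ M) {c d : Fin b → F} (hc0 : c ≠ 0) (hc : f₂ c c = 0)
    (hd0 : d ≠ 0) (hd : f₂ d d = 0) {y : GL (Fin a × Fin b) F} (hy : y ∈ M)
    {α : (Fin a → F) →ₗ[F] (Fin a → F)} (hα : ∀ x, op y (vecMulVec x d) = vecMulVec (α x) c) :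
    ∃ β : (Fin b → F) →ₗ[F] (Fin b → F), ∀ (x : Fin a → F) (e : Fin b → F), f₂ e d = 0 →
      op y (vecMulVec x e) - vecMulVec (α x) (β e) ∈ LinearMap.range (pl a c) := by
  classical
  have h2 := S.form₂
  have ha2 := S.two_le
  have hαinj : Function.Injective α := fun p q h => by
    apply pl_injective hd0
    apply op_injective y
    rw [pl_apply, pl_apply, hα, hα, h]
  have hαsur : Function.Surjective α := LinearMap.injective_iff_surjective.1 hαinj
  have hyd : ∀ m, ∃ x, op y (vecMulVec x d) = vecMulVec m c := fun m => by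
    obtain ⟨x, rfl⟩ := hαsur m
    exact ⟨x, hα x⟩
  have hyc : ∀ x, op y⁻¹ (vecMulVec (α x) c) = vecMulVec x d := fun x => by
    rw [← hα, op_inv_op]
  have hyc' : ∀ m, ∃ x, op y⁻¹ (vecMulVec x c) = vecMulVec m d := fun m => ⟨α m, hyc m⟩
  let R : Submodule F ((Fin b → F) × (Fin b → F)) :=
    { carrier := {p | c ⬝ᵥ p.1 = 0 ∧ d ⬝ᵥ p.2 = 0 ∧ ∀ (x : Fin a → F) (e : Fin b → F), f₂ e d = 0 →
        op y (vecMulVec x e) *ᵥ p.1 = (e ⬝ᵥ p.2) • α x}
      zero_mem' := ⟨dotProduct_zero _, dotProduct_zero _, fun x e _ => by simp⟩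
      add_mem' := fun {p q} hp hq =>
        ⟨by rw [Prod.fst_add, dotProduct_add, hp.1, hq.1, add_zero],
         by rw [Prod.snd_add, dotProduct_add, hp.2.1, hq.2.1, add_zero],
         fun x e he => by
          rw [Prod.fst_add, Prod.snd_add, mulVec_add, hp.2.2 x e he, hq.2.2 x e he, dotProduct_add,
            add_smul]⟩
      smul_mem' := fun t {p} hp =>
        ⟨by rw [Prod.smul_fst, dotProduct_smul, hp.1, smul_zero],
         by rw [Prod.smul_snd, dotProduct_smul, hp.2.1, smul_zero],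
         fun x e he => by
          rw [Prod.smul_fst, Prod.smul_snd, mulVec_smul, hp.2.2 x e he, dotProduct_smul, smul_smul,
            smul_eq_mul]⟩ }
  have hRφ : (cov f₂ c, (0 : Fin b → F)) ∈ R := by
    refine ⟨by rw [h2.dot_cov, hc], dotProduct_zero _, fun x e he => ?_⟩
    rw [dotProduct_zero, zero_smul]
    exact S.op_cSp hy (fun m => hyd m) (by rw [pure_mulVec, h2.dot_cov, he, zero_smul])
  have hiso : ∀ z, f₂ z z = 0 → f₂ z d = 0 → cov f₂ z ∈ R.map (LinearMap.snd F _ _) := by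
    intro z hz hzd
    obtain ⟨l, hl0, hl⟩ := S.skew
    obtain ⟨r, hr, hr1, hr2⟩ := S.exists_r hd hz hzd hl
    have hyM : y * r * y⁻¹ ∈ M := M.mul_mem (M.mul_mem hy hr) (M.inv_mem hy)
    have hR : InR f₂ c (y * r * y⁻¹) := by
      refine ⟨fun m => ?_, fun X hX => ?_⟩
      · obtain ⟨x, rfl⟩ := hαsur m
        rw [op_mul, op_mul, hyc, hr1, hα]
      · have hZ := S.op_cSp (M.inv_mem hy) hyc' hX
        rw [op_mul, op_mul, hr2 _ hZ, map_add, map_smul, op_op_inv, hα, add_sub_cancel_left]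
        exact Submodule.smul_mem _ _ ⟨_, rfl⟩
    obtain ⟨ψ, G, -, hψc, hψ⟩ := exists_psi_of_kron (by omega) hc0 (hno c hc0 hc _ hyM hR) hR
    have hz' : d ⬝ᵥ cov f₂ z = 0 := by rw [h2.dot_cov]; exact h2.eq_zero_symm hzd
    refine ⟨(l⁻¹ • ψ, cov f₂ z), ⟨by rw [dotProduct_smul, hψc, smul_zero], hz', fun x e he => ?_⟩, rfl⟩
    have hZ : vecMulVec x e *ᵥ cov f₂ d = 0 := by rw [pure_mulVec, h2.dot_cov, he, zero_smul]
    have hY := S.op_cSp hy (fun m => hyd m) hZ
    have h := hψ _ hY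
    rw [op_mul, op_mul, op_inv_op, hr2 _ hZ, map_add, map_smul, hα] at h
    obtain ⟨φ, hφ⟩ := exists_dot_one hc0
    have h' := congrArg (fun W => W *ᵥ φ) (add_left_cancel h)
    simp only [smul_mulVec, pure_mulVec, hφ, one_smul, map_smul, h2.dot_cov] at h'
    rw [mulVec_smul, ← h', smul_smul, inv_mul_cancel₀ hl0, one_smul, h2.dot_cov]
  have hS : ∀ ψ, c ⬝ᵥ ψ = 0 → ψ ∈ R.map (LinearMap.fst F _ _) := by
    have hsnd : LinearMap.ker (dots (F := F) ![d]) ≤ R.map (LinearMap.snd F _ _) := fun ψ hψ =>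
      S.cov_mem_of_iso hd _ hiso (congrFun hψ 0)
    have hd1 := (dots (F := F) ![d]).finrank_range_add_finrank_ker
    have hd2 := Submodule.finrank_le (LinearMap.range (dots (F := F) ![d]))
    rw [Module.finrank_fin_fun] at hd1 hd2
    have h1 := ((LinearMap.snd F (Fin b → F) (Fin b → F)).comp R.subtype).finrank_range_add_finrank_ker
    have h3 := ((LinearMap.fst F (Fin b → F) (Fin b → F)).comp R.subtype).finrank_range_add_finrank_ker
    rw [LinearMap.range_comp, Submodule.range_subtype] at h1 h3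
    have h4 := Submodule.finrank_mono hsnd
    have h5 : 0 < Module.finrank F
        (LinearMap.ker ((LinearMap.snd F (Fin b → F) (Fin b → F)).comp R.subtype)) := by
      let p₀ : LinearMap.ker ((LinearMap.snd F (Fin b → F) (Fin b → F)).comp R.subtype) :=
        ⟨⟨(cov f₂ c, 0), hRφ⟩, rfl⟩
      refine (Module.finrank_pos_iff_exists_ne_zero (R := F)).2 ⟨p₀, fun e => ?_⟩
      have := congrArg (fun w => (w.1.1 : (Fin b → F) × (Fin b → F)).1) e
      exact h2.cov_ne_zero hc0 this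
    have h6 : Module.finrank F
        (LinearMap.ker ((LinearMap.fst F (Fin b → F) (Fin b → F)).comp R.subtype)) ≤ 1 := by
      obtain ⟨e₀, he₀⟩ := h2.exists_partner hd0
      let L : (LinearMap.ker ((LinearMap.fst F (Fin b → F) (Fin b → F)).comp R.subtype)) →ₗ[F] F :=
        { toFun := fun p => e₀ ⬝ᵥ (p.1.1).2
          map_add' := fun p q => by simp [dotProduct_add]
          map_smul' := fun t p => by simp [dotProduct_smul] }
      have hL : Function.Injective L := by
        suffices h : ∀ p, L p = 0 → p = 0 from fun q q' hqq =>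
          sub_eq_zero.1 (h (q - q') ((L.map_sub q q').trans (sub_eq_zero.2 hqq)))
        intro p hp
        have hp' : e₀ ⬝ᵥ (p.1.1).2 = 0 := hp
        have h1' : (p.1.1).1 = 0 := p.2
        have h2' : (p.1.1).2 = 0 := dotProduct_eq _ _ fun e => by
          rw [zero_dotProduct, dotProduct_comm]
          obtain ⟨hp1, hp2, hp3⟩ := p.1.2
          have he : f₂ (e - f₂ e d • e₀) d = 0 := by
            rw [h2.sub_left, h2.smul_left, he₀, mul_one, sub_self]
          obtain ⟨x, hx⟩ : ∃ x : Fin a → F, x ≠ 0 := ⟨Pi.single ⟨0, by omega⟩ 1, by simp⟩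
          have := hp3 x _ he
          rw [h1', mulVec_zero, eq_comm, smul_eq_zero] at this
          have := this.resolve_right fun e0 => hx (hαinj (e0.trans α.map_zero.symm))
          rwa [sub_dotProduct, smul_dotProduct, hp', smul_zero, sub_zero] at this
        exact Subtype.ext (Subtype.ext (Prod.ext h1' h2'))
      exact (LinearMap.finrank_le_finrank_of_injective hL).trans (Module.finrank_self F).le
    have hle : R.map (LinearMap.fst F _ _) ≤ LinearMap.ker (dots (F := F) ![c]) := by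
      rintro _ ⟨p, hp, rfl⟩
      funext i
      fin_cases i
      exact hp.1
    have hc1 := (dots (F := F) ![c]).finrank_range_add_finrank_ker
    have hc2 : 1 ≤ Module.finrank F (LinearMap.range (dots (F := F) ![c])) := by
      obtain ⟨φ, hφ⟩ := exists_dot_one hc0
      refine Module.finrank_pos_iff_exists_ne_zero.2 ⟨⟨_, φ, rfl⟩, fun e => ?_⟩
      have h := congrFun (congrArg Subtype.val e) 0
      change c ⬝ᵥ φ = 0 at h
      rw [hφ] at h
      exact one_ne_zero h
    rw [Module.finrank_fin_fun] at hc1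
    have heq := Submodule.eq_of_le_of_finrank_le hle (by omega)
    intro ψ hψ
    rw [heq]
    funext i
    fin_cases i
    exact hψ
  obtain ⟨x₀, hx₀⟩ : ∃ x : Fin a → F, x ≠ 0 := ⟨Pi.single ⟨0, by omega⟩ 1, by simp⟩
  obtain ⟨η, hη⟩ := exists_dot_one (show α x₀ ≠ 0 from fun e => hx₀ (hαinj (by rw [e, map_zero])))
  rw [dotProduct_comm] at hη
  refine ⟨{ toFun := fun e => η ᵥ* op y (vecMulVec x₀ e)
            map_add' := fun p q => by rw [pure_add_right, map_add, vecMul_add]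
            map_smul' := fun t p => by rw [pure_smul_right, map_smul, vecMul_smul, RingHom.id_apply] },
    fun x e he => mem_pl_of_kill hc0 fun ψ hψ => ?_⟩
  obtain ⟨p, hp, rfl⟩ := hS ψ hψ
  show (op y (vecMulVec x e) - vecMulVec (α x) (η ᵥ* op y (vecMulVec x₀ e))) *ᵥ p.1 = 0
  rw [sub_mulVec, pure_mulVec, hp.2.2 x e he, ← dotProduct_mulVec, hp.2.2 x₀ e he, dotProduct_smul, hη,
    smul_eq_mul, mul_one, sub_self]

/-- The tensor map of `levi` preserves the forms. -/
theorem levi_iso {c d : Fin b → F} (hc : f₂ c c = 0) {y : GL (Fin a × Fin b) F} (hy : y ∈ M)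
    {α : (Fin a → F) →ₗ[F] (Fin a → F)} (hyd : ∀ m, ∃ x, op y (vecMulVec x d) = vecMulVec m c)
    {β : (Fin b → F) →ₗ[F] (Fin b → F)}
    (hβ : ∀ (x : Fin a → F) (e : Fin b → F), f₂ e d = 0 →
      op y (vecMulVec x e) - vecMulVec (α x) (β e) ∈ LinearMap.range (pl a c))
    {x x' : Fin a → F} {e e' : Fin b → F} (he : f₂ e d = 0) (he' : f₂ e' d = 0) :
    f₂ (β e) (β e') * f₁ (α x) (α x') = f₂ e e' * f₁ x x' := by
  have h2 := S.form₂
  obtain ⟨m, hm⟩ := hβ x e he
  obtain ⟨m', hm'⟩ := hβ x' e' he'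
  have key : ∀ (z : Fin a → F) (w : Fin b → F), f₂ w d = 0 → ∀ n,
      B (op y (vecMulVec z w)) (vecMulVec n c) = 0 := by
    intro z w hw n
    rw [S.pure, S.op_cSp hy hyd (by rw [pure_mulVec, h2.dot_cov, hw, zero_smul]), S.form₁.zero_left]
  rw [← S.pure_pure, ← S.pure_pure, ← S.iso y hy (vecMulVec x e) (vecMulVec x' e')]
  rw [pl_apply] at hm hm'
  have e1 : vecMulVec (α x) (β e) = op y (vecMulVec x e) - vecMulVec m c := by rw [hm]; abel
  have e2 : vecMulVec (α x') (β e') = op y (vecMulVec x' e') - vecMulVec m' c := by rw [hm']; abel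
  rw [e1, e2, S.sub_left, S.sub_right, S.sub_right, key x e he, S.flip _ _ (key x' e' he' m), S.pure_pure,
    hc]
  ring

end Setup

end Cfsg.Agent.Lib.TensorForm
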