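import Cfsg.Agent.Lib.TensorForm.Centre
import Mathlib.LinearAlgebra.Determinant

/-!
An additive set of skew-hermitian maps, stable under conjugation by special isometries, with a
non-scalar member contains a map of rank one with isotropic image.
-/

set_option autoImplicit false
set_option linter.unusedSectionVars false

namespace Cfsg.Agent.Lib.TensorForm

open Matrix Cfsg.Agent.Lib Cfsg.Agent.Lib.TensorMax

variable {F : Type*} [Field F] {a : ℕ} {σ : F →+* F} {f : (Fin a → F) → (Fin a → F) → F}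

/-- The map `m ↦ f(m, w) u`. -/
def rk1 {ε : F} (hf : IsSForm σ ε f) (u w : Fin a → F) : (Fin a → F) →ₗ[F] (Fin a → F) where
  toFun m := f m w • u
  map_add' p q := by rw [hf.add_left, add_smul]
  map_smul' r p := by rw [hf.smul_left, mul_smul]; rfl

theorem rk1_apply {ε : F} (hf : IsSForm σ ε f) (u w m : Fin a → F) : rk1 hf u w m = f m w • u := rfl

/-- An additive set of skew maps stable under the special isometries. -/
structure ZSet (σ : F →+* F) (f : (Fin a → F) → (Fin a → F) → F)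
    (P : ((Fin a → F) →ₗ[F] (Fin a → F)) → Prop) : Prop where
  form : IsSForm σ 1 f
  add : ∀ Z Z', P Z → P Z' → P (Z + Z')
  skew : ∀ Z, P Z → ∀ m m', f m (Z m') + f (Z m) m' = 0
  scale : ∀ Z, P Z → ∀ r : F, σ r = r → P (r • Z)
  trans : ∀ Z, P Z → ∀ (x : Fin a → F) (l : F), f x x = 0 → l + σ l = 0 →
    ∀ E : (Fin a → F) →ₗ[F] (Fin a → F), (∀ m, E m = (l * f m x) • x) →
      P (E ∘ₗ Z - Z ∘ₗ E - E ∘ₗ Z ∘ₗ E)
  conj : ∀ Z, P Z → ∀ T T' : (Fin a → F) →ₗ[F] (Fin a → F), (∀ u w, f (T u) (T w) = f u w) →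
    LinearMap.det T = 1 → (∀ u, T' (T u) = u) → P (T ∘ₗ Z ∘ₗ T')
  iso_top : Submodule.span F {z : Fin a → F | f z z = 0} = ⊤
  iso_add : ∀ u w, f u u = 0 → f w w = 0 → ∃ t : F, t ≠ 0 ∧ f (u + t • w) (u + t • w) = 0
  trace : ∃ τ : F, τ + σ τ = 1
  skew_ne : ∃ l : F, l ≠ 0 ∧ l + σ l = 0

/-- The quasi-reflection at a unit vector. -/
def qrefl {ε : F} (hf : IsSForm σ ε f) (w : Fin a → F) (k : F) : (Fin a → F) →ₗ[F] (Fin a → F) :=
  LinearMap.id + (k - 1) • rk1 hf w w

variable {P : ((Fin a → F) →ₗ[F] (Fin a → F)) → Prop}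

theorem det_qrefl {ε : F} (hf : IsSForm σ ε f) (w : Fin a → F) (k : F) (hw : f w w = 1) :
    LinearMap.det (qrefl hf w k) = k := by
  rw [← LinearMap.det_toMatrix']
  have e : LinearMap.toMatrix' (qrefl hf w k) = 1 + vecMulVec ((k - 1) • w) (cov f w) := by
    refine Matrix.ext_iff_mulVec.2 fun m => ?_
    rw [LinearMap.toMatrix'_mulVec, add_mulVec, one_mulVec, vecMulVec_mulVec, dotProduct_comm, hf.dot_cov]
    simp only [qrefl, LinearMap.add_apply, LinearMap.id_apply, LinearMap.smul_apply, rk1_apply,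
      op_smul_eq_smul, smul_smul, mul_comm]
  rw [e, vecMulVec_eq Unit, det_one_add_replicateCol_mul_replicateRow, dotProduct_smul, dotProduct_comm,
    hf.dot_cov, hw, smul_eq_mul, mul_one, add_sub_cancel]

namespace ZSet

variable (S : ZSet σ f P)
include S

theorem herm (v w : Fin a → F) : f w v = σ (f v w) := by rw [S.form.symm v w, one_mul]

theorem neg {Z : (Fin a → F) →ₗ[F] (Fin a → F)} (h : P Z) : P (-Z) := by
  have := S.scale Z h (-1) (by rw [map_neg, map_one])
  have e : (-1 : F) • Z = -Z := LinearMap.ext fun m => by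
    rw [LinearMap.smul_apply, LinearMap.neg_apply, neg_one_smul]
  rwa [e] at this

theorem qrefl_iso {w : Fin a → F} {k : F} (hw : f w w = 1) (hk : k * σ k = 1) (u u' : Fin a → F) :
    f (qrefl S.form w k u) (qrefl S.form w k u') = f u u' := by
  simp only [qrefl, LinearMap.add_apply, LinearMap.id_apply, LinearMap.smul_apply, rk1_apply,
    S.form.add_left, S.form.add_right, S.form.smul_left, S.form.smul_right, smul_smul, hw, map_mul,
    map_sub, map_one, ← S.herm u' w]
  linear_combination (f u w * f w u') * hk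

theorem qrefl_inv {w : Fin a → F} {k : F} (hw : f w w = 1) (hk : k * σ k = 1) (u : Fin a → F) :
    qrefl S.form w (σ k) (qrefl S.form w k u) = u := by
  simp only [qrefl, LinearMap.add_apply, LinearMap.id_apply, LinearMap.smul_apply, rk1_apply,
    S.form.add_left, S.form.smul_left, smul_smul, hw, add_smul, mul_one]
  match_scalars
  · ring
  · linear_combination (f u w) * hk

/-- A non-scalar member moves some isotropic line. -/
theorem exists_moved {Z : (Fin a → F) →ₗ[F] (Fin a → F)} (hns : NonScalar Z) :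
    ∃ x, f x x = 0 ∧ Z x ∉ F ∙ x := by
  by_contra hall
  push Not at hall
  obtain ⟨x₀, hx₀, hx₀0⟩ : ∃ x, f x x = 0 ∧ x ≠ 0 := by
    by_contra hno
    push Not at hno
    have e : Submodule.span F {z : Fin a → F | f z z = 0} = ⊥ :=
      Submodule.span_eq_bot.2 fun z hz => hno z hz
    rw [S.iso_top] at e
    refine hns ⟨0, fun m => ?_⟩
    have : m ∈ (⊥ : Submodule F (Fin a → F)) := e ▸ Submodule.mem_top
    rw [Submodule.mem_bot] at this
    rw [this, map_zero, smul_zero]
  obtain ⟨r, hr⟩ := Submodule.mem_span_singleton.1 (hall x₀ hx₀)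
  refine hns ⟨r, fun m => ?_⟩
  suffices h : Z = r • LinearMap.id by rw [h]; rfl
  refine LinearMap.ext_on (s := {z : Fin a → F | f z z = 0}) S.iso_top fun z hz => ?_
  show Z z = r • z
  by_cases hmem : z ∈ F ∙ x₀
  · obtain ⟨t, rfl⟩ := Submodule.mem_span_singleton.1 hmem
    rw [map_smul, ← hr, smul_comm]
  obtain ⟨s, hs⟩ := Submodule.mem_span_singleton.1 (hall z hz)
  obtain ⟨t, ht, htz⟩ := S.iso_add x₀ z hx₀ hz
  obtain ⟨u, hu⟩ := Submodule.mem_span_singleton.1 (hall _ htz)
  rw [map_add, map_smul, ← hr, ← hs, smul_add, smul_smul, smul_smul] at hu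
  obtain ⟨φ, hφ0, hφ1⟩ := exists_sep hmem
  have hφc : x₀ ⬝ᵥ φ = 0 := hφ0 _ (Submodule.mem_span_singleton_self _)
  have e1 := congrArg (fun w => w ⬝ᵥ φ) hu
  simp only [add_dotProduct, smul_dotProduct, hφc, hφ1, smul_eq_mul, mul_zero, mul_one, zero_add] at e1
  have hus : u = s := mul_right_cancel₀ ht (e1.trans (mul_comm t s))
  obtain ⟨φ', hφ'⟩ := exists_dot_one hx₀0
  have e2 := congrArg (fun w => w ⬝ᵥ φ') hu
  simp only [add_dotProduct, smul_dotProduct, hφ', smul_eq_mul, mul_one, hus, mul_comm t s,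
    add_left_inj] at e2
  rw [← hs, e2]

/-- Some member has a non-zero value at an isotropic vector. -/
theorem exists_value {Z : (Fin a → F) →ₗ[F] (Fin a → F)} (hZ : P Z) (hns : NonScalar Z) :
    ∃ Z' x, P Z' ∧ f x x = 0 ∧ f (Z' x) x ≠ 0 := by
  have hf := S.form
  obtain ⟨x, hx, hmov⟩ := S.exists_moved hns
  by_cases h0 : f (Z x) x = 0
  swap
  · exact ⟨Z, x, hZ, hx, h0⟩
  obtain ⟨l, hl0, hl⟩ := S.skew_ne
  obtain ⟨τ, hτ⟩ := S.trace
  have hP := S.trans Z hZ x l hx hl (l • rk1 hf x x) fun m => by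
    rw [LinearMap.smul_apply, rk1_apply, smul_smul]
  obtain ⟨y₁, hy₁0, hy₁1⟩ := exists_sep (show cov f (Z x) ∉ F ∙ cov f x from fun h => by
    obtain ⟨r, hr⟩ := Submodule.mem_span_singleton.1 h
    exact hmov (Submodule.mem_span_singleton.2 ⟨σ r, hf.cov_injective (by rw [hf.cov_smul, hf.invol, hr])⟩))
  rw [dotProduct_comm, hf.dot_cov] at hy₁1
  have hy₁x : f y₁ x = 0 := by
    rw [← hf.dot_cov, dotProduct_comm]; exact hy₁0 _ (Submodule.mem_span_singleton_self _)
  have hx0 : x ≠ 0 := fun e => hmov (by rw [e, map_zero]; exact Submodule.zero_mem _)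
  obtain ⟨y₂, hy₂⟩ := hf.exists_partner hx0
  set y₃ := y₂ + (τ - f y₂ (Z x)) • y₁ with hy₃
  have h3x : f y₃ x = 1 := by rw [hy₃, hf.add_left, hf.smul_left, hy₂, hy₁x, mul_zero, add_zero]
  have h3w : f y₃ (Z x) = τ := by rw [hy₃, hf.add_left, hf.smul_left, hy₁1, mul_one, add_sub_cancel]
  set y := y₃ - (f y₃ y₃ * τ) • x with hy
  have hyx : f y x = 1 := by rw [hy, hf.sub_left, hf.smul_left, hx, mul_zero, sub_zero, h3x]
  have hxw : f x (Z x) = 0 := hf.eq_zero_symm h0
  have hyw : f y (Z x) = τ := by rw [hy, hf.sub_left, hf.smul_left, hxw, mul_zero, sub_zero, h3w]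
  have hyy : f y y = 0 := by
    rw [hy, hf.sub_left, hf.sub_right, hf.sub_right, hf.smul_left, hf.smul_left, hf.smul_right,
      hf.smul_right, hx, S.herm y₃ x, h3x, map_one, map_mul, ← S.herm y₃ y₃]
    linear_combination (-f y₃ y₃) * hτ
  refine ⟨_, y, hP, hyy, ?_⟩
  simp only [LinearMap.sub_apply, LinearMap.comp_apply, LinearMap.smul_apply, rk1_apply, map_smul, hyx,
    one_smul, hf.sub_left, hf.smul_left, h0, mul_zero, sub_zero, S.herm y x, map_one, mul_one]
  have e1 : f (Z x) y = σ τ := by rw [S.herm y (Z x), hyw]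
  have e2 : f (Z y) x = -τ := by
    have := S.skew Z hZ y x
    linear_combination this - hyw
  rw [e1, e2, ← mul_sub, show -τ - σ τ = (-1 : F) by linear_combination -hτ, mul_neg, mul_one]
  exact neg_ne_zero.2 hl0

/-- A value at `x` gives all rank one maps at `x`, if the fixed field is bigger than two. -/
theorem rank_one_big {t : F} (ht : σ t = t) (ht0 : t ≠ 0) (ht1 : t ≠ 1)
    {Z : (Fin a → F) →ₗ[F] (Fin a → F)} (hZ : P Z) {x : Fin a → F} (hx : f x x = 0)
    (hv : f (Z x) x ≠ 0) : ∀ k : F, k + σ k = 0 → P (k • rk1 S.form x x) := by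
  intro k hk
  have hf := S.form
  obtain ⟨l, hl0, hl⟩ := S.skew_ne
  have hσl : σ l = -l := by linear_combination hl
  have hE : ∀ (s : F) m, ((s * l) • rk1 hf x x) m = (s * l * f m x) • x := fun s m => by
    rw [LinearMap.smul_apply, rk1_apply, smul_smul]
  have h1 := S.trans Z hZ x (t * l) hx (by rw [map_mul, ht, hσl]; ring) ((t * l) • rk1 hf x x) (hE t)
  have h2 := S.trans Z hZ x l hx hl (l • rk1 hf x x) fun m => by
    rw [LinearMap.smul_apply, rk1_apply, smul_smul]
  set h := f (Z x) x with hh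
  have hσh : σ h = -h := by
    have := S.skew Z hZ x x
    rw [S.herm (Z x) x, ← hh] at this
    linear_combination this
  have h3 := S.add _ _ h1 (S.neg (S.scale _ h2 t ht))
  have hc : (t - t * t) * (l * l * h) ≠ 0 :=
    mul_ne_zero (by
      intro e
      have : t * (1 - t) = 0 := by linear_combination e
      rcases mul_eq_zero.1 this with e' | e'
      · exact ht0 e'
      · exact ht1 (by linear_combination -e')) (mul_ne_zero (mul_ne_zero hl0 hl0) hv)
  have h4 := S.scale _ h3 (k / ((t - t * t) * (l * l * h))) (by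
    rw [map_div₀, map_mul, map_sub, map_mul, map_mul, map_mul, ht, hσl, hσh,
      show σ k = -k by linear_combination hk]
    field_simp)
  convert h4 using 1
  refine LinearMap.ext fun m => ?_
  simp only [LinearMap.add_apply, LinearMap.neg_apply, LinearMap.sub_apply, LinearMap.comp_apply,
    LinearMap.smul_apply, rk1_apply, map_smul, hf.smul_left, ← hh, smul_smul, smul_add, smul_sub,
    smul_neg]
  match_scalars <;> field_simp <;> ring

end ZSet

end Cfsg.Agent.Lib.TensorForm
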