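import Cfsg.Agent.Lib.TensorForm.RankOne

/-!
The rank one map over the field with four elements, in dimension at least three.
-/

set_option autoImplicit false
set_option linter.unusedSectionVars false

namespace Cfsg.Agent.Lib.TensorForm

open Matrix Cfsg.Agent.Lib Cfsg.Agent.Lib.TensorMax

variable {F : Type*} [Field F] {a : ℕ} {σ : F →+* F} {f : (Fin a → F) → (Fin a → F) → F}
  {P : ((Fin a → F) →ₗ[F] (Fin a → F)) → Prop}

namespace ZSet

variable (S : ZSet σ f P) (hfix : ∀ r : F, σ r = r → r = 0 ∨ r = 1)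
include S hfix

theorem two_zero : (2 : F) = 0 := by
  rcases hfix (-1) (by rw [map_neg, map_one]) with h | h
  · exact absurd h (neg_ne_zero.2 one_ne_zero)
  · linear_combination -h

theorem self_fixed (v : Fin a → F) : f v v = 0 ∨ f v v = 1 := hfix _ (S.herm v v).symm

theorem step {Z : (Fin a → F) →ₗ[F] (Fin a → F)} (hZ : P Z) {x : Fin a → F} (hx : f x x = 0)
    (hv : f (Z x) x = 1) :
    P (rk1 S.form x (Z x) + rk1 S.form (Z x) x + rk1 S.form x x) := by
  have h2 := S.two_zero hfix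
  have h := S.trans Z hZ x 1 hx (by rw [map_one]; linear_combination h2) (rk1 S.form x x)
    fun m => by rw [rk1_apply, one_mul]
  convert h using 1
  refine LinearMap.ext fun m => ?_
  simp only [LinearMap.add_apply, LinearMap.sub_apply, LinearMap.comp_apply, rk1_apply, map_smul,
    S.form.smul_left, hv]
  match_scalars
  · linear_combination f m x * h2 - S.skew Z hZ m x + f m (Z x) * h2
  · linear_combination f m x * h2

theorem orth_pair (h3 : 3 ≤ a) {e₁ e₂ : Fin a → F} (h11 : f e₁ e₁ = 1) (h22 : f e₂ e₂ = 1)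
    (h12 : f e₁ e₂ = 0) : ∃ g, f g g = 1 ∧ f g e₁ = 0 ∧ f g e₂ = 0 := by
  have hf := S.form
  obtain ⟨g₀, hg₀, hg₀0⟩ := exists_perp_ne (F := F) ![cov f e₁, cov f e₂] (show 2 < a by omega)
  have g1 : f g₀ e₁ = 0 := by rw [← hf.dot_cov, dotProduct_comm]; exact hg₀ 0
  have g2 : f g₀ e₂ = 0 := by rw [← hf.dot_cov, dotProduct_comm]; exact hg₀ 1
  rcases S.self_fixed hfix g₀ with h0 | h1
  swap
  · exact ⟨g₀, h1, g1, g2⟩
  obtain ⟨y, hy⟩ := hf.nondeg g₀ hg₀0
  have h21 : f e₂ e₁ = 0 := hf.eq_zero_symm h12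
  set y' := y - f y e₁ • e₁ - f y e₂ • e₂ with hy'
  have y1 : f y' e₁ = 0 := by
    simp only [hy', hf.sub_left, hf.smul_left, h11, h21, mul_one, mul_zero, sub_self, sub_zero]
  have y2 : f y' e₂ = 0 := by
    simp only [hy', hf.sub_left, hf.smul_left, h22, h12, mul_one, mul_zero, sub_zero, sub_self]
  have hgy : f g₀ y' = f g₀ y := by
    simp only [hy', hf.sub_right, hf.smul_right, g1, g2, mul_zero, sub_zero]
  rcases S.self_fixed hfix y' with h0' | h1'
  swap
  · exact ⟨y', h1', y1, y2⟩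
  obtain ⟨τ, hτ⟩ := S.trace
  refine ⟨g₀ + σ (τ / f g₀ y') • y', ?_, ?_, ?_⟩
  · rw [hf.add_left, hf.add_right, hf.add_right, hf.smul_left, hf.smul_left, hf.smul_right, hf.smul_right,
      h0, h0', hf.invol, S.herm g₀ y', ← map_mul, div_mul_cancel₀ _ (hgy ▸ hy)]
    linear_combination hτ
  · rw [hf.add_left, hf.smul_left, g1, y1, mul_zero, add_zero]
  · rw [hf.add_left, hf.smul_left, g2, y2, mul_zero, add_zero]

theorem exists_plane (h3 : 3 ≤ a) {Z : (Fin a → F) →ₗ[F] (Fin a → F)} (hZ : P Z) {x : Fin a → F}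
    (hx : f x x = 0) (hv : f (Z x) x ≠ 0) :
    ∃ e₁ e₂, f e₁ e₁ = 1 ∧ f e₂ e₂ = 1 ∧ f e₁ e₂ = 0 ∧ P (rk1 S.form e₁ e₁ + rk1 S.form e₂ e₂) := by
  have hf := S.form
  have h2 := S.two_zero hfix
  obtain ⟨τ, hτ⟩ := S.trace
  have hσh : σ (f (Z x) x) = f (Z x) x := by
    have h := S.skew Z hZ x x
    rw [S.herm (Z x) x] at h
    linear_combination h - f (Z x) x * h2
  have hv1 : f (Z x) x = 1 := (hfix _ hσh).resolve_left hv
  have mk : ∀ {Z : (Fin a → F) →ₗ[F] (Fin a → F)} {x : Fin a → F}, P Z → f x x = 0 → f (Z x) x = 1 →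
      f (Z x) (Z x) = 1 →
      ∃ e₁ e₂, f e₁ e₁ = 1 ∧ f e₂ e₂ = 1 ∧ f e₁ e₂ = 0 ∧ P (rk1 S.form e₁ e₁ + rk1 S.form e₂ e₂) := by
    intro Z x hZ hx hv1 hvv
    have hxv : f x (Z x) = 1 := by rw [S.herm (Z x) x, hv1, map_one]
    refine ⟨Z x, x + Z x, hvv, ?_, ?_, ?_⟩
    · simp only [hf.add_left, hf.add_right, hx, hxv, hv1, hvv]
      linear_combination h2 + h2 * 0
    · simp only [hf.add_right, hv1, hvv]
      linear_combination h2
    · convert S.step hfix hZ hx hv1 using 1
      refine LinearMap.ext fun m => ?_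
      simp only [LinearMap.add_apply, rk1_apply, hf.add_right]
      match_scalars
      · linear_combination f m (Z x) * h2
      · ring
  rcases S.self_fixed hfix (Z x) with h0 | h1
  swap
  · exact mk hZ hx hv1 h1
  have hxv : f x (Z x) = 1 := by rw [S.herm (Z x) x, hv1, map_one]
  obtain ⟨e₁, he₁⟩ : ∃ v, v = Z x + τ • x := ⟨_, rfl⟩
  obtain ⟨e₂, he₂⟩ : ∃ v, v = x + e₁ := ⟨_, rfl⟩
  have he1x : f e₁ x = 1 := by
    simp only [he₁, hf.add_left, hf.smul_left, hx, mul_zero, add_zero, hv1]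
  have hxe1 : f x e₁ = 1 := by rw [S.herm e₁ x, he1x, map_one]
  have h11 : f e₁ e₁ = 1 := by
    simp only [he₁, hf.add_left, hf.add_right, hf.smul_left, hf.smul_right, hx, hxv, hv1, h0]
    linear_combination hτ
  have h22 : f e₂ e₂ = 1 := by
    rw [he₂, hf.add_left, hf.add_right, hf.add_right, hx, hxe1, he1x, h11]
    linear_combination h2
  have h12 : f e₁ e₂ = 0 := by
    rw [he₂, hf.add_right, he1x, h11]
    linear_combination h2
  have hM : P (rk1 S.form e₂ e₁ + rk1 S.form e₁ e₂) := by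
    convert S.step hfix hZ hx hv1 using 1
    refine LinearMap.ext fun m => ?_
    simp only [LinearMap.add_apply, rk1_apply, he₂, he₁, hf.add_right, hf.smul_right]
    match_scalars
    · linear_combination f m x * hτ + (f m (Z x) * τ + f m x * σ τ * τ) * h2
    · linear_combination (f m (Z x) + σ τ * f m x) * h2
  obtain ⟨g, hgg, hg1, hg2⟩ := S.orth_pair hfix h3 h11 h22 h12
  have h21 : f e₂ e₁ = 0 := hf.eq_zero_symm h12
  have h1g : f e₁ g = 0 := hf.eq_zero_symm hg1
  have h2g : f e₂ g = 0 := hf.eq_zero_symm hg2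
  obtain ⟨y, hy⟩ : ∃ v, v = e₁ + g := ⟨_, rfl⟩
  have hyy : f y y = 0 := by
    rw [hy, hf.add_left, hf.add_right, hf.add_right, h11, h1g, hg1, hgg]
    linear_combination h2
  have hM' := S.trans _ hM y 1 hyy (by rw [map_one]; linear_combination h2) (rk1 S.form y y)
    fun m => by rw [rk1_apply, one_mul]
  have hsimp : rk1 S.form y y ∘ₗ (rk1 S.form e₂ e₁ + rk1 S.form e₁ e₂)
      - (rk1 S.form e₂ e₁ + rk1 S.form e₁ e₂) ∘ₗ rk1 S.form y y
      - rk1 S.form y y ∘ₗ (rk1 S.form e₂ e₁ + rk1 S.form e₁ e₂) ∘ₗ rk1 S.form y y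
      = rk1 S.form y e₂ + rk1 S.form e₂ y := by
    refine LinearMap.ext fun m => ?_
    simp only [LinearMap.add_apply, LinearMap.sub_apply, LinearMap.comp_apply, rk1_apply, map_smul,
      hf.smul_left, hf.add_left, hy, hf.add_right, h11, h12, h21, h1g, h2g, hg1, hg2, mul_zero, mul_one,
      zero_mul, add_zero, zero_add, smul_add, smul_zero, zero_smul]
    match_scalars <;> first | linear_combination -(f m e₁ + f m g) * h2 | linear_combination (0 : F)
  rw [hsimp] at hM'
  obtain ⟨z, hz⟩ : ∃ v, v = e₁ + τ • e₂ := ⟨_, rfl⟩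
  have hττ : τ * σ τ = 1 := by
    refine (hfix _ (by rw [map_mul, hf.invol, mul_comm])).resolve_left ?_
    intro e
    rcases mul_eq_zero.1 e with e' | e'
    · rw [e', map_zero, add_zero] at hτ; exact zero_ne_one hτ
    · have := congrArg σ e'
      rw [hf.invol, map_zero] at this
      rw [this, map_zero, add_zero] at hτ; exact zero_ne_one hτ
  refine mk (x := z) hM' ?_ ?_ ?_
  · simp only [hz, hf.add_left, hf.add_right, hf.smul_left, hf.smul_right, h11, h12, h21, h22]
    linear_combination hττ + h2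
  · simp only [LinearMap.add_apply, rk1_apply, hz, hy, hf.add_left, hf.add_right, hf.smul_left,
      hf.smul_right, h11, h12, h21, h22, hg1, hg2, h1g, h2g, hgg]
    linear_combination hτ
  · simp only [LinearMap.add_apply, rk1_apply, hz, hy, hf.add_left, hf.add_right, hf.smul_left,
      hf.smul_right, h11, h12, h21, h22, hg1, hg2, h1g, h2g, hgg, map_add, map_one, map_zero, map_mul,
      hf.invol]
    linear_combination (τ * σ τ) * h2

theorem conj_q {e₁ e₂ e₃ w u : Fin a → F} {k : F} (hk : k * σ k = 1) (hw : f w w = 1)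
    (hwI : (rk1 S.form e₁ e₁ + rk1 S.form e₂ e₂ + rk1 S.form e₃ e₃) w = w) (hu : f u u = 1)
    (huI : (rk1 S.form e₁ e₁ + rk1 S.form e₂ e₂ + rk1 S.form e₃ e₃) u = u)
    (h : P (rk1 S.form e₁ e₁ + rk1 S.form e₂ e₂ + rk1 S.form e₃ e₃ + rk1 S.form u u)) :
    P (rk1 S.form e₁ e₁ + rk1 S.form e₂ e₂ + rk1 S.form e₃ e₃
      + rk1 S.form (qrefl S.form w k u) (qrefl S.form w k u)) := by
  have hf := S.form
  have h2 := S.two_zero hfix
  set I := rk1 S.form e₁ e₁ + rk1 S.form e₂ e₂ + rk1 S.form e₃ e₃ with hI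
  have hadj : ∀ m n, f (I m) n = f m (I n) := fun m n => by
    simp only [hI, LinearMap.add_apply, rk1_apply, hf.add_left, hf.add_right, hf.smul_left, hf.smul_right,
      ← S.herm n e₁, ← S.herm n e₂, ← S.herm n e₃]
    ring
  have hσk : σ k * σ (σ k) = 1 := by rw [hf.invol, mul_comm, hk]
  set Rw := qrefl S.form w k with hRw
  set Ru := qrefl S.form u (σ k) with hRu
  set Rw' := qrefl S.form w (σ k) with hRw'
  set Ru' := qrefl S.form u k with hRu'
  have hinv : ∀ m, (Ru' ∘ₗ Rw') ((Rw ∘ₗ Ru) m) = m := fun m => by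
    rw [LinearMap.comp_apply, LinearMap.comp_apply, S.qrefl_inv hw hk]
    have := S.qrefl_inv hu hσk m
    rwa [hf.invol] at this
  have hT := S.conj _ h (Rw ∘ₗ Ru) (Ru' ∘ₗ Rw')
    (fun m n => (S.qrefl_iso hw hk _ _).trans (S.qrefl_iso hu hσk m n))
    (by rw [LinearMap.det_comp, det_qrefl hf w k hw, det_qrefl hf u (σ k) hu, hk]) hinv
  convert hT using 1
  refine LinearMap.ext fun n => ?_
  obtain ⟨m, hm⟩ : ∃ m, Rw m = n := ⟨Rw' n, by
    have := S.qrefl_inv hw hσk n
    rwa [hf.invol] at this⟩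
  have hQu : ∀ r : F, (I + rk1 S.form u u) (m + r • u) = (I + rk1 S.form u u) m := fun r => by
    simp only [map_add, map_smul, LinearMap.add_apply, rk1_apply, huI, hu, one_smul]
    match_scalars <;> first | linear_combination r * h2 | linear_combination (0 : F)
  have hQuu : f ((I + rk1 S.form u u) m) u = 0 := by
    rw [LinearMap.add_apply, rk1_apply, hf.add_left, hf.smul_left, hadj, huI, hu, mul_one]
    linear_combination f m u * h2
  have hRI : I (Rw m) = Rw (I m) := by
    simp only [hRw, qrefl, LinearMap.add_apply, LinearMap.id_apply, LinearMap.smul_apply, rk1_apply,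
      map_add, map_smul, hwI, hadj m w]
  subst hm
  have hL : Rw' (Rw m) = m := S.qrefl_inv hw hk m
  have e1 : Ru' m = m + ((k - 1) * f m u) • u := by
    simp only [hRu', qrefl, LinearMap.add_apply, LinearMap.id_apply, LinearMap.smul_apply, rk1_apply,
      smul_smul]
  have e2 : ∀ n, f n u = 0 → Ru n = n := fun n hn => by
    simp only [hRu, qrefl, LinearMap.add_apply, LinearMap.id_apply, LinearMap.smul_apply, rk1_apply, hn,
      zero_smul, smul_zero, add_zero]
  simp only [LinearMap.comp_apply]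
  rw [hL, e1, hQu, e2 _ hQuu]
  simp only [LinearMap.add_apply, rk1_apply, map_add, map_smul, hRI]
  rw [hRw, S.qrefl_iso hw hk]

/-- Rank one maps, over the field with four elements. -/
theorem rank_one_two (h3 : 3 ≤ a) {Z : (Fin a → F) →ₗ[F] (Fin a → F)} (hZ : P Z) {x : Fin a → F}
    (hx : f x x = 0) (hv : f (Z x) x ≠ 0) :
    ∃ y, y ≠ 0 ∧ f y y = 0 ∧ ∀ k : F, k + σ k = 0 → P (k • rk1 S.form y y) := by
  have hf := S.form
  have h2 := S.two_zero hfix
  obtain ⟨e₁, e₂, h11, h22, h12, hP⟩ := S.exists_plane hfix h3 hZ hx hv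
  obtain ⟨e₃, h33, h31, h32⟩ := S.orth_pair hfix h3 h11 h22 h12
  have h21 : f e₂ e₁ = 0 := hf.eq_zero_symm h12
  have h13 : f e₁ e₃ = 0 := hf.eq_zero_symm h31
  have h23 : f e₂ e₃ = 0 := hf.eq_zero_symm h32
  obtain ⟨ω, hω⟩ := S.trace
  have hσω : σ ω = 1 + ω := by linear_combination hω - ω * h2
  have hωω : ω * σ ω = 1 := by
    refine (hfix _ (by rw [map_mul, hf.invol, mul_comm])).resolve_left ?_
    intro e
    rcases mul_eq_zero.1 e with e' | e'
    · rw [e', map_zero, add_zero] at hω; exact zero_ne_one hω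
    · have := congrArg σ e'
      rw [hf.invol, map_zero] at this
      rw [this, map_zero, add_zero] at hω; exact zero_ne_one hω
  have hS : ω * ω + ω + 1 = 0 := by
    rw [hσω] at hωω
    linear_combination hωω + h2
  set I := rk1 S.form e₁ e₁ + rk1 S.form e₂ e₂ + rk1 S.form e₃ e₃ with hI
  have hspan : ∀ r s t : F, I (r • e₁ + s • e₂ + t • e₃) = r • e₁ + s • e₂ + t • e₃ := fun r s t => by
    simp only [hI, LinearMap.add_apply, rk1_apply, hf.add_left, hf.smul_left, h11, h12, h13, h21, h22, h23,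
      h31, h32, h33, mul_zero, mul_one, add_zero, zero_add]
  have hnorm : ∀ r s t : F, f (r • e₁ + s • e₂ + t • e₃) (r • e₁ + s • e₂ + t • e₃)
      = r * σ r + s * σ s + t * σ t := fun r s t => by
    simp only [hf.add_left, hf.add_right, hf.smul_left, hf.smul_right, h11, h12, h13, h21, h22, h23,
      h31, h32, h33]
    ring
  have hQ3 : P (I + rk1 S.form e₃ e₃) := by
    convert hP using 1
    refine LinearMap.ext fun m => ?_
    simp only [hI, LinearMap.add_apply, rk1_apply]
    match_scalars <;> first | linear_combination f m e₃ * h2 | linear_combination (0 : F)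
  have he3I : I e₃ = e₃ := by have := hspan 0 0 1; simpa using this
  have hu0 := hspan 1 1 1
  have hn0 := hnorm 1 1 1
  simp only [one_smul, map_one, mul_one] at hu0 hn0
  obtain ⟨u₀, hu₀⟩ : ∃ v, v = e₁ + e₂ + e₃ := ⟨_, rfl⟩
  rw [← hu₀] at hu0 hn0
  have hn0' : f u₀ u₀ = 1 := by rw [hn0]; linear_combination h2
  -- move the third basis vector to `e₁ + e₂ + e₃`
  obtain ⟨w, hw⟩ : ∃ v, v = ω • e₁ + ω • e₂ + (ω * ω) • e₃ := ⟨_, rfl⟩
  have hwn : f w w = 1 := by
    rw [hw, hnorm, map_mul, hωω]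
    linear_combination (ω * σ ω + 1) * hωω + h2
  have hQ0 : P (I + rk1 S.form u₀ u₀) := by
    have h := S.conj_q hfix hωω hwn (by rw [hw]; exact hspan _ _ _) h33 he3I hQ3
    convert h using 1
    have e : qrefl S.form w ω e₃ = ω • u₀ := by
      simp only [qrefl, LinearMap.add_apply, LinearMap.id_apply, LinearMap.smul_apply, rk1_apply, hw, hu₀,
        hf.add_right, hf.smul_right, h31, h32, h33, map_mul, mul_zero, mul_one, zero_add, hσω]
      match_scalars <;> first
        | linear_combination 0 * h2 + ((1 : F) + (-2 : F) * ω + (1 : F) * ω * ω * ω) * hS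
        | linear_combination ((1 : F)) * h2 + ((-2 : F) + (1 : F) * ω * ω) * hS
    rw [e]
    refine LinearMap.ext fun m => ?_
    simp only [hI, LinearMap.add_apply, rk1_apply, hf.smul_right, smul_smul]
    rw [show σ ω * f m u₀ * ω = f m u₀ by linear_combination f m u₀ * hωω]
  -- and then to the other vectors
  have hQk : ∀ k : F, k * σ k = 1 → P (I + rk1 S.form (e₁ + k • e₂ + e₃) (e₁ + k • e₂ + e₃)) := by
    intro k hk
    have h := S.conj_q hfix hk h22 (by simpa [hI] using hspan 0 1 0) hn0' hu0 hQ0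
    convert h using 1
    have e : qrefl S.form e₂ k u₀ = e₁ + k • e₂ + e₃ := by
      simp only [qrefl, LinearMap.add_apply, LinearMap.id_apply, LinearMap.smul_apply, rk1_apply, hu₀,
        hf.add_left, h12, h22, h32, zero_add, add_zero, one_smul]
      module
    rw [e]
  obtain ⟨w', hw'⟩ : ∃ v, v = e₁ + (ω * ω) • e₂ + e₃ := ⟨_, rfl⟩
  have hQ2 : P (I + rk1 S.form e₂ e₂) := by
    have h1 := hspan 1 (ω * ω) 1
    have h2' := hnorm 1 (ω * ω) 1
    simp only [one_smul, map_one, mul_one] at h1 h2'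
    have hwn' : f w' w' = 1 := by
      rw [hw', h2', map_mul]
      linear_combination (ω * σ ω + 1) * hωω + h2
    have h := S.conj_q hfix hωω hwn' (by rw [hw']; exact h1) hn0' hu0 hQ0
    convert h using 1
    have e : qrefl S.form w' ω u₀ = ω • e₂ := by
      simp only [qrefl, LinearMap.add_apply, LinearMap.id_apply, LinearMap.smul_apply, rk1_apply, hu₀, hw',
        hf.add_left, hf.add_right, hf.smul_right, h11, h12, h13, h21, h22, h23, h31, h32, h33, map_mul,
        mul_zero, mul_one, add_zero, zero_add, hσω]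
      match_scalars <;> first
        | linear_combination ((-1 : F)) * h2 + ((1 : F) * ω) * hS
        | linear_combination ((2 : F) + (1 : F) * ω) * h2 + ((-3 : F) + (1 : F) * ω * ω * ω) * hS
    rw [e]
    refine LinearMap.ext fun m => ?_
    simp only [hI, LinearMap.add_apply, rk1_apply, hf.smul_right, smul_smul]
    rw [show σ ω * f m e₂ * ω = f m e₂ by linear_combination f m e₂ * hωω]
  have hk2 : (ω * ω) * σ (ω * ω) = 1 := by rw [map_mul]; linear_combination (ω * σ ω + 1) * hωω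
  have hsum := S.add _ _ (S.add _ _ hQ2 (hQk 1 (by rw [map_one, mul_one])))
    (S.add _ _ (hQk ω hωω) (hQk _ hk2))
  refine ⟨e₁ + e₃, fun e => ?_, ?_, fun k hk => ?_⟩
  · have := congrArg (fun v => f v e₁) e
    simp only [hf.add_left, h11, h31, add_zero, hf.zero_left] at this
    exact one_ne_zero this
  · rw [hf.add_left, hf.add_right, hf.add_right, h11, h13, h31, h33]
    linear_combination h2
  have hk1 : P (rk1 S.form (e₁ + e₃) (e₁ + e₃)) := by
    convert hsum using 1
    refine LinearMap.ext fun m => ?_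
    simp only [hI, LinearMap.add_apply, rk1_apply, one_smul, hf.add_right, hf.smul_right, map_mul, hσω]
    match_scalars <;> first
      | linear_combination ((-1 : F) * (f m e₃) + (-1 : F) * (f m e₂) + (-3 : F) * (f m e₁) + (-1 : F) * ω * (f m e₂)) * h2 + ((-1 : F) * (f m e₂)) * hS
      | linear_combination ((-3 : F) * (f m e₂)) * h2 + ((-1 : F) * (f m e₃) + (-1 : F) * (f m e₁) + (-1 : F) * ω * (f m e₂) + (-1 : F) * ω * ω * (f m e₂)) * hS
      | linear_combination ((-3 : F) * (f m e₃) + (-1 : F) * (f m e₂) + (-1 : F) * (f m e₁) + (-1 : F) * ω * (f m e₂)) * h2 + ((-1 : F) * (f m e₂)) * hS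
  exact S.scale _ hk1 k (by linear_combination hk - k * h2)

end ZSet

end Cfsg.Agent.Lib.TensorForm
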