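import Cfsg.Agent.Lib.TensorForm.Normal
import Mathlib.GroupTheory.Nilpotent
import Mathlib.GroupTheory.Sylow

/-!
Two conjugate root groups: either the subspace is exceptional, or they are conjugate in the group they
generate.
-/

set_option autoImplicit false
set_option linter.unusedSectionVars false

namespace Cfsg.Agent.Lib.TensorForm

open Matrix Cfsg.Agent.Lib Cfsg.Agent.Lib.TensorMax
open scoped Pointwise

variable {F : Type*} [Field F] {a b : ℕ} {σ : F →+* F} {ε : F}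
  {f₁ : (Fin a → F) → (Fin a → F) → F} {f₂ : (Fin b → F) → (Fin b → F) → F}
  {B : Matrix (Fin a) (Fin b) F → Matrix (Fin a) (Fin b) F → F}
  {M : Subgroup (GL (Fin a × Fin b) F)}

/-- The root group at `c`. -/
def IsSForm.trGrp (a : ℕ) (hf : IsSForm σ ε f₂) (c : Fin b → F) (hc : f₂ c c = 0) :
    Subgroup (GL (Fin a × Fin b) F) where
  carrier := {g | ∃ l : F, ε * l + σ l = 0 ∧ ∀ X, op g X = X + l • vecMulVec (X *ᵥ cov f₂ c) c}
  one_mem' := ⟨0, by rw [map_zero, mul_zero, add_zero], fun X => by rw [op_one, zero_smul, add_zero]⟩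
  mul_mem' := by
    rintro g h ⟨l, hl, hg⟩ ⟨m, hm, hh⟩
    refine ⟨l + m, by rw [map_add]; linear_combination hl + hm, fun X => ?_⟩
    rw [op_mul, hh, hg, add_mulVec, smul_mulVec, pure_mulVec, hf.dot_cov, hc, zero_smul, smul_zero,
      add_zero, add_smul]
    abel
  inv_mem' := by
    rintro g ⟨l, hl, hg⟩
    refine ⟨-l, by rw [map_neg]; linear_combination -hl, fun X => ?_⟩
    apply op_injective g
    rw [op_op_inv, hg, add_mulVec, smul_mulVec, pure_mulVec, hf.dot_cov, hc, zero_smul, smul_zero,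
      add_zero, neg_smul]
    abel

theorem exists_vec_dot [NeZero a] {c : Fin b → F} (hf : IsSForm σ ε f₂) (hc0 : c ≠ 0) (x : Fin a → F) :
    ∃ Z : Matrix (Fin a) (Fin b) F, Z *ᵥ cov f₂ c = x := by
  obtain ⟨e, he⟩ := hf.exists_partner hc0
  exact ⟨vecMulVec x e, by rw [pure_mulVec, hf.dot_cov, he, one_smul]⟩

/-- Two `p`-subgroups of equal order: conjugate in their join, or the first is normalised by a further
`p`-element of the join. -/
theorem exists_conj_or_normalizing {G : Type*} [Group G] [Finite G] {p : ℕ} [Fact p.Prime]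
    {X Y : Subgroup G} (hX : IsPGroup p X) (hY : IsPGroup p Y) (hcard : Nat.card X = Nat.card Y) :
    (∃ h ∈ X ⊔ Y, ∀ t ∈ X, h * t * h⁻¹ ∈ Y) ∨
      ∃ z ∈ X ⊔ Y, z ∉ X ∧ (∃ k : ℕ, z ^ p ^ k = 1) ∧ ∀ t ∈ X, z * t * z⁻¹ ∈ X := by
  let H := X ⊔ Y
  let X' := X.subgroupOf H
  let Y' := Y.subgroupOf H
  have hX'p : IsPGroup p X' := hX.comap_of_injective H.subtype H.subtype_injective
  have hY'p : IsPGroup p Y' := hY.comap_of_injective H.subtype H.subtype_injective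
  have hc : Nat.card X' = Nat.card Y' := by
    rw [Nat.card_congr (Subgroup.subgroupOfEquivOfLe (le_sup_left : X ≤ H)).toEquiv,
      Nat.card_congr (Subgroup.subgroupOfEquivOfLe (le_sup_right : Y ≤ H)).toEquiv, hcard]
  obtain ⟨P, hP⟩ := hX'p.exists_le_sylow
  by_cases hPX : (P : Subgroup H) ≤ X'
  · obtain ⟨Q, hQ⟩ := hY'p.exists_le_sylow
    obtain ⟨h, hh⟩ := MulAction.exists_smul_eq H P Q
    have hY'Q : Y' = (Q : Subgroup H) := by
      refine Subgroup.eq_of_le_of_card_ge hQ (le_of_eq ?_)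
      rw [← hc, le_antisymm hP hPX]
      exact Nat.card_congr (Sylow.equiv Q P).toEquiv
    refine Or.inl ⟨h.1, h.2, fun t ht => ?_⟩
    have hmem : MulAut.conj h • (⟨t, Subgroup.mem_sup_left ht⟩ : H) ∈ Y' := by
      rw [hY'Q, ← hh, Sylow.coe_subgroup_smul]
      exact Subgroup.smul_mem_pointwise_smul _ (MulAut.conj h) _
        (hP (Subgroup.mem_subgroupOf.2 ht))
    exact Subgroup.mem_subgroupOf.1 hmem
  · haveI : Group.IsNilpotent (P : Subgroup H) := P.2.isNilpotent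
    have hlt : X'.subgroupOf (P : Subgroup H) < ⊤ :=
      lt_top_iff_ne_top.2 fun e => hPX (Subgroup.subgroupOf_eq_top.1 e)
    obtain ⟨z, hz, hzX⟩ := SetLike.exists_of_lt (Group.normalizerCondition_of_isNilpotent _ hlt)
    obtain ⟨k, hk⟩ := P.2 z
    refine Or.inr ⟨(z : H).1, (z : H).2, fun h => hzX (Subgroup.mem_subgroupOf.2 (Subgroup.mem_subgroupOf.2 h)),
      ⟨k, congrArg (fun w : (P : Subgroup H) => ((w : H) : G)) hk⟩, fun t ht => ?_⟩
    have hmem : (⟨⟨t, Subgroup.mem_sup_left ht⟩, hP (Subgroup.mem_subgroupOf.2 ht)⟩ : (P : Subgroup H))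
        ∈ X'.subgroupOf (P : Subgroup H) := Subgroup.mem_subgroupOf.2 (Subgroup.mem_subgroupOf.2 ht)
    exact Subgroup.mem_subgroupOf.1 (Subgroup.mem_subgroupOf.1 ((Subgroup.mem_normalizer_iff.1 hz _).1 hmem))

namespace Setup

variable (S : Setup σ ε f₁ f₂ B M)
include S

theorem exists_mem_trGrp {c : Fin b → F} (hc : f₂ c c = 0) (l : F) (hl : ε * l + σ l = 0) :
    ∃ t : S.form₂.trGrp a c hc, t.1 ∈ M ∧
      ∀ X, op t.1 X = X + l • vecMulVec (X *ᵥ cov f₂ c) c := by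
  obtain ⟨t, ht, -, htX⟩ := S.transB c l hc hl
  exact ⟨⟨t, l, hl, htX⟩, ht, htX⟩

theorem trGrp_le {c : Fin b → F} (hc : f₂ c c = 0) : S.form₂.trGrp a c hc ≤ M := by
  rintro g ⟨l, hl, hg⟩
  obtain ⟨t, ht, -, htX⟩ := S.transB c l hc hl
  rwa [ext_op (g := g) (h := t) fun X => by rw [hg, htX]]

theorem card_trGrp {c : Fin b → F} (hc0 : c ≠ 0) (hc : f₂ c c = 0) :
    Nat.card (S.form₂.trGrp a c hc) = Nat.card {l : F // ε * l + σ l = 0} := by
  refine (Nat.card_congr (Equiv.ofBijective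
    (fun l : {l : F // ε * l + σ l = 0} => (S.exists_mem_trGrp hc l.1 l.2).choose) ⟨?_, ?_⟩)).symm
  · intro l m h
    have h1 := (S.exists_mem_trGrp hc l.1 l.2).choose_spec.2
    have h2 := (S.exists_mem_trGrp hc m.1 m.2).choose_spec.2
    simp only at h
    rw [← h] at h2
    obtain ⟨x, hx⟩ : ∃ x : Fin a → F, x ≠ 0 := ⟨Pi.single ⟨0, by have := S.two_le; omega⟩ 1, by simp⟩
    haveI : NeZero a := ⟨by have := S.two_le; omega⟩
    obtain ⟨Z, hZ⟩ := exists_vec_dot S.form₂ hc0 x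
    have e := (h1 Z).symm.trans (h2 Z)
    rw [hZ, add_right_inj, ← sub_eq_zero, ← sub_smul, smul_eq_zero, sub_eq_zero] at e
    exact Subtype.ext (e.resolve_right fun e0 => hx (pl_injective hc0 (e0.trans (map_zero _).symm)))
  · rintro ⟨g, l, hl, hg⟩
    refine ⟨⟨l, hl⟩, Subtype.ext (ext_op fun X => ?_)⟩
    rw [(S.exists_mem_trGrp hc l hl).choose_spec.2, hg]

theorem isPGroup_trGrp {p : ℕ} [CharP F p] {c : Fin b → F} (hc : f₂ c c = 0) :
    IsPGroup p (S.form₂.trGrp a c hc) := by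
  rintro ⟨g, l, hl, hg⟩
  refine ⟨1, Subtype.ext (ext_op fun X => ?_)⟩
  have h : ∀ n : ℕ, op (g ^ n) X = X + ((n : F) * l) • vecMulVec (X *ᵥ cov f₂ c) c := by
    intro n
    induction n with
    | zero => rw [pow_zero, op_one, Nat.cast_zero, zero_mul, zero_smul, add_zero]
    | succ n ih =>
      rw [pow_succ', op_mul, ih, hg, add_mulVec, smul_mulVec, pure_mulVec, S.form₂.dot_cov, hc, zero_smul,
        smul_zero, add_zero, Nat.cast_succ, add_mul, one_mul, add_smul]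
      abel
  rw [pow_one, SubmonoidClass.coe_pow, OneMemClass.coe_one, op_one, h p, CharP.cast_eq_zero, zero_mul,
    zero_smul, add_zero]

/-- Either exceptional, or some element of `M` fixing the common orthogonal maps `Plc` onto the subspace. -/
theorem exc_or_move [Finite F] (hno : NoRad f₂ M) {g : GL (Fin a × Fin b) F} (hg : g ∈ M)
    {v : Fin b → F} (hv0 : v ≠ 0) (hv : f₂ v v = 0) (hW : ¬ IsProd (wsub g v))
    {c : Fin b → F} (hc0 : c ≠ 0) (hc : f₂ c c = 0) :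
    Exc (wsub g v) c ∨ ∃ h ∈ M,
      (∀ Z, Z *ᵥ cov f₂ c = 0 → (∀ X ∈ wsub g v, B X Z = 0) → op h Z = Z) ∧
      (∀ Z, op h Z - Z ∈ wsub g v ⊔ LinearMap.range (pl a c)) ∧ wsub h c = wsub g v := by
  classical
  haveI : NeZero a := ⟨by have := S.two_le; omega⟩
  obtain ⟨p, hpc⟩ := CharP.exists F
  haveI := hpc
  haveI : Fact p.Prime := ⟨CharP.char_is_prime F p⟩
  haveI : Finite (GL (Fin a × Fin b) F) := inferInstance
  let W := wsub g v
  let U := W ⊔ LinearMap.range (pl a c)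
  let X₀ := S.form₂.trGrp a c hc
  let Y₀ := (S.form₂.trGrp a v hv).map (MulAut.conj g).toMonoidHom
  let Good : Subgroup (GL (Fin a × Fin b) F) :=
    { carrier := {h | h ∈ M ∧ (∀ Z, Z *ᵥ cov f₂ c = 0 → (∀ X ∈ W, B X Z = 0) → op h Z = Z) ∧
        ∀ Z, op h Z - Z ∈ U}
      one_mem' := ⟨M.one_mem, fun Z _ _ => op_one Z, fun Z => by rw [op_one, sub_self]; exact U.zero_mem⟩
      mul_mem' := fun {h h'} hh hh' => ⟨M.mul_mem hh.1 hh'.1,
        fun Z h1 h2 => by rw [op_mul, hh'.2.1 Z h1 h2, hh.2.1 Z h1 h2],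
        fun Z => by
          rw [op_mul, ← sub_add_sub_cancel _ (op h' Z) Z]
          exact U.add_mem (hh.2.2 _) (hh'.2.2 _)⟩
      inv_mem' := fun {h} hh => ⟨M.inv_mem hh.1,
        fun Z h1 h2 => by conv_lhs => rw [← hh.2.1 Z h1 h2, op_inv_op],
        fun Z => by
          have := hh.2.2 (op h⁻¹ Z)
          rw [op_op_inv] at this
          rw [← neg_sub]
          exact U.neg_mem this⟩ }
  have hXG : X₀ ≤ Good := by
    rintro t ⟨l, hl, ht⟩
    refine ⟨S.trGrp_le hc ⟨l, hl, ht⟩, fun Z h1 _ => ?_, fun Z => ?_⟩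
    · rw [ht, h1, pure_zero_left, smul_zero, add_zero]
    · rw [ht, add_sub_cancel_left]
      exact U.smul_mem _ (Submodule.mem_sup_right ⟨_, rfl⟩)
  have hY : ∀ y ∈ Y₀, y ∈ M ∧ (∀ Z, (∀ X ∈ W, B X Z = 0) → op y Z = Z) ∧ ∀ Z, op y Z - Z ∈ W := by
    rintro _ ⟨t, ⟨l, hl, ht⟩, rfl⟩
    have hop : ∀ Z, op ((MulAut.conj g).toMonoidHom t) Z
        = Z + l • op g (vecMulVec (op g⁻¹ Z *ᵥ cov f₂ v) v) := fun Z => by
      show op (g * t * g⁻¹) Z = _
      rw [op_mul, op_mul, ht, map_add, map_smul, op_op_inv]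
    refine ⟨M.mul_mem (M.mul_mem hg (S.trGrp_le hv ⟨l, hl, ht⟩)) (M.inv_mem hg), fun Z hZ => ?_, fun Z => ?_⟩
    · rw [hop, S.inv_mulVec_eq_zero hg hZ, pure_zero_left, map_zero, smul_zero, add_zero]
    · rw [hop, add_sub_cancel_left]
      exact W.smul_mem _ (mem_wsub.2 ⟨_, rfl⟩)
  have hYG : Y₀ ≤ Good := fun y hy =>
    ⟨(hY y hy).1, fun Z _ h2 => (hY y hy).2.1 Z h2, fun Z => Submodule.mem_sup_left ((hY y hy).2.2 Z)⟩
  let H := X₀ ⊔ Y₀
  have hHG : H ≤ Good := sup_le hXG hYG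
  obtain ⟨l, hl0, hl⟩ := S.skew
  obtain ⟨⟨t, htX₀⟩, -, htX⟩ := S.exists_mem_trGrp hc l hl
  have hcard : Nat.card X₀ = Nat.card Y₀ := by
    rw [← Nat.card_congr (Subgroup.equivMapOfInjective (S.form₂.trGrp a v hv) (MulAut.conj g).toMonoidHom
      (MulAut.conj g).injective).toEquiv, S.card_trGrp hc0 hc, S.card_trGrp hv0 hv]
  rcases exists_conj_or_normalizing (p := p) (S.isPGroup_trGrp hc) ((S.isPGroup_trGrp hv).map _) hcard with
    ⟨h, hH, hconj⟩ | ⟨z, hH, hzX, ⟨k, hk⟩, hnormal⟩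
  · right
    obtain ⟨hM, hfix, himg⟩ := hHG hH
    refine ⟨h, hM, hfix, himg, ?_⟩
    refine Submodule.eq_of_le_of_finrank_eq ?_ (by rw [finrank_wsub _ hc0, finrank_wsub _ hv0])
    intro Z hZ
    obtain ⟨x, rfl⟩ := mem_wsub.1 hZ
    obtain ⟨Z₀, hZ₀⟩ := exists_vec_dot S.form₂ hc0 x
    have h3 := (hY _ (hconj t htX₀)).2.2 (op h Z₀)
    rw [op_mul, op_mul, op_inv_op, htX, map_add, add_sub_cancel_left, map_smul, hZ₀] at h3
    have := W.smul_mem l⁻¹ h3
    rwa [smul_smul, inv_mul_cancel₀ hl0, one_smul] at this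
  · obtain ⟨hM, hfix, himg⟩ := hHG hH
    have hnorm : ∀ x, op z (vecMulVec x c) ∈ LinearMap.range (pl a c) := by
      intro x
      obtain ⟨m, -, hm⟩ := hnormal t htX₀
      obtain ⟨Z₀, hZ₀⟩ := exists_vec_dot S.form₂ hc0 x
      have h3 := hm (op z Z₀)
      rw [op_mul, op_mul, op_inv_op, htX, map_add, add_right_inj, map_smul, hZ₀] at h3
      have h4 : vecMulVec (op z Z₀ *ᵥ cov f₂ c) c ∈ LinearMap.range (pl a c) := ⟨_, rfl⟩
      have := Submodule.smul_mem _ l⁻¹ (Submodule.smul_mem _ m h4)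
      rwa [← h3, smul_smul, inv_mul_cancel₀ hl0, one_smul] at this
    rcases S.exc_or_trans hno hg hv0 hv hW hc0 hc hM hk hfix himg hnorm with he | hzm
    · exact Or.inl he
    · exact absurd hzm hzX

end Setup

end Cfsg.Agent.Lib.TensorForm
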