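import Cfsg.Agent.Lib.TensorForm.Concrete
import Cfsg.Agent.Lib.TensorForm.RankOne
import Cfsg.Agent.Lib.SingMax.NonDeg

/-!
The tensor product of two alternating forms as a quadratic space; transvections of the factors lie in `Ω`.
-/

set_option autoImplicit false
set_option linter.unusedSectionVars false

namespace Cfsg.Agent.Lib.TensorForm

open Matrix QuadraticMap Cfsg.Agent.Lib Cfsg.Agent.Lib.TensorMax
open Cfsg.Agent.Lib.FormMax.OrthSL (eichlerGL eichlerGL_mulVec Q_eichlerGL)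
open Cfsg.Agent.Lib.SingMax (RootIn E_add E_mem_omega conj_E gl_ext')

variable {F : Type*} [Field F] {a b : ℕ}

/-- A non-degenerate alternating form. -/
structure IsAlt {m : ℕ} (f : (Fin m → F) → (Fin m → F) → F) : Prop where
  form : IsSForm (RingHom.id F) (-1) f
  self : ∀ v, f v v = 0

namespace IsAlt

variable {m : ℕ} {f : (Fin m → F) → (Fin m → F) → F} (hf : IsAlt f)
include hf

theorem swap (v w : Fin m → F) : f w v = -f v w := by rw [hf.form.symm v w, RingHom.id_apply, neg_one_mul]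

theorem smul_right (s : F) (x v : Fin m → F) : f x (s • v) = s * f x v := hf.form.smul_right s x v

theorem exists_dual_out [Finite F] {T : Submodule F (Fin m → F)} {p : Fin m → F} (hp : p ∉ T) :
    ∃ w, (∀ t ∈ T, f w t = 0) ∧ f w p = 1 := by
  obtain ⟨φ, hφ0, hφ1⟩ := exists_sep hp
  obtain ⟨u, rfl⟩ := hf.form.exists_cov φ
  refine ⟨-u, fun t ht => ?_, ?_⟩
  · have := hφ0 t ht
    rw [hf.form.dot_cov] at this
    rw [hf.form.neg_left, hf.swap t u, this, neg_zero, neg_zero]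
  · rw [hf.form.dot_cov] at hφ1
    rw [hf.form.neg_left, hf.swap p u, hφ1, neg_neg]

theorem exists_dual [Finite F] {c p : Fin m → F} (hp : p ∉ F ∙ c) : ∃ w, f w c = 0 ∧ f w p = 1 :=
  (hf.exists_dual_out hp).imp fun _ h => ⟨h.1 c (Submodule.mem_span_singleton_self c), h.2⟩

/-- A vector orthogonal to a family, outside a subspace. -/
theorem exists_orth_out {j : ℕ} (u : Fin j → Fin m → F) (T : Submodule F (Fin m → F))
    (h : j + Module.finrank F T < m) : ∃ v, (∀ i, f v (u i) = 0) ∧ v ∉ T := by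
  obtain ⟨φ, hφ, hφT⟩ := exists_perp (fun i => cov f (u i)) T h
  exact ⟨φ, fun i => by rw [← hf.form.dot_cov, dotProduct_comm]; exact hφ i, hφT⟩

theorem exists_both {u v : Fin m → F} (hu : u ≠ 0) (hv : v ≠ 0) : ∃ z, f u z ≠ 0 ∧ f v z ≠ 0 := by
  obtain ⟨p, hp⟩ := hf.form.nondeg u hu
  obtain ⟨q, hq⟩ := hf.form.nondeg v hv
  by_cases h1 : f v p = 0
  swap
  · exact ⟨p, hp, h1⟩
  by_cases h2 : f u q = 0
  swap
  · exact ⟨q, h2, hq⟩
  refine ⟨p + q, ?_, ?_⟩
  · rw [hf.form.add_right, h2, add_zero]; exact hp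
  · rw [hf.form.add_right, h1, zero_add]; exact hq

/-- A property closed under transvection moves holds at every non-zero vector. -/
theorem trans_induction {P : (Fin m → F) → Prop} (step : ∀ x y, f x y ≠ 0 → P x → P y) {x y : Fin m → F}
    (hx : x ≠ 0) (hy : y ≠ 0) (h : P x) : P y := by
  obtain ⟨z, hxz, hyz⟩ := hf.exists_both hx hy
  exact step z y (fun e => hyz (hf.form.eq_zero_symm e)) (step x z hxz h)

/-- The transvection moving `p` to `q`. -/
theorem exists_move {p q : Fin m → F} (h : f p q ≠ 0) :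
    ∃ (z : Fin m → F) (l : F), p + (l * f p z) • z = q ∧ ∀ v, f v p = 0 → f v q = 0 → f v z = 0 := by
  refine ⟨q - p, (f p q)⁻¹, ?_, fun v h1 h2 => by rw [hf.form.sub_right, h1, h2, sub_zero]⟩
  rw [hf.form.sub_right, hf.self, sub_zero, inv_mul_cancel₀ h, one_smul, add_sub_cancel]

theorem trans_inj {z v : Fin m → F} {l : F} (h : v + (l * f v z) • z = 0) : v = 0 := by
  have h' : f (v + (l * f v z) • z) z = 0 := by rw [h, hf.form.zero_left]
  rw [hf.form.add_left, hf.form.smul_left, hf.self, mul_zero, add_zero] at h'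
  rwa [h', mul_zero, zero_smul, add_zero] at h

theorem trans_form (z v w : Fin m → F) (l : F) :
    f (v + (l * f v z) • z) (w + (l * f w z) • z) = f v w := by
  rw [hf.form.add_left, hf.form.add_right, hf.form.add_right, hf.form.smul_left, hf.form.smul_left,
    hf.smul_right, hf.smul_right, hf.self, hf.swap w z]
  ring

/-- The map `m ↦ f(m,x) y - f(m,y) x`. -/
def wedge (x y : Fin m → F) : (Fin m → F) →ₗ[F] (Fin m → F) := rk1 hf.form y x - rk1 hf.form x y

theorem wedge_apply (x y v : Fin m → F) : hf.wedge x y v = f v x • y - f v y • x := rfl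

/-- The identity is a sum of wedges. -/
theorem id_induction [Finite F] {P : ((Fin m → F) →ₗ[F] (Fin m → F)) → Prop} (h0 : P 0)
    (hadd : ∀ Z Z', P Z → P Z' → P (Z + Z')) (hgen : ∀ x y, P (hf.wedge x y)) (l : F) :
    P (l • LinearMap.id) := by
  classical
  choose d hd using fun i : Fin m => hf.form.exists_cov (Pi.single i 1 : Fin m → F)
  have hcoord : ∀ (v : Fin m → F) i, f v (d i) = v i := fun v i => by
    rw [← hf.form.dot_cov, hd, dotProduct_single, mul_one]
  let e : Fin m → Fin m → F := fun i => Pi.single i 1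
  let W : Fin m → Fin m → (Fin m → F) →ₗ[F] (Fin m → F) :=
    fun i j => (l * f (d i) (d j)) • rk1 hf.form (e i) (e j)
  have hpair : ∀ i j, P (W i j + W j i) := fun i j => by
    convert hgen ((l * f (d i) (d j)) • e j) (e i) using 1
    refine LinearMap.ext fun v => ?_
    simp only [W, wedge_apply, LinearMap.add_apply, LinearMap.smul_apply, rk1_apply, hf.swap (d i) (d j),
      hf.smul_right]
    module
  have hall : ∀ s : Finset (Fin m), P (∑ i ∈ s, ∑ j ∈ s, W i j) := by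
    intro s
    induction s using Finset.induction_on with
    | empty => simpa using h0
    | insert k t hk ih =>
      have e1 : (∑ i ∈ insert k t, ∑ j ∈ insert k t, W i j)
          = W k k + ((∑ j ∈ t, (W k j + W j k)) + ∑ i ∈ t, ∑ j ∈ t, W i j) := by
        rw [Finset.sum_insert hk, Finset.sum_insert hk, Finset.sum_add_distrib]
        simp only [Finset.sum_insert hk, Finset.sum_add_distrib]
        abel
      have e2 : W k k = 0 := by
        simp only [W, hf.self, mul_zero, zero_smul]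
      rw [e1, e2, zero_add]
      exact hadd _ _ (Finset.sum_induction _ P hadd h0 fun j _ => hpair k j) ih
  convert hall Finset.univ using 1
  refine LinearMap.ext fun v => ?_
  simp only [W, LinearMap.sum_apply, LinearMap.smul_apply, rk1_apply, LinearMap.id_apply, smul_smul]
  conv_lhs => rw [pi_eq_sum_univ' v, Finset.smul_sum]
  refine Finset.sum_congr rfl fun i _ => ?_
  rw [← Finset.sum_smul, smul_smul]
  congr 1
  let R : (Fin m → F) →+ F :=
    { toFun := fun w => f v w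
      map_zero' := hf.form.zero_right v
      map_add' := fun p q => hf.form.add_right v p q }
  have h : f v (d i) = ∑ j, d i j * f v (e j) := by
    show R (d i) = _
    conv_lhs => rw [pi_eq_sum_univ' (d i), map_sum]
    exact Finset.sum_congr rfl fun j _ => hf.smul_right _ _ _
  rw [← hcoord v i, h, Finset.mul_sum]
  exact Finset.sum_congr rfl fun j _ => by rw [← hcoord (d i) j, mul_assoc]

end IsAlt

/-- A matrix as a vector. -/
def ev : Matrix (Fin a) (Fin b) F →ₗ[F] (Fin a × Fin b → F) where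
  toFun X := fun p => X p.1 p.2
  map_add' _ _ := rfl
  map_smul' _ _ := rfl

theorem ev_op (g : GL (Fin a × Fin b) F) (X : Matrix (Fin a) (Fin b) F) :
    ev (op g X) = (g : Matrix (Fin a × Fin b) (Fin a × Fin b) F) *ᵥ ev X := rfl

theorem ev_injective : Function.Injective (ev : Matrix (Fin a) (Fin b) F →ₗ[F] _) :=
  fun _ _ h => Matrix.ext fun i j => congrFun h (i, j)

theorem ev_surjective : Function.Surjective (ev : Matrix (Fin a) (Fin b) F →ₗ[F] _) :=
  fun v => ⟨Matrix.of fun i j => v (i, j), rfl⟩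

section Roots

variable {ι : Type} [Fintype ι] [DecidableEq ι] {Q : QuadraticForm F (ι → F)} {M : Subgroup (GL ι F)}

theorem eichler_congr {e e' v v' : ι → F} (he : Q e = 0) (hv : polar ⇑Q e v = 0) (he' : Q e' = 0)
    (hv' : polar ⇑Q e' v' = 0) (h1 : e = e') (h2 : v = v') :
    eichlerGL Q e v he hv = eichlerGL Q e' v' he' hv' := by
  subst h1; subst h2; rfl

theorem eichler_div {e v w : ι → F} (he : Q e = 0) (hv : polar ⇑Q e v = 0) (hw : polar ⇑Q e w = 0) :
    eichlerGL Q e v he hv * (eichlerGL Q e w he hw)⁻¹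
      = eichlerGL Q e (v - w) he (by rw [polar_sub_right, hv, hw, sub_zero]) := by
  rw [mul_inv_eq_iff_eq_mul, E_add]
  exact eichler_congr _ _ _ _ rfl (sub_add_cancel v w).symm

theorem rootIn_div {e v w : ι → F} {he : Q e = 0} {hv : polar ⇑Q e v = 0} {hw : polar ⇑Q e w = 0}
    (h : eichlerGL Q e v he hv * (eichlerGL Q e w he hw)⁻¹ ∈ M) : RootIn Q M e (v - w) :=
  ⟨he, _, eichler_div he hv hw ▸ h⟩

theorem rootIn_sub {e v w : ι → F} (h : RootIn Q M e v) (h' : RootIn Q M e w) : RootIn Q M e (v - w) := by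
  obtain ⟨he, hv, hm⟩ := h
  obtain ⟨_, hw, hm'⟩ := h'
  exact rootIn_div (M.mul_mem hm (M.inv_mem hm'))

/-- The scalings all of which are roots at `e`. -/
def rootSpace (M : Subgroup (GL ι F)) {e : ι → F} (he : Q e = 0) : Submodule F (ι → F) where
  carrier := {v | ∀ t : F, RootIn Q M e (t • v)}
  zero_mem' t := by rw [smul_zero]; exact SingMax.rootIn_zero he
  add_mem' {v w} hv hw t := by rw [smul_add]; exact (hv t).add (hw t)
  smul_mem' r v hv t := by rw [smul_smul]; exact hv (t * r)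

theorem commute_of_fix {e v e' v' : ι → F} (he : Q e = 0) (hv : polar ⇑Q e v = 0) (he' : Q e' = 0)
    (hv' : polar ⇑Q e' v' = 0)
    (h1 : (eichlerGL Q e v he hv : Matrix ι ι F) *ᵥ e' = e')
    (h2 : (eichlerGL Q e v he hv : Matrix ι ι F) *ᵥ v' = v') :
    eichlerGL Q e v he hv * eichlerGL Q e' v' he' hv'
      = eichlerGL Q e' v' he' hv' * eichlerGL Q e v he hv :=
  mul_inv_eq_iff_eq_mul.1 ((conj_E (Q_eichlerGL he hv) he' hv').trans (eichler_congr _ _ _ _ h1 h2))

end Roots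

/-- A quadratic form whose polar is the tensor product of two alternating forms, vanishing at pure tensors. -/
structure OSetup (f₁ : (Fin a → F) → (Fin a → F) → F) (f₂ : (Fin b → F) → (Fin b → F) → F)
    (Q : QuadraticForm F (Fin a × Fin b → F)) : Prop where
  alt₁ : IsAlt f₁
  alt₂ : IsAlt f₂
  pureQ : ∀ x e, Q (ev (vecMulVec x e)) = 0
  polarQ : ∀ X Y, polar ⇑Q (ev X) (ev Y) = tB f₁ f₂ X Y
  nondeg : (QuadraticMap.polarBilin Q).Nondegenerate
  two_le : 2 ≤ a
  lt : a < b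
  five_le : 5 ≤ b

/-- The subgroup generated by the transvections of either factor in `Ω`. -/
def factorTrans (f₁ : (Fin a → F) → (Fin a → F) → F) (f₂ : (Fin b → F) → (Fin b → F) → F)
    (Q : QuadraticForm F (Fin a × Fin b → F)) : Subgroup (GL (Fin a × Fin b) F) :=
  Subgroup.closure {g | g ∈ Cfsg.Geo.kroneckerSubgroup a b F ⊓ Cfsg.Geo.omegaGL ⇑Q ∧
    ((∃ (c : Fin b → F) (l : F), ∀ X, op g X = X + l • vecMulVec (X *ᵥ cov f₂ c) c) ∨
      ∃ (x : Fin a → F) (l : F), ∀ X, op g X = X + l • vecMulVec x (cov f₁ x ᵥ* X))}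

theorem factorTrans_le (f₁ : (Fin a → F) → (Fin a → F) → F) (f₂ : (Fin b → F) → (Fin b → F) → F)
    (Q : QuadraticForm F (Fin a × Fin b → F)) :
    factorTrans f₁ f₂ Q ≤ Cfsg.Geo.kroneckerSubgroup a b F ⊓ Cfsg.Geo.omegaGL ⇑Q :=
  (Subgroup.closure_le _).2 fun _ hg => hg.1

theorem mem_factorTrans {f₁ : (Fin a → F) → (Fin a → F) → F} {f₂ : (Fin b → F) → (Fin b → F) → F}
    {Q : QuadraticForm F (Fin a × Fin b → F)} {g : GL (Fin a × Fin b) F}
    (hk : g ∈ Cfsg.Geo.kroneckerSubgroup a b F) (hg : g ∈ Cfsg.Geo.omegaGL ⇑Q)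
    (h : (∃ (c : Fin b → F) (l : F), ∀ X, op g X = X + l • vecMulVec (X *ᵥ cov f₂ c) c) ∨
      ∃ (x : Fin a → F) (l : F), ∀ X, op g X = X + l • vecMulVec x (cov f₁ x ᵥ* X)) : g ∈ factorTrans f₁ f₂ Q :=
  Subgroup.subset_closure ⟨⟨hk, hg⟩, h⟩

namespace OSetup

variable {f₁ : (Fin a → F) → (Fin a → F) → F} {f₂ : (Fin b → F) → (Fin b → F) → F}
  {Q : QuadraticForm F (Fin a × Fin b → F)} (O : OSetup f₁ f₂ Q)
include O

theorem seven_le : 7 ≤ Fintype.card (Fin a × Fin b) := by
  rw [Fintype.card_prod, Fintype.card_fin, Fintype.card_fin]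
  have := Nat.mul_le_mul O.two_le O.five_le
  omega

theorem polar_pure (X : Matrix (Fin a) (Fin b) F) (y : Fin a → F) (d : Fin b → F) :
    polar ⇑Q (ev (vecMulVec y d)) (ev X) = f₁ (X *ᵥ cov f₂ d) y := by
  rw [polar_comm, O.polarQ, tB_pure O.alt₁.form O.alt₂.form]

theorem polar_pure_pure (x y : Fin a → F) (c d : Fin b → F) :
    polar ⇑Q (ev (vecMulVec x c)) (ev (vecMulVec y d)) = f₂ c d * f₁ x y := by
  rw [O.polarQ, tB_pure_pure O.alt₁.form O.alt₂.form]

/-- The Eichler element of two pure tensors. -/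
noncomputable def el (x : Fin a → F) (c : Fin b → F) (y : Fin a → F) (d : Fin b → F)
    (h : f₂ c d * f₁ x y = 0) : GL (Fin a × Fin b) F :=
  eichlerGL Q (ev (vecMulVec x c)) (ev (vecMulVec y d)) (O.pureQ x c) ((O.polar_pure_pure x y c d).trans h)

theorem op_el (x : Fin a → F) (c : Fin b → F) (y : Fin a → F) (d : Fin b → F)
    (h : f₂ c d * f₁ x y = 0) (X : Matrix (Fin a) (Fin b) F) :
    op (O.el x c y d h) X = X + f₁ (X *ᵥ cov f₂ c) x • vecMulVec y d
      - f₁ (X *ᵥ cov f₂ d) y • vecMulVec x c := by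
  refine ev_injective ?_
  rw [ev_op, el, eichlerGL_mulVec, O.polar_pure, O.polar_pure, O.pureQ, zero_mul, add_zero]
  simp only [map_sub, map_add, map_smul]

theorem op_el_pure (x : Fin a → F) (c : Fin b → F) (y : Fin a → F) (d : Fin b → F)
    (h : f₂ c d * f₁ x y = 0) (u : Fin a → F) (e : Fin b → F) :
    op (O.el x c y d h) (vecMulVec u e) = vecMulVec u e + (f₂ e c * f₁ u x) • vecMulVec y d
      - (f₂ e d * f₁ u y) • vecMulVec x c := by
  rw [O.op_el, pure_mulVec, pure_mulVec, O.alt₂.form.dot_cov, O.alt₂.form.dot_cov, O.alt₁.form.smul_left,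
    O.alt₁.form.smul_left]

theorem omega_iso {g : GL (Fin a × Fin b) F} (hg : g ∈ Cfsg.Geo.omegaGL ⇑Q) (v : Fin a × Fin b → F) :
    Q ((g : Matrix (Fin a × Fin b) (Fin a × Fin b) F) *ᵥ v) = Q v := by
  obtain ⟨g, -, rfl⟩ := hg
  exact Orth.mem_isometryGroup_iff.1 g.2 v

theorem omega_tB {g : GL (Fin a × Fin b) F} (hg : g ∈ Cfsg.Geo.omegaGL ⇑Q)
    (X Y : Matrix (Fin a) (Fin b) F) : tB f₁ f₂ (op g X) (op g Y) = tB f₁ f₂ X Y := by
  rw [← O.polarQ, ← O.polarQ, ev_op, ev_op, SingMax.polar_of_iso (O.omega_iso hg)]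

variable [Finite F]

theorem el_mem_omega (x : Fin a → F) (c : Fin b → F) (y : Fin a → F) (d : Fin b → F)
    (h : f₂ c d * f₁ x y = 0) : O.el x c y d h ∈ Cfsg.Geo.omegaGL ⇑Q :=
  E_mem_omega O.nondeg O.seven_le _ _

theorem omega_transB (c : Fin b → F) (l : F) :
    ∃ g ∈ Cfsg.Geo.omegaGL ⇑Q, g ∈ Cfsg.Geo.kroneckerSubgroup a b F ∧
      ∀ X, op g X = X + l • vecMulVec (X *ᵥ cov f₂ c) c := by
  have h1 := O.alt₁
  have h2 := O.alt₂
  obtain ⟨g, hg, hgX⟩ := h1.id_induction (P := fun Z => ∃ g ∈ Cfsg.Geo.omegaGL ⇑Q,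
      ∀ X, op g X = X + vecMulVec (Z (X *ᵥ cov f₂ c)) c)
    ⟨1, one_mem _, fun X => by rw [op_one, LinearMap.zero_apply, pure_zero_left, add_zero]⟩
    (fun Z Z' ⟨g, hg, hX⟩ ⟨g', hg', hX'⟩ => ⟨g * g', mul_mem hg hg', fun X => by
      rw [op_mul, hX', hX, add_mulVec, pure_mulVec, h2.form.dot_cov, h2.self, zero_smul, add_zero,
        LinearMap.add_apply, pure_add_left]
      abel⟩)
    (fun x y => ⟨O.el x c y c (by rw [h2.self, zero_mul]), O.el_mem_omega _ _ _ _ _, fun X => by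
      rw [O.op_el, h1.wedge_apply, sub_eq_add_neg (f₁ (X *ᵥ cov f₂ c) x • y), pure_add_left,
        pure_neg_left, pure_smul_left, pure_smul_left]
      abel⟩) l
  obtain ⟨k, ⟨hk, -⟩, hkX⟩ := exists_TB (a := a) (l • cov f₂ c) c
    (by rw [dotProduct_smul, h2.form.dot_cov, h2.self, smul_zero])
  have e : ∀ X, op g X = X + l • vecMulVec (X *ᵥ cov f₂ c) c := fun X => by
    rw [hgX, LinearMap.smul_apply, LinearMap.id_apply, pure_smul_left]
  refine ⟨g, hg, ?_, e⟩
  rwa [ext_op (g := g) (h := k) fun X => by rw [e, hkX, mulVec_smul, pure_smul_left]]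

theorem omega_transA (x : Fin a → F) (l : F) :
    ∃ g ∈ Cfsg.Geo.omegaGL ⇑Q, g ∈ Cfsg.Geo.kroneckerSubgroup a b F ∧
      ∀ X, op g X = X + l • vecMulVec x (cov f₁ x ᵥ* X) := by
  have h1 := O.alt₁
  have h2 := O.alt₂
  have key : ∀ (X : Matrix (Fin a) (Fin b) F) d,
      f₁ (X *ᵥ cov f₂ d) x = f₂ (cov f₁ x ᵥ* X) d := fun X d => by
    rw [← h1.form.dot_cov, dotProduct_comm, dotProduct_mulVec, h2.form.dot_cov]
  obtain ⟨g, hg, hgX⟩ := h2.id_induction (P := fun Z => ∃ g ∈ Cfsg.Geo.omegaGL ⇑Q,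
      ∀ X, op g X = X + vecMulVec x (Z (cov f₁ x ᵥ* X)))
    ⟨1, one_mem _, fun X => by rw [op_one, LinearMap.zero_apply, pure_zero_right, add_zero]⟩
    (fun Z Z' ⟨g, hg, hX⟩ ⟨g', hg', hX'⟩ => ⟨g * g', mul_mem hg hg', fun X => by
      rw [op_mul, hX', hX, vecMul_add, vecMul_pure, dotProduct_comm, h1.form.dot_cov, h1.self, zero_smul,
        add_zero, LinearMap.add_apply, pure_add_right]
      abel⟩)
    (fun c d => ⟨O.el x c x d (by rw [h1.self, mul_zero]), O.el_mem_omega _ _ _ _ _, fun X => by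
      rw [O.op_el, key, key, h2.wedge_apply, pure_sub_right, pure_smul_right, pure_smul_right]
      abel⟩) l
  obtain ⟨k, ⟨hk, -⟩, hkX⟩ := exists_TA (b := b) x (l • cov f₁ x)
    (by rw [dotProduct_comm, dotProduct_smul, h1.form.dot_cov, h1.self, smul_zero])
  have e : ∀ X, op g X = X + l • vecMulVec x (cov f₁ x ᵥ* X) := fun X => by
    rw [hgX, LinearMap.smul_apply, LinearMap.id_apply, pure_smul_right]
  refine ⟨g, hg, ?_, e⟩
  rwa [ext_op (g := g) (h := k) fun X => by rw [e, hkX, smul_vecMul, pure_smul_right]]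

/-- The hypotheses on a subgroup of `Ω` containing the transvections of the two factors. -/
theorem setup {M : Subgroup (GL (Fin a × Fin b) F)} (hMΩ : M ≤ Cfsg.Geo.omegaGL ⇑Q)
    (hKM : factorTrans f₁ f₂ Q ≤ M) :
    Setup (RingHom.id F) (-1) f₁ f₂ (tB f₁ f₂) M := by
  have h1 := O.alt₁
  have h2 := O.alt₂
  refine ⟨h1.form, h2.form, tB_add_left h1.form h2.form, tB_smul_left h1.form h2.form,
    tB_add_right h1.form h2.form, tB_flip h1.form h2.form, tB_pure h1.form h2.form,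
    fun g hg => O.omega_tB (hMΩ hg), ⟨1, one_ne_zero, by simp⟩, O.two_le, O.lt,
    (by have := O.five_le; omega), Or.inl O.five_le, fun S hS => ?_,
    fun u w _ _ => ⟨1, one_ne_zero, h2.self _⟩,
    fun u _ e he => Submodule.subset_span ⟨h2.self e, he⟩, ?_, fun c l _ _ => ?_, fun x l _ _ => ?_⟩
  · obtain ⟨v, hv, hv0⟩ := S.ne_bot_iff.1 (fun e => by rw [e, finrank_bot] at hS; omega)
    exact ⟨v, hv, hv0, h2.self v⟩
  · exact Submodule.eq_top_iff'.2 fun v => Submodule.subset_span (h2.self v)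
  · obtain ⟨g, hg, hk, hX⟩ := O.omega_transB c l
    exact ⟨g, hKM (mem_factorTrans hk hg (Or.inl ⟨_, _, hX⟩)), hk, hX⟩
  · obtain ⟨g, hg, hk, hX⟩ := O.omega_transA x l
    exact ⟨g, hKM (mem_factorTrans hk hg (Or.inr ⟨_, _, hX⟩)), hk, hX⟩

end OSetup

end Cfsg.Agent.Lib.TensorForm
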