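import Cfsg.Agent.Lib.TensorForm.SympBasic

/-!
A root `x ⊗ c, x ⊗ d` in a group containing the Kronecker elements makes every pure centre full.
-/

set_option autoImplicit false
set_option linter.unusedSectionVars false

namespace Cfsg.Agent.Lib.TensorForm

open Matrix QuadraticMap Cfsg.Agent.Lib Cfsg.Agent.Lib.TensorMax
open Cfsg.Agent.Lib.FormMax.OrthSL (eichlerGL)
open Cfsg.Agent.Lib.SingMax (RootIn Full)

variable {F : Type*} [Field F] [Finite F] {a b : ℕ}
  {f₁ : (Fin a → F) → (Fin a → F) → F} {f₂ : (Fin b → F) → (Fin b → F) → F}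
  {Q : QuadraticForm F (Fin a × Fin b → F)} {M : Subgroup (GL (Fin a × Fin b) F)}

/-- A root at two pure tensors with the same first factor. -/
def Beta (f₂ : (Fin b → F) → (Fin b → F) → F) (Q : QuadraticForm F (Fin a × Fin b → F))
    (M : Subgroup (GL (Fin a × Fin b) F)) (x : Fin a → F) (c : Fin b → F) : Prop :=
  ∃ d, f₂ d c = 0 ∧ d ∉ F ∙ c ∧ RootIn Q M (ev (vecMulVec x c)) (ev (vecMulVec x d))

variable (O : OSetup f₁ f₂ Q) (hMΩ : M ≤ Cfsg.Geo.omegaGL ⇑Q)
  (hKM : factorTrans f₁ f₂ Q ≤ M)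
include O hMΩ hKM

theorem exists_transA_pure (z : Fin a → F) (l : F) :
    ∃ g ∈ M, ∀ u e, op g (vecMulVec u e) = vecMulVec (u + (l * f₁ u z) • z) e := by
  obtain ⟨g, hg, hk, hX⟩ := O.omega_transA z l
  exact ⟨g, hKM (mem_factorTrans hk hg (Or.inr ⟨_, _, hX⟩)), fun u e => by
    rw [hX, vecMul_pure, dotProduct_comm, O.alt₁.form.dot_cov, pure_add_left, pure_smul_left,
      pure_smul_right, smul_smul]⟩

theorem exists_transB_pure (z : Fin b → F) (l : F) :
    ∃ g ∈ M, ∀ u e, op g (vecMulVec u e) = vecMulVec u (e + (l * f₂ e z) • z) := by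
  obtain ⟨g, hg, hk, hX⟩ := O.omega_transB z l
  exact ⟨g, hKM (mem_factorTrans hk hg (Or.inl ⟨_, _, hX⟩)), fun u e => by
    rw [hX, pure_mulVec, O.alt₂.form.dot_cov, pure_add_right, pure_smul_left, pure_smul_right, smul_smul]⟩

theorem root_move {g : GL (Fin a × Fin b) F} (hg : g ∈ M) {U V : Matrix (Fin a) (Fin b) F}
    (h : RootIn Q M (ev U) (ev V)) : RootIn Q M (ev (op g U)) (ev (op g V)) := by
  rw [ev_op, ev_op]
  exact h.map hg (O.omega_iso (hMΩ hg))

/-- A root fixing the centre moves its partners. -/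
theorem root_step {x p q : Fin a → F} {c r s : Fin b → F} {A : Matrix (Fin a) (Fin b) F}
    (hA : RootIn Q M (ev (vecMulVec x c)) (ev A))
    (hm : RootIn Q M (ev (vecMulVec p r)) (ev (vecMulVec q s)))
    (h1 : f₂ c r * f₁ x p = 0) (h2 : f₂ c s * f₁ x q = 0) :
    RootIn Q M (ev (vecMulVec x c))
      (ev (A + f₁ (A *ᵥ cov f₂ r) p • vecMulVec q s - f₁ (A *ᵥ cov f₂ s) q • vecMulVec p r)) := by
  obtain ⟨he, hv, hg⟩ := hm
  have hh : f₂ r s * f₁ p q = 0 := (O.polar_pure_pure p q r s).symm.trans hv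
  have hg' : O.el p r q s hh ∈ M := hg
  have h := root_move O hMΩ hKM hg' hA
  rwa [O.op_el_pure, h1, h2, zero_smul, zero_smul, add_zero, sub_zero, O.op_el] at h

theorem beta_moveA {x y : Fin a → F} {c : Fin b → F} (hxy : f₁ x y ≠ 0) (h : Beta f₂ Q M x c) :
    Beta f₂ Q M y c := by
  obtain ⟨d, hd, hdc, hr⟩ := h
  obtain ⟨z, l, hz, -⟩ := O.alt₁.exists_move hxy
  obtain ⟨g, hg, hX⟩ := exists_transA_pure O hMΩ hKM z l
  have h' := root_move O hMΩ hKM hg hr
  rw [hX, hX, hz] at h'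
  exact ⟨d, hd, hdc, h'⟩

theorem beta_moveB {x : Fin a → F} {c c' : Fin b → F} (hcc : f₂ c c' ≠ 0) (h : Beta f₂ Q M x c) :
    Beta f₂ Q M x c' := by
  have h2 := O.alt₂
  obtain ⟨d, hd, hdc, hr⟩ := h
  obtain ⟨z, l, hz, -⟩ := h2.exists_move hcc
  obtain ⟨g, hg, hX⟩ := exists_transB_pure O hMΩ hKM z l
  have h' := root_move O hMΩ hKM hg hr
  rw [hX, hX, hz] at h'
  refine ⟨d + (l * f₂ d z) • z, by rw [← hz, h2.trans_form, hd], fun hmem => hdc ?_, h'⟩
  obtain ⟨k, hk⟩ := Submodule.mem_span_singleton.1 hmem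
  refine Submodule.mem_span_singleton.2 ⟨k, (sub_eq_zero.1 (h2.trans_inj (z := z) (l := l) ?_)).symm⟩
  rw [← hz] at hk
  rw [h2.form.sub_left, h2.form.smul_left]
  linear_combination (norm := module) -hk

theorem beta_all {x y : Fin a → F} {c c' : Fin b → F} (hx : x ≠ 0) (hc : c ≠ 0) (hy : y ≠ 0)
    (hc' : c' ≠ 0) (h : Beta f₂ Q M x c) : Beta f₂ Q M y c' :=
  O.alt₂.trans_induction (P := fun r => Beta f₂ Q M y r) (fun _ _ h1 => beta_moveB O hMΩ hKM h1) hc hc'
    (O.alt₁.trans_induction (P := fun r => Beta f₂ Q M r c) (fun _ _ h1 => beta_moveA O hMΩ hKM h1) hx hy h)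

/-- All roots `x ⊗ c, x ⊗ d` at a centre. -/
theorem root_of_beta {x : Fin a → F} {c d : Fin b → F} (hd : f₂ d c = 0) (h : Beta f₂ Q M x c) :
    RootIn Q M (ev (vecMulVec x c)) (ev (vecMulVec x d)) := by
  have h2 := O.alt₂
  obtain ⟨d₀, hd₀, hd₀c, hr⟩ := h
  let T : Submodule F (Fin b → F) :=
    (rootSpace M (O.pureQ x c)).comap (ev ∘ₗ plL b x)
  have gen : ∀ z, f₂ z c = 0 → f₂ d₀ z ≠ 0 → z ∈ T := by
    intro z hz hzd t
    obtain ⟨g, hg, hX⟩ := exists_transB_pure O hMΩ hKM z (t / f₂ d₀ z)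
    have h' := root_move O hMΩ hKM hg hr
    rw [hX, hX, h2.form.eq_zero_symm hz, mul_zero, zero_smul, add_zero, div_mul_cancel₀ _ hzd] at h'
    have h'' := rootIn_sub h' hr
    rw [← map_sub, ← pure_sub_right, add_sub_cancel_left, pure_smul_right, map_smul] at h''
    exact h''
  obtain ⟨z₁, hz₁c, hz₁d⟩ := h2.exists_dual hd₀c
  have hz₁ : f₂ d₀ z₁ ≠ 0 := by rw [h2.swap z₁ d₀, hz₁d]; exact neg_ne_zero.2 one_ne_zero
  have hmem : d ∈ T := by
    by_cases hdd : f₂ d₀ d = 0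
    · have e : d = (d + z₁) - z₁ := (add_sub_cancel_right d z₁).symm
      rw [e]
      refine T.sub_mem (gen _ ?_ ?_) (gen _ hz₁c hz₁)
      · rw [h2.form.add_left, hd, hz₁c, add_zero]
      · rw [h2.form.add_right, hdd, zero_add]; exact hz₁
    · exact gen d hd hdd
  have h' := hmem 1
  rwa [one_smul] at h'

/-- A pure centre with all the roots `x ⊗ c, x ⊗ d` is full. -/
theorem full_of_beta (hall : ∀ x c, x ≠ 0 → c ≠ 0 → Beta f₂ Q M x c) {x : Fin a → F} {c : Fin b → F}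
    (hx : x ≠ 0) (hc : c ≠ 0) : Full Q M (ev (vecMulVec x c)) := by
  have h1 := O.alt₁
  have h2 := O.alt₂
  have hb := O.five_le
  let T : Submodule F (Matrix (Fin a) (Fin b) F) := (rootSpace M (O.pureQ x c)).comap ev
  have hroot : ∀ {y : Fin a → F} {r s}, y ≠ 0 → r ≠ 0 → f₂ s r = 0 →
      RootIn Q M (ev (vecMulVec y r)) (ev (vecMulVec y s)) := fun hy hr hs =>
    root_of_beta O hMΩ hKM hs (hall _ _ hy hr)
  have hsmul : ∀ {y : Fin a → F} {e}, (∀ t : F, RootIn Q M (ev (vecMulVec x c)) (ev (vecMulVec y (t • e)))) →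
      vecMulVec y e ∈ T := fun h t => by rw [← map_smul, ← pure_smul_right]; exact h t
  have hA : ∀ d, f₂ d c = 0 → vecMulVec x d ∈ T := fun d hd => hsmul fun t =>
    hroot hx hc (by rw [h2.form.smul_left, hd, mul_zero])
  have hA' : ∀ d, f₂ d c = 0 → ∀ t : F, RootIn Q M (ev (vecMulVec x c)) (ev (t • vecMulVec x d)) :=
    fun d hd t => by rw [map_smul]; exact hA d hd t
  have hB₀ : ∀ y d, f₁ y x ≠ 0 → f₂ d c = 0 → vecMulVec y d ∈ T := by
    intro y d hyx hd
    have h1' : ∀ w : Fin b → F, Module.finrank F (F ∙ w : Submodule F (Fin b → F)) ≤ 1 := fun w => by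
      simpa [Set.finrank] using finrank_span_le_card ({w} : Set (Fin b → F))
    obtain ⟨r, hr, hrT⟩ := h2.exists_orth_out ![c, d] ((F ∙ c) ⊔ (F ∙ d)) (by
      have := Submodule.finrank_add_le_finrank_add_finrank (F ∙ c) (F ∙ d)
      have := h1' c
      have := h1' d
      omega)
    obtain ⟨d₀, hd₀, hd₀r⟩ := h2.exists_dual_out hrT
    have hd₀c : f₂ d₀ c = 0 := hd₀ c (Submodule.mem_sup_left (Submodule.mem_span_singleton_self c))
    have hd₀d : f₂ d₀ d = 0 := hd₀ d (Submodule.mem_sup_right (Submodule.mem_span_singleton_self d))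
    have hr0 : r ≠ 0 := fun e => hrT (by rw [e]; exact Submodule.zero_mem _)
    have hy : y ≠ 0 := fun e => hyx (by rw [e, h1.form.zero_left])
    refine hsmul fun t => ?_
    have h := rootIn_sub (root_step O hMΩ hKM (hA' d₀ hd₀c (t / f₁ y x))
      (hroot (r := r) (s := d) hy hr0 (h2.form.eq_zero_symm (hr 1)))
      (by rw [h2.form.eq_zero_symm (show f₂ r c = 0 from hr 0), zero_mul])
      (by rw [h2.form.eq_zero_symm hd, zero_mul]))
      (hA' d₀ hd₀c (t / f₁ y x))
    rw [← map_sub] at h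
    have e : (t / f₁ y x) • vecMulVec x d₀
        + f₁ (((t / f₁ y x) • vecMulVec x d₀) *ᵥ cov f₂ r) y • vecMulVec y d
        - f₁ (((t / f₁ y x) • vecMulVec x d₀) *ᵥ cov f₂ d) y • vecMulVec y r
        - (t / f₁ y x) • vecMulVec x d₀ = vecMulVec y (-t • d) := by
      rw [smul_mulVec, smul_mulVec, pure_mulVec, pure_mulVec, h2.form.dot_cov, h2.form.dot_cov, hd₀r, hd₀d,
        one_smul, zero_smul, smul_zero, h1.form.zero_left, zero_smul, sub_zero, h1.form.smul_left,
        h1.swap y x, mul_neg, div_mul_cancel₀ _ hyx, pure_smul_right, add_sub_cancel_left]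
    rw [e] at h
    have h' := rootIn_sub (SingMax.rootIn_zero (O.pureQ x c)) h
    rwa [zero_sub, pure_smul_right, neg_smul, map_neg, neg_neg, ← pure_smul_right] at h'
  have hB : ∀ y d, f₂ d c = 0 → vecMulVec y d ∈ T := by
    intro y d hd
    by_cases hxy : f₁ y x = 0
    swap
    · exact hB₀ y d hxy hd
    obtain ⟨u, hu⟩ := h1.form.exists_partner hx
    have e : vecMulVec y d = vecMulVec (y + u) d - vecMulVec u d := by
      rw [pure_add_left, add_sub_cancel_right]
    rw [e]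
    exact T.sub_mem (hB₀ _ d (by rw [h1.form.add_left, hxy, hu, zero_add]; exact one_ne_zero) hd)
      (hB₀ _ d (by rw [hu]; exact one_ne_zero) hd)
  have hC : ∀ y d, f₁ x y = 0 → vecMulVec y d ∈ T := by
    intro y d hxy
    by_cases hy : y = 0
    · rw [hy, pure_zero_left]; exact T.zero_mem
    obtain ⟨d₀, hd₀, hd₀d⟩ := h2.exists_orth_out ![c, d] (F ∙ d) (by
      have : Module.finrank F (F ∙ d : Submodule F (Fin b → F)) ≤ 1 := by
        simpa [Set.finrank] using finrank_span_le_card ({d} : Set (Fin b → F))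
      omega)
    obtain ⟨r, hr0, hr1⟩ := h2.exists_dual_out hd₀d
    have hrd : f₂ r d = 0 := hr0 d (Submodule.mem_span_singleton_self d)
    have hr : r ≠ 0 := fun e => by rw [e, h2.form.zero_left] at hr1; exact zero_ne_one hr1
    obtain ⟨u, hu⟩ := h1.form.exists_partner hy
    refine hsmul fun t => ?_
    have hu' : RootIn Q M (ev (vecMulVec x c)) (ev (vecMulVec u d₀)) := by
      have h := hB u d₀ (hd₀ 0) 1
      rwa [one_smul] at h
    have h := rootIn_sub (root_step O hMΩ hKM hu'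
      (hroot (r := r) (s := t • d) hy hr (by rw [h2.form.smul_left, h2.form.eq_zero_symm hrd, mul_zero]))
      (by rw [hxy, mul_zero]) (by rw [hxy, mul_zero])) hu'
    rw [← map_sub] at h
    have e : vecMulVec u d₀ + f₁ (vecMulVec u d₀ *ᵥ cov f₂ r) y • vecMulVec y (t • d)
        - f₁ (vecMulVec u d₀ *ᵥ cov f₂ (t • d)) y • vecMulVec y r - vecMulVec u d₀
        = -vecMulVec y (t • d) := by
      rw [pure_mulVec, pure_mulVec, h2.form.dot_cov, h2.form.dot_cov, h2.smul_right,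
        show f₂ d₀ d = 0 from hd₀ 1, mul_zero, zero_smul, h1.form.zero_left, zero_smul, sub_zero,
        h1.form.smul_left, hu, h2.swap r d₀, hr1, mul_one, neg_one_smul, add_sub_cancel_left]
    rw [e] at h
    have h' := rootIn_sub (SingMax.rootIn_zero (O.pureQ x c)) h
    rwa [zero_sub, ← map_neg, neg_neg] at h'
  intro v he hv
  obtain ⟨X, rfl⟩ := ev_surjective v
  rw [O.polar_pure] at hv
  obtain ⟨e₀, he₀⟩ := h2.form.exists_partner hc
  have hX : X ∈ T := by
    set p := X *ᵥ cov f₂ c with hp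
    have hker : (X - vecMulVec p e₀) *ᵥ cov f₂ c = 0 := by
      rw [sub_mulVec, pure_mulVec, h2.form.dot_cov, he₀, one_smul, hp, sub_self]
    rw [← sub_add_cancel X (vecMulVec p e₀)]
    refine T.add_mem ?_ (hC p e₀ (h1.form.eq_zero_symm hv))
    rw [eq_sum_rows (X - vecMulVec p e₀)]
    refine T.sum_mem fun i _ => hB _ _ ?_
    have hrow := congrFun hker i
    rw [← h2.form.dot_cov]
    exact hrow
  have h' := hX 1
  rw [one_smul] at h'
  exact h'.2.2

end Cfsg.Agent.Lib.TensorForm
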