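import Cfsg.Agent.Lib.TensorForm.SympBeta

/-!
Radical elements of a simple shape give a root `x ⊗ c, x ⊗ d`.
-/

set_option autoImplicit false
set_option linter.unusedSectionVars false

namespace Cfsg.Agent.Lib.TensorForm

open Matrix QuadraticMap Cfsg.Agent.Lib Cfsg.Agent.Lib.TensorMax
open Cfsg.Agent.Lib.FormMax.OrthSL (eichlerGL)
open Cfsg.Agent.Lib.SingMax (RootIn conj_E)

variable {F : Type*} [Field F] [Finite F] {a b : ℕ}
  {f₁ : (Fin a → F) → (Fin a → F) → F} {f₂ : (Fin b → F) → (Fin b → F) → F}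
  {Q : QuadraticForm F (Fin a × Fin b → F)} {M : Subgroup (GL (Fin a × Fin b) F)}

variable (O : OSetup f₁ f₂ Q) (hMΩ : M ≤ Cfsg.Geo.omegaGL ⇑Q)
  (hKM : factorTrans f₁ f₂ Q ≤ M)
include O hMΩ hKM

theorem el_conj {g : GL (Fin a × Fin b) F} (hg : g ∈ Cfsg.Geo.omegaGL ⇑Q)
    {x y x' y' : Fin a → F} {c d c' d' : Fin b → F} (h : f₂ c d * f₁ x y = 0) (h' : f₂ c' d' * f₁ x' y' = 0)
    (e1 : op g (vecMulVec x c) = vecMulVec x' c') (e2 : op g (vecMulVec y d) = vecMulVec y' d') :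
    g * O.el x c y d h * g⁻¹ = O.el x' c' y' d' h' := by
  simp only [OSetup.el]
  rw [conj_E (O.omega_iso hg)]
  exact eichler_congr _ _ _ _ (by rw [← ev_op, e1]) (by rw [← ev_op, e2])

theorem el_div (x y : Fin a → F) (c d d' : Fin b → F) (h : f₂ c d * f₁ x y = 0)
    (h' : f₂ c d' * f₁ x y = 0) (h'' : f₂ c (d - d') * f₁ x y = 0) :
    O.el x c y d h * (O.el x c y d' h')⁻¹ = O.el x c y (d - d') h'' := by
  simp only [OSetup.el]
  rw [eichler_div]
  exact eichler_congr _ _ _ _ rfl (by rw [← map_sub, ← pure_sub_right])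

/-- Twisting an approximation of a radical element by a transvection gives an element of `M`. -/
theorem twist_mem {c : Fin b → F} (hc0 : c ≠ 0) {g : GL (Fin a × Fin b) F} (hg : g ∈ M)
    {G : GL (Fin a × Fin b) F} (hG : G ∈ Cfsg.Geo.omegaGL ⇑Q)
    (hagree : ∀ u e, f₂ e c = 0 → op g (vecMulVec u e) = op G (vecMulVec u e))
    {w : Fin b → F} (hw : f₂ w c = 0) {t : GL (Fin a × Fin b) F} (ht : t ∈ M) {l : F}
    (htX : ∀ X, op t X = X + l • vecMulVec (X *ᵥ cov f₂ w) w) : t * G * t⁻¹ * G⁻¹ ∈ M := by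
  have h1 := O.alt₁
  have h2 := O.alt₂
  have S := O.setup hMΩ hKM
  have hall : ∀ X, X *ᵥ cov f₂ c = 0 → op g X = op G X := fun X hX => by
    rw [eq_sum_rows X, map_sum, map_sum]
    exact Finset.sum_congr rfl fun i _ => hagree _ _ (S.orth_row hX i)
  set z := G⁻¹ * g with hz
  have hzΩ : z ∈ Cfsg.Geo.omegaGL ⇑Q := mul_mem (inv_mem hG) (hMΩ hg)
  have hfix : ∀ X, X *ᵥ cov f₂ c = 0 → op z X = X := fun X hX => by
    rw [hz, op_mul, hall X hX, op_inv_op]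
  have hPl : ∀ X, op z X - X ∈ LinearMap.range (pl a c) := fun X => mem_pl_of_kill hc0 fun ψ hψ => by
    obtain ⟨u, rfl⟩ := h2.form.exists_cov ψ
    rw [h2.form.dot_cov] at hψ
    by_contra hne
    obtain ⟨v, hv⟩ := h1.form.nondeg _ hne
    refine hv ?_
    have hfw := hfix (vecMulVec v u) (by
      rw [pure_mulVec, h2.form.dot_cov, h2.form.eq_zero_symm hψ, zero_smul])
    rw [← S.pure, S.sub_left]
    conv_lhs => rw [← hfw, O.omega_tB hzΩ, hfw, sub_self]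
  have hcomm : t * z = z * t := ext_op fun X => by
    obtain ⟨p, hp⟩ := hPl X
    rw [pl_apply] at hp
    have e : op z X = X + vecMulVec p c := by rw [hp, add_sub_cancel]
    rw [op_mul t z, op_mul z t, htX, htX, map_add, map_smul,
      hfix (vecMulVec (X *ᵥ cov f₂ w) w) (by rw [pure_mulVec, h2.form.dot_cov, hw, zero_smul]), e,
      add_mulVec, pure_mulVec, h2.form.dot_cov, h2.form.eq_zero_symm hw, zero_smul, add_zero]
  have e : t * G * t⁻¹ * G⁻¹ = t * g * t⁻¹ * g⁻¹ := by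
    have hgG : g = G * z := by rw [hz, mul_inv_cancel_left]
    rw [hgG, _root_.mul_inv_rev]
    calc t * G * t⁻¹ * G⁻¹ = t * G * t⁻¹ * (z * z⁻¹) * G⁻¹ := by rw [mul_inv_cancel, mul_one]
      _ = t * G * (t⁻¹ * z) * (z⁻¹ * G⁻¹) := by group
      _ = t * G * (z * t⁻¹) * (z⁻¹ * G⁻¹) := by
        rw [(Commute.inv_left (show Commute t z from hcomm)).eq]
      _ = t * (G * z) * t⁻¹ * (z⁻¹ * G⁻¹) := by group
  rw [e]
  exact M.mul_mem (M.mul_mem (M.mul_mem ht hg) (M.inv_mem ht)) (M.inv_mem hg)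

/-- A radical element of rank one shape. -/
theorem beta_of_rankOne {c d e₀ : Fin b → F} {x : Fin a → F} (hc0 : c ≠ 0) (hd : f₂ d c = 0)
    (he₀ : f₂ e₀ c = 0) (hed : f₂ e₀ d ≠ 0) {g : GL (Fin a × Fin b) F} (hg : g ∈ M)
    (hgX : ∀ u e, f₂ e c = 0 →
      op g (vecMulVec u e) = vecMulVec u e + (f₂ e d * f₁ u x) • vecMulVec x c) :
    Beta f₂ Q M x c := by
  have h1 := O.alt₁
  have h2 := O.alt₂
  have hs : ∀ r s, f₂ r s * f₁ x x = 0 := fun r s => by rw [h1.self, mul_zero]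
  obtain ⟨t, htΩ, htk, htX⟩ := O.omega_transB e₀ 1
  have ht : t ∈ M := hKM (mem_factorTrans htk htΩ (Or.inl ⟨_, _, htX⟩))
  have hm := twist_mem O hMΩ hKM hc0 hg (O.el_mem_omega x c x (-d) (hs _ _)) (fun u e he => by
    rw [hgX u e he, O.op_el_pure, he, ← neg_one_smul F d, h2.smul_right, zero_mul, zero_smul, add_zero]
    module) he₀ ht htX
  have htp : ∀ u e, op t (vecMulVec u e) = vecMulVec u (e + f₂ e e₀ • e₀) := fun u e => by
    rw [htX, one_smul, pure_mulVec, h2.form.dot_cov, pure_add_right, pure_smul_left, pure_smul_right]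
  rw [el_conj O hMΩ hKM htΩ (hs _ _) (hs _ _)
      (by rw [htp, h2.form.eq_zero_symm he₀, zero_smul, add_zero]) (htp _ _),
    el_div O hMΩ hKM x x c _ _ _ _ (hs _ _)] at hm
  refine ⟨-d + f₂ (-d) e₀ • e₀ - -d, ?_, fun hmem => ?_, _, _, hm⟩
  · rw [add_sub_cancel_left, h2.form.smul_left, he₀, mul_zero]
  · rw [add_sub_cancel_left, h2.form.neg_left, ← h2.swap d e₀] at hmem
    obtain ⟨k, hk⟩ := Submodule.mem_span_singleton.1 hmem
    have h := congrArg (fun v => f₂ v d) hk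
    simp only [h2.form.smul_left, h2.form.eq_zero_symm hd, mul_zero] at h
    exact mul_ne_zero hed hed h.symm

/-- A radical element of symmetric rank two shape. -/
theorem beta_of_rankTwo {c d e₀ : Fin b → F} {x y : Fin a → F} (hc0 : c ≠ 0) (hd : f₂ d c = 0)
    (he₀ : f₂ e₀ c = 0) (hed : f₂ e₀ d ≠ 0) (hxy : f₁ x y = 0) (hyx : y ∉ F ∙ x)
    {g : GL (Fin a × Fin b) F} (hg : g ∈ M)
    (hgX : ∀ u e, f₂ e c = 0 → op g (vecMulVec u e)
      = vecMulVec u e + (f₂ e d * f₁ u x) • vecMulVec y c + (f₂ e d * f₁ u y) • vecMulVec x c) :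
    Beta f₂ Q M x c := by
  have h1 := O.alt₁
  have h2 := O.alt₂
  have hyx0 := h1.form.eq_zero_symm hxy
  have hb := O.five_le
  have hs : ∀ r s, f₂ r s * f₁ x y = 0 := fun r s => by rw [hxy, mul_zero]
  have hs' : ∀ r s, f₂ r s * f₁ y x = 0 := fun r s => by rw [hyx0, mul_zero]
  obtain ⟨t, htΩ, htk, htX⟩ := O.omega_transB e₀ 1
  have ht : t ∈ M := hKM (mem_factorTrans htk htΩ (Or.inl ⟨_, _, htX⟩))
  have hm := twist_mem O hMΩ hKM hc0 hg
    (mul_mem (O.el_mem_omega y c x (-d) (hs' _ _)) (O.el_mem_omega x c y (-d) (hs _ _))) (fun u e he => by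
      rw [hgX u e he, op_mul, O.op_el_pure, he, zero_mul, zero_smul, add_zero, map_sub, map_smul,
        O.op_el_pure, O.op_el_pure, he, ← neg_one_smul F d, h2.smul_right, h2.self, h1.self]
      module) he₀ ht htX
  have htp : ∀ u e, op t (vecMulVec u e) = vecMulVec u (e + f₂ e e₀ • e₀) := fun u e => by
    rw [htX, one_smul, pure_mulVec, h2.form.dot_cov, pure_add_right, pure_smul_left, pure_smul_right]
  obtain ⟨z, hzdef⟩ : ∃ z, z = -d + f₂ (-d) e₀ • e₀ - -d := ⟨_, rfl⟩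
  have hzc : f₂ z c = 0 := by rw [hzdef, add_sub_cancel_left, h2.form.smul_left, he₀, mul_zero]
  have hzd : f₂ z d ≠ 0 := by
    rw [hzdef, add_sub_cancel_left, h2.form.smul_left, h2.form.neg_left, ← h2.swap d e₀]
    exact mul_ne_zero hed hed
  have hc_z : z ∉ F ∙ c := fun hmem => by
    obtain ⟨k, rfl⟩ := Submodule.mem_span_singleton.1 hmem
    exact hzd (by rw [h2.form.smul_left, h2.form.eq_zero_symm hd, mul_zero])
  -- the exact element
  have hG : O.el x c y z (hs _ _) * O.el y c x z (hs' _ _) ∈ M := by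
    rw [_root_.mul_inv_rev, ← mul_assoc, conj_mul, el_conj O hMΩ hKM htΩ (hs' _ _) (hs' _ _)
        (by rw [htp, h2.form.eq_zero_symm he₀, zero_smul, add_zero]) (htp _ _),
      el_conj O hMΩ hKM htΩ (hs _ _) (hs _ _)
        (by rw [htp, h2.form.eq_zero_symm he₀, zero_smul, add_zero]) (htp _ _),
      mul_assoc _ _ (O.el x c y (-d) _)⁻¹, el_div O hMΩ hKM x y c _ _ _ _ (hs _ _)] at hm
    simp only [← hzdef] at hm
    have hcomm : O.el y c x (-d + f₂ (-d) e₀ • e₀) (hs' _ _) * O.el x c y z (hs _ _)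
        = O.el x c y z (hs _ _) * O.el y c x (-d + f₂ (-d) e₀ • e₀) (hs' _ _) := by
      refine commute_of_fix _ _ _ _ ?_ ?_ <;>
        · refine (ev_op _ _).symm.trans (congrArg ev ?_)
          refine (O.op_el_pure y c x (-d + f₂ (-d) e₀ • e₀) (hs' _ _) _ _).trans ?_
          simp only [h2.self, h1.self, hzc, hyx0, mul_zero, zero_mul, zero_smul, add_zero, sub_zero]
    rw [hcomm, mul_assoc, el_div O hMΩ hKM y x c _ _ _ _ (hs' _ _)] at hm
    simpa only [← hzdef] using hm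
  -- a conjugate meeting it in one vector
  obtain ⟨w₁, hw₁x, hw₁y⟩ := h1.exists_dual hyx
  obtain ⟨w₂, hw₂c, hw₂z⟩ := h2.exists_dual hc_z
  have hyw : f₁ y w₁ ≠ 0 := by rw [h1.swap w₁ y, hw₁y]; exact neg_ne_zero.2 one_ne_zero
  have hzw : f₂ z w₂ ≠ 0 := by rw [h2.swap w₂ z, hw₂z]; exact neg_ne_zero.2 one_ne_zero
  obtain ⟨c', hc', hc'c⟩ := h2.exists_orth_out ![c, z, w₂] (F ∙ c) (by
    have : Module.finrank F (F ∙ c : Submodule F (Fin b → F)) ≤ 1 := by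
      simpa [Set.finrank] using finrank_span_le_card ({c} : Set (Fin b → F))
    omega)
  have hc'c0 : f₂ c' c = 0 := hc' 0
  have hc'z : f₂ c' z = 0 := hc' 1
  have hc'w : f₂ c' w₂ = 0 := hc' 2
  have notin : ∀ {r : Fin b → F}, r ≠ 0 → f₂ z r = 0 → r ∉ F ∙ w₂ := fun {r} hr h hmem => by
    obtain ⟨k, rfl⟩ := Submodule.mem_span_singleton.1 hmem
    rw [h2.smul_right] at h
    exact hr (by rw [(mul_eq_zero.1 h).resolve_right hzw, zero_smul])
  have hc'0 : c' ≠ 0 := fun e => hc'c (by rw [e]; exact Submodule.zero_mem _)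
  obtain ⟨m₁, hm₁w, hm₁⟩ := h2.exists_dual (notin hc0 hzc)
  obtain ⟨m₂, hm₂w, hm₂⟩ := h2.exists_dual (notin hc'0 (h2.form.eq_zero_symm hc'z))
  obtain ⟨m, hmw, hmc, hmc'⟩ : ∃ m, f₂ m w₂ = 0 ∧ f₂ c m ≠ 0 ∧ f₂ m c' ≠ 0 := by
    have n1 : f₂ c m₁ ≠ 0 := fun e => one_ne_zero (α := F) (hm₁.symm.trans (h2.form.eq_zero_symm e))
    by_cases e1 : f₂ m₁ c' = 0
    swap
    · exact ⟨m₁, hm₁w, n1, e1⟩
    by_cases e2 : f₂ c m₂ = 0
    swap
    · exact ⟨m₂, hm₂w, e2, by rw [hm₂]; exact one_ne_zero⟩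
    refine ⟨m₁ + m₂, by rw [h2.form.add_left, hm₁w, hm₂w, add_zero], ?_, ?_⟩
    · rw [h2.form.add_right, e2, add_zero]; exact n1
    · rw [h2.form.add_left, e1, zero_add, hm₂]; exact one_ne_zero
  obtain ⟨z₁, l₁, hz₁, hz₁'⟩ := h1.exists_move hyw
  obtain ⟨z₂, l₂, hz₂, hz₂'⟩ := h2.exists_move hzw
  obtain ⟨z₃, l₃, hz₃, hz₃'⟩ := h2.exists_move hmc
  obtain ⟨z₄, l₄, hz₄, hz₄'⟩ := h2.exists_move hmc'
  obtain ⟨g₁, hg₁, hX₁⟩ := exists_transA_pure O hMΩ hKM z₁ l₁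
  obtain ⟨g₂, hg₂, hX₂⟩ := exists_transB_pure O hMΩ hKM z₂ l₂
  obtain ⟨g₃, hg₃, hX₃⟩ := exists_transB_pure O hMΩ hKM z₃ l₃
  obtain ⟨g₄, hg₄, hX₄⟩ := exists_transB_pure O hMΩ hKM z₄ l₄
  have fx : x + (l₁ * f₁ x z₁) • z₁ = x := by
    rw [hz₁' x hxy (h1.form.eq_zero_symm hw₁x), mul_zero, zero_smul, add_zero]
  have fc : c + (l₂ * f₂ c z₂) • z₂ = c := by
    rw [hz₂' c (h2.form.eq_zero_symm hzc) (h2.form.eq_zero_symm hw₂c), mul_zero, zero_smul, add_zero]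
  have fw₃ : w₂ + (l₃ * f₂ w₂ z₃) • z₃ = w₂ := by
    rw [hz₃' w₂ hw₂c (h2.form.eq_zero_symm hmw), mul_zero, zero_smul, add_zero]
  have fw₄ : w₂ + (l₄ * f₂ w₂ z₄) • z₄ = w₂ := by
    rw [hz₄' w₂ (h2.form.eq_zero_symm hmw) (h2.form.eq_zero_symm hc'w), mul_zero, zero_smul, add_zero]
  set T := g₄ * g₃ * g₂ * g₁ with hTdef
  have hT : T ∈ M := M.mul_mem (M.mul_mem (M.mul_mem hg₄ hg₃) hg₂) hg₁
  have hTxc : op T (vecMulVec x c) = vecMulVec x c' := by
    rw [hTdef, op_mul, op_mul, op_mul, hX₁, fx, hX₂, fc, hX₃, hz₃, hX₄, hz₄]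
  have hTyc : op T (vecMulVec y c) = vecMulVec w₁ c' := by
    rw [hTdef, op_mul, op_mul, op_mul, hX₁, hz₁, hX₂, fc, hX₃, hz₃, hX₄, hz₄]
  have hTyz : op T (vecMulVec y z) = vecMulVec w₁ w₂ := by
    rw [hTdef, op_mul, op_mul, op_mul, hX₁, hz₁, hX₂, hz₂, hX₃, fw₃, hX₄, fw₄]
  have hTxz : op T (vecMulVec x z) = vecMulVec x w₂ := by
    rw [hTdef, op_mul, op_mul, op_mul, hX₁, fx, hX₂, hz₂, hX₃, fw₃, hX₄, fw₄]
  have hxw : f₁ x w₁ = 0 := h1.form.eq_zero_symm hw₁x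
  have k1 : f₂ c' w₂ * f₁ x w₁ = 0 := by rw [hxw, mul_zero]
  have k2 : f₂ c' w₂ * f₁ w₁ x = 0 := by rw [hw₁x, mul_zero]
  obtain ⟨g', hg'def⟩ : ∃ g', g' = O.el x c' w₁ w₂ k1 * O.el w₁ c' x w₂ k2 := ⟨_, rfl⟩
  have hg' : g' ∈ M := by
    have h := M.mul_mem (M.mul_mem hT hG) (M.inv_mem hT)
    rwa [conj_mul, el_conj O hMΩ hKM (hMΩ hT) (hs _ _) k1 hTxc hTyz,
      el_conj O hMΩ hKM (hMΩ hT) (hs' _ _) k2 hTyc hTxz, ← hg'def] at h
  have hzc' := h2.form.eq_zero_symm hc'z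
  have hcc' := h2.form.eq_zero_symm hc'c0
  have hcw := h2.form.eq_zero_symm hw₂c
  have f1' : op g' (vecMulVec x c) = vecMulVec x c := by
    simp only [hg'def, op_mul, O.op_el_pure, hcc', hcw, h1.self, zero_mul, mul_zero, zero_smul, add_zero, sub_zero]
  have f2' : op g' (vecMulVec y c) = vecMulVec y c := by
    simp only [hg'def, op_mul, O.op_el_pure, hcc', hcw, zero_mul, zero_smul, add_zero, sub_zero]
  have f3' : op g' (vecMulVec x z) = vecMulVec x z := by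
    simp only [hg'def, op_mul, O.op_el_pure, hzc', hxw, h1.self, zero_mul, mul_zero, zero_smul, add_zero, sub_zero]
  have f4' : op g' (vecMulVec y z) = vecMulVec y z - (f₂ z w₂ * f₁ y w₁) • vecMulVec x c' := by
    simp only [hg'def, op_mul, O.op_el_pure, hzc', hyx0, zero_mul, mul_zero, zero_smul, add_zero, sub_zero]
  have h := M.mul_mem (M.mul_mem (M.mul_mem hg' hG) (M.inv_mem hg')) (M.inv_mem hG)
  rw [conj_mul, el_conj O hMΩ hKM (hMΩ hg') (hs' _ _) (hs' _ _) f2' f3', cancel_right] at h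
  simp only [OSetup.el] at h
  rw [conj_E (O.omega_iso (hMΩ hg')),
    eichler_congr _ _ (O.pureQ x c) (v' := ev (op g' (vecMulVec y z)))
      (by rw [← f1', ev_op, ev_op, SingMax.polar_of_iso (O.omega_iso (hMΩ hg')), O.polar_pure_pure, hs])
      (by rw [← ev_op, f1']) (ev_op _ _).symm] at h
  have h' := rootIn_div h
  rw [← map_sub, f4', sub_sub_cancel_left, ← pure_smul_right, ← pure_neg_right'] at h'
  refine ⟨_, ?_, fun hmem => hc'c ?_, h'⟩
  · rw [h2.form.neg_left, h2.form.smul_left, hc'c0, mul_zero, neg_zero]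
  · have h0 := (Submodule.neg_mem_iff _).1 hmem
    rwa [Submodule.smul_mem_iff _ (mul_ne_zero hzw hyw)] at h0
where
  conj_mul {g u v : GL (Fin a × Fin b) F} : g * (u * v) * g⁻¹ = g * u * g⁻¹ * (g * v * g⁻¹) := by group
  cancel_right {u v w : GL (Fin a × Fin b) F} : u * v * (w * v)⁻¹ = u * w⁻¹ := by group
  pure_neg_right' (x : Fin a → F) (v : Fin b → F) : vecMulVec x (-v) = -vecMulVec x v := by
    rw [← neg_one_smul F v, pure_smul_right, neg_one_smul]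

end Cfsg.Agent.Lib.TensorForm
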