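import Cfsg.Agent.Lib.TensorForm.SympExact

/-!
A group bigger than the Kronecker stabiliser has a root `x ⊗ c, x ⊗ d`.
-/

set_option autoImplicit false
set_option linter.unusedSectionVars false

namespace Cfsg.Agent.Lib.TensorForm

open Matrix QuadraticMap Cfsg.Agent.Lib Cfsg.Agent.Lib.TensorMax
open Cfsg.Agent.Lib.SingMax (RootIn)

variable {F : Type*} [Field F] [Finite F] {a b : ℕ}
  {f₁ : (Fin a → F) → (Fin a → F) → F} {f₂ : (Fin b → F) → (Fin b → F) → F}
  {Q : QuadraticForm F (Fin a × Fin b → F)} {M : Subgroup (GL (Fin a × Fin b) F)}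

/-- The functional `e ↦ f(γ(u ⊗ e), w)`. -/
def fnAt {m k : ℕ} {f : (Fin m → F) → (Fin m → F) → F} (hf : IsAlt f)
    (γ : Matrix (Fin m) (Fin k) F →ₗ[F] (Fin m → F)) (u w : Fin m → F) : Module.Dual F (Fin k → F) where
  toFun e := f (γ (vecMulVec u e)) w
  map_add' p q := by rw [pure_add_right, map_add, hf.form.add_left]
  map_smul' r p := by rw [pure_smul_right, map_smul, hf.form.smul_left]; rfl

theorem IsAlt.exists_vec {m : ℕ} {f : (Fin m → F) → (Fin m → F) → F} (hf : IsAlt f)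
    (P : Module.Dual F (Fin m → F)) : ∃ d, ∀ e, f e d = P e := by
  obtain ⟨φ, hφ⟩ := exists_dot_of_dual P
  obtain ⟨d, rfl⟩ := hf.form.exists_cov φ
  exact ⟨d, fun e => by rw [← hf.form.dot_cov, hφ]⟩

/-- There is no non-degenerate alternating form in dimension three. -/
theorem IsAlt.ne_three {m : ℕ} {f : (Fin m → F) → (Fin m → F) → F} (hf : IsAlt f) : m ≠ 3 := by
  rintro rfl
  let e : Fin 3 → Fin 3 → F := fun i => Pi.single i 1
  have hv : ∀ v : Fin 3 → F, (∀ j, f v (e j) = 0) → v = 0 := fun v h => by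
    by_contra hne
    obtain ⟨w, hw⟩ := hf.form.nondeg v hne
    refine hw ?_
    let R : (Fin 3 → F) →+ F :=
      { toFun := fun p => f v p, map_zero' := hf.form.zero_right v, map_add' := hf.form.add_right v }
    show R w = 0
    rw [pi_eq_sum_univ' w, map_sum]
    exact Finset.sum_eq_zero fun j _ => by
      show f v (w j • e j) = 0
      rw [hf.smul_right, h j, mul_zero]
  have h0 : f (e 1) (e 2) • e 0 + f (e 2) (e 0) • e 1 + f (e 0) (e 1) • e 2 = 0 := by
    refine hv _ fun j => ?_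
    fin_cases j <;>
      simp only [hf.form.add_left, hf.form.smul_left, hf.self, Fin.zero_eta, Fin.mk_one, Fin.reduceFinMk]
    · rw [hf.swap (e 0) (e 2), hf.swap (e 0) (e 1)]; ring
    · rw [hf.swap (e 1) (e 2)]; ring
    · rw [hf.swap (e 0) (e 2)]; ring
  have c12 := congrFun h0 0
  have c20 := congrFun h0 1
  have c01 := congrFun h0 2
  simp [e] at c12 c20 c01
  refine one_ne_zero (α := F) ?_
  have h1 : e 0 = 0 := hv _ fun j => by
    fin_cases j
    · exact hf.self _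
    · exact c01
    · exact hf.form.eq_zero_symm c20
  simpa [e] using congrFun h1 0

variable (O : OSetup f₁ f₂ Q) (hMΩ : M ≤ Cfsg.Geo.omegaGL ⇑Q)
  (hKM : factorTrans f₁ f₂ Q ≤ M)
include O hMΩ hKM

theorem gamma_c {c : Fin b → F} (hc0 : c ≠ 0) {g : GL (Fin a × Fin b) F} (hR : InR f₂ c g)
    {γ : Matrix (Fin a) (Fin b) F →ₗ[F] (Fin a → F)}
    (hγ : ∀ X, X *ᵥ cov f₂ c = 0 → op g X = X + vecMulVec (γ X) c) (u : Fin a → F) :
    γ (vecMulVec u c) = 0 := by
  have h := hγ (vecMulVec u c) (by rw [pure_mulVec, O.alt₂.form.dot_cov, O.alt₂.self, zero_smul])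
  rw [hR.1, left_eq_add] at h
  exact pl_injective hc0 (h.trans (map_zero _).symm)

/-- From a root `x ⊗ c, y ⊗ c`. -/
theorem beta_of_alpha {x y : Fin a → F} {c : Fin b → F} (hc0 : c ≠ 0) (hxy : f₁ x y = 0)
    (hyx : y ∉ F ∙ x) (h : RootIn Q M (ev (vecMulVec x c)) (ev (vecMulVec y c))) :
    Beta f₂ Q M x c := by
  have h1 := O.alt₁
  have h2 := O.alt₂
  have S := O.setup hMΩ hKM
  obtain ⟨z, hzx, hzy⟩ := h1.exists_dual hyx
  obtain ⟨t, ht, htX⟩ := exists_transA_pure O hMΩ hKM z 1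
  have hy' := root_move O hMΩ hKM ht h
  rw [htX, htX, h1.form.eq_zero_symm hzx, mul_zero, zero_smul, add_zero, one_mul, h1.swap z y, hzy,
    neg_one_smul] at hy'
  obtain ⟨w, -, hwc, hwnc⟩ := S.exists_orth_iso c hc0
  obtain ⟨c₁, hc₁⟩ := h2.form.exists_partner hc0
  have key : ∀ c', f₂ c' c = 1 →
      RootIn Q M (ev (vecMulVec x c)) (ev (vecMulVec y c + vecMulVec x c')) := by
    intro c' hc'
    have hcc : f₂ c c' = -1 := by rw [h2.swap c' c, hc']
    obtain ⟨v, l, hv, -⟩ := h2.exists_move (show f₂ c c' ≠ 0 by rw [hcc]; exact neg_ne_zero.2 one_ne_zero)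
    obtain ⟨t', ht', ht'X⟩ := exists_transB_pure O hMΩ hKM v l
    have hm := root_move O hMΩ hKM ht' hy'
    rw [ht'X, ht'X, hv] at hm
    have h' := root_step O hMΩ hKM h hm (by rw [h1.self, mul_zero])
      (by rw [h1.form.add_right, hxy, ← neg_one_smul F z, h1.smul_right, h1.form.eq_zero_symm hzx, mul_zero, add_zero, mul_zero])
    rw [pure_mulVec, h2.form.dot_cov, hcc, h1.form.smul_left, h1.form.smul_left,
      h1.form.eq_zero_symm hxy, mul_zero, zero_smul, add_zero] at h'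
    have e : -1 * f₁ y (y + -z) = -1 := by
      rw [h1.form.add_right, h1.self, ← neg_one_smul F z, h1.smul_right, h1.swap z y, hzy]
      ring
    rw [e, neg_one_smul, sub_neg_eq_add] at h'
    exact h'
  have hsub := rootIn_sub (key (c₁ + w) (by rw [h2.form.add_left, hc₁, hwc, add_zero])) (key c₁ hc₁)
  rw [← map_sub, add_sub_add_left_eq_sub, ← pure_sub_right, add_sub_cancel_left] at hsub
  exact ⟨w, hwc, hwnc, hsub⟩

/-- From a non-scalar central element. -/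
theorem beta_of_centre {c : Fin b → F} (hc0 : c ≠ 0) {Z : (Fin a → F) →ₗ[F] (Fin a → F)}
    (hZ : InZ f₂ M c Z) (hns : NonScalar Z) : ∃ x c, x ≠ 0 ∧ c ≠ 0 ∧ Beta f₂ Q M x c := by
  have h1 := O.alt₁
  have h2 := O.alt₂
  have S := O.setup hMΩ hKM
  obtain ⟨x, hx⟩ : ∃ x, Z x ∉ F ∙ x := by
    by_contra hall
    push Not at hall
    exact hns (exists_scalar_of_eigen Z fun v => by
      obtain ⟨k, hk⟩ := Submodule.mem_span_singleton.1 (hall v)
      exact ⟨k, hk.symm⟩)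
  have hx0 : x ≠ 0 := fun e => hx (by rw [e, map_zero]; exact Submodule.zero_mem _)
  have hxw : f₁ x (Z x) = 0 := by
    obtain ⟨g, hg, hgX⟩ := hZ
    obtain ⟨e₀, he₀⟩ := h2.form.exists_partner hc0
    have h := O.omega_iso (hMΩ hg) (ev (vecMulVec x e₀))
    rw [← ev_op, hgX, pure_mulVec, h2.form.dot_cov, he₀, one_smul, map_add, QuadraticMap.map_add (⇑Q),
      O.pureQ, O.pureQ, O.polar_pure_pure, he₀, one_mul, zero_add, zero_add] at h
    exact h
  have hskew : ∀ v, f₁ (Z v) x = f₁ v (Z x) := fun v => by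
    have := S.inZ_skew hc0 (h2.self c) hZ v x
    linear_combination -this
  obtain ⟨g, hg, hgX⟩ := S.inZ_trans (h2.self c) hZ (x := x) (l := 1) (h1.self x) (by simp)
    (E := rk1 h1.form x x) (fun v => by rw [rk1_apply, one_mul])
  refine ⟨x, c, hx0, hc0, beta_of_alpha O hMΩ hKM hc0 (y := -Z x) ?_ ?_ ?_⟩
  · rw [← neg_one_smul F (Z x), h1.smul_right, hxw, mul_zero]
  · exact fun hmem => hx ((Submodule.neg_mem_iff _).1 hmem)
  have hh : f₂ c c * f₁ x (-Z x) = 0 := by rw [h2.self, zero_mul]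
  have e : g = O.el x c (-Z x) c hh := ext_op fun X => by
    rw [hgX, O.op_el]
    simp only [LinearMap.sub_apply, LinearMap.comp_apply, rk1_apply, map_smul, hskew, h1.form.smul_left,
      h1.form.eq_zero_symm hxw]
    rw [← neg_one_smul F (Z x), h1.smul_right]
    simp only [sub_eq_add_neg, pure_add_left, ← neg_smul, pure_smul_left]
    match_scalars <;> simp [hxw, h1.form.eq_zero_symm hxw]
  exact ⟨_, _, e ▸ hg⟩

/-- Conjugation of a radical element by a transvection of the first factor, modulo the element. -/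
theorem rad_trans {c : Fin b → F} (hc0 : c ≠ 0) {g : GL (Fin a × Fin b) F} (hg : g ∈ M) (hR : InR f₂ c g)
    {γ : Matrix (Fin a) (Fin b) F →ₗ[F] (Fin a → F)}
    (hγ : ∀ X, X *ᵥ cov f₂ c = 0 → op g X = X + vecMulVec (γ X) c) (x : Fin a → F) (l : F) :
    ∃ g' ∈ M, InR f₂ c g' ∧ ∃ γ' : Matrix (Fin a) (Fin b) F →ₗ[F] (Fin a → F),
      (∀ X, X *ᵥ cov f₂ c = 0 → op g' X = X + vecMulVec (γ' X) c) ∧
      ∀ u e, f₂ e c = 0 → γ' (vecMulVec u e) = (l * f₁ (γ (vecMulVec u e)) x) • x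
        - (l * f₁ u x) • γ (vecMulVec x e)
        - (l * f₁ u x * (l * f₁ (γ (vecMulVec x e)) x)) • x := by
  have h1 := O.alt₁
  have h2 := O.alt₂
  have S := O.setup hMΩ hKM
  obtain ⟨t, ht, htX⟩ := exists_transA_pure O hMΩ hKM x l
  have hti : ∀ u e, op t⁻¹ (vecMulVec u e) = vecMulVec (u - (l * f₁ u x) • x) e := fun u e => by
    apply op_injective t
    rw [op_op_inv, htX, h1.form.sub_left, h1.form.smul_left, h1.self, mul_zero, sub_zero, sub_add_cancel]
  have hgi : ∀ u, op g⁻¹ (vecMulVec u c) = vecMulVec u c := fun u => by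
    conv_lhs => rw [← hR.1 u]
    rw [op_inv_op]
  have hrows : ∀ (k : GL (Fin a × Fin b) F), (∀ u, op k (vecMulVec u c) = vecMulVec u c) →
      (∀ u e, f₂ e c = 0 → op k (vecMulVec u e) - vecMulVec u e ∈ LinearMap.range (pl a c)) →
      InR f₂ c k := fun k hk hk' => ⟨hk, fun X hX => by
    rw [eq_sum_rows X, map_sum, ← Finset.sum_sub_distrib]
    exact Submodule.sum_mem _ fun i _ => hk' _ _ (S.orth_row hX i)⟩
  have hval : ∀ u e, f₂ e c = 0 → op (t * g * t⁻¹ * g⁻¹) (vecMulVec u e) = vecMulVec u e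
      + vecMulVec ((l * f₁ (γ (vecMulVec u e)) x) • x - (l * f₁ u x) • γ (vecMulVec x e)
        - (l * f₁ u x * (l * f₁ (γ (vecMulVec x e)) x)) • x) (-1 • -c) := by
    intro u e he
    have hC : ∀ v : Fin a → F, vecMulVec v e *ᵥ cov f₂ c = 0 := fun v => by
      rw [pure_mulVec, h2.form.dot_cov, he, zero_smul]
    have hginv : op g⁻¹ (vecMulVec u e) = vecMulVec u e - vecMulVec (γ (vecMulVec u e)) c := by
      apply op_injective g
      rw [op_op_inv, map_sub, hγ _ (hC u), hR.1, add_sub_cancel_right]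
    rw [op_mul, op_mul, op_mul, hginv, map_sub, hti, hti, map_sub, hγ _ (hC _), hR.1, map_sub, map_add,
      htX, htX, htX]
    simp only [map_sub, map_smul, pure_smul_left, pure_add_left, sub_eq_add_neg, h1.form.add_left,
      h1.form.smul_left, pure_neg_left, map_add, map_neg, h1.form.neg_left, h1.self, neg_smul, one_smul, neg_neg]
    module
  have hR' : InR f₂ c (t * g * t⁻¹ * g⁻¹) := hrows _ (fun u => by
      rw [op_mul, op_mul, op_mul, hgi, hti, hR.1, ← hti, op_op_inv]) fun u e he => by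
    rw [hval u e he, add_sub_cancel_left, neg_one_smul, neg_neg]
    exact ⟨_, rfl⟩
  obtain ⟨γ', hγ'⟩ := S.exists_gamma hc0 hR'
  refine ⟨_, M.mul_mem (M.mul_mem (M.mul_mem ht hg) (M.inv_mem ht)) (M.inv_mem hg), hR', γ', hγ',
    fun u e he => pl_injective hc0 ?_⟩
  have h := (hγ' (vecMulVec u e) (by rw [pure_mulVec, h2.form.dot_cov, he, zero_smul])).symm.trans (hval u e he)
  rw [neg_one_smul, neg_neg, add_right_inj] at h
  exact h

/-- The pairing of the central element made from a radical element. -/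
theorem inZ_pairing {c z : Fin b → F} (hc0 : c ≠ 0) (hz : f₂ z c = 0) {g : GL (Fin a × Fin b) F}
    (hg : g ∈ M) (hR : InR f₂ c g) {γ : Matrix (Fin a) (Fin b) F →ₗ[F] (Fin a → F)}
    (hγ : ∀ X, X *ᵥ cov f₂ c = 0 → op g X = X + vecMulVec (γ X) c) :
    ∃ Z, InZ f₂ M c Z ∧
      ∀ u v, f₁ (Z u) v = f₁ (γ (vecMulVec u z)) v + f₁ u (γ (vecMulVec v z)) := by
  have h1 := O.alt₁
  have h2 := O.alt₂
  have S := O.setup hMΩ hKM
  obtain ⟨e₀, he₀⟩ := h2.form.exists_partner hc0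
  refine ⟨_, S.inZ_comm (h2.self c) he₀ (h2.self z) hz (l := 1) (by simp) hg hR hγ, fun u v => ?_⟩
  have h := S.iso g hg (vecMulVec u e₀) (vecMulVec v z)
  rw [hγ (vecMulVec v z) (by rw [pure_mulVec, h2.form.dot_cov, hz, zero_smul]), S.add_right, S.pure, S.pure,
    S.rad_contr hg hR, pure_mulVec, h2.form.dot_cov, he₀, one_smul, S.pure_pure] at h
  simp only [one_smul, LinearMap.add_apply, LinearMap.sub_apply, LinearMap.comp_apply, LinearMap.smul_apply,
    pl_apply, contr_apply, LinearMap.id_apply, h1.form.add_left, h1.form.sub_left, h1.form.smul_left]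
  linear_combination -h

/-- The case of the first factor of dimension at least four. -/
theorem beta_big (ha : 4 ≤ a) (hC : ∀ c Z, c ≠ 0 → InZ f₂ M c Z → ¬ NonScalar Z)
    {c e₀ : Fin b → F} (hc0 : c ≠ 0) (he₀ : f₂ e₀ c = 0) {g : GL (Fin a × Fin b) F} (hg : g ∈ M)
    (hR : InR f₂ c g) {γ : Matrix (Fin a) (Fin b) F →ₗ[F] (Fin a → F)}
    (hγ : ∀ X, X *ᵥ cov f₂ c = 0 → op g X = X + vecMulVec (γ X) c) {x : Fin a → F}
    (hx : γ (vecMulVec x e₀) ∉ F ∙ x) : Beta f₂ Q M x c := by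
  have h1 := O.alt₁
  have h2 := O.alt₂
  have S := O.setup hMΩ hKM
  set w := γ (vecMulVec x e₀) with hw
  obtain ⟨y, hyx, hy, hwy⟩ : ∃ y, y ∉ F ∙ x ∧ f₁ y x = 0 ∧ f₁ w y ≠ 0 := by
    obtain ⟨y₀, hy₀, hy₀w⟩ := h1.exists_dual hx
    have n0 : f₁ w y₀ ≠ 0 := by rw [h1.swap y₀ w, hy₀w]; exact neg_ne_zero.2 one_ne_zero
    by_cases hmem : y₀ ∈ F ∙ x
    swap
    · exact ⟨y₀, hmem, hy₀, n0⟩
    obtain ⟨r, hr, hrx⟩ := h1.exists_orth_out ![x, w] (F ∙ x) (by
      have : Module.finrank F (F ∙ x : Submodule F (Fin a → F)) ≤ 1 := by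
        simpa [Set.finrank] using finrank_span_le_card ({x} : Set (Fin a → F))
      omega)
    refine ⟨y₀ + r, fun h => hrx ?_, ?_, ?_⟩
    · simpa using Submodule.sub_mem _ h hmem
    · rw [h1.form.add_left, hy₀, show f₁ r x = 0 from hr 0, add_zero]
    · rw [h1.form.add_right, h1.swap r w, show f₁ r w = 0 from hr 1, neg_zero, add_zero]
      exact n0
  have hxy := h1.form.eq_zero_symm hy
  obtain ⟨g₁, hg₁, hR₁, γ₁, hγ₁, hv₁⟩ := rad_trans O hMΩ hKM hc0 hg hR hγ x 1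
  obtain ⟨g₂, hg₂, hR₂, γ₂, hγ₂, hv₂⟩ := rad_trans O hMΩ hKM hc0 hg₁ hR₁ hγ₁ y 1
  have hform : ∀ u e, f₂ e c = 0 → γ₂ (vecMulVec u e) = (-f₁ (γ (vecMulVec x e)) y * f₁ u x) • y
      + (-f₁ (γ (vecMulVec y e)) x * f₁ u y) • x := fun u e he => by
    rw [hv₂ u e he, hv₁ u e he, hv₁ y e he]
    simp only [h1.form.sub_left, h1.form.smul_left, hxy, hy, mul_zero, zero_mul, sub_zero, zero_smul, one_mul]
    module
  obtain ⟨v₁, hv₁y, hv₁x⟩ : ∃ u, f₁ u y = 0 ∧ f₁ u x = 1 := by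
    refine h1.exists_dual fun hmem => ?_
    obtain ⟨k, hk⟩ := Submodule.mem_span_singleton.1 hmem
    have hk0 : k ≠ 0 := fun e => hx (by
      rw [e, zero_smul] at hk
      rw [hw, ← hk, pure_zero_left, map_zero]
      exact Submodule.zero_mem _)
    exact hyx (Submodule.mem_span_singleton.2 ⟨k⁻¹, by rw [← hk, smul_smul, inv_mul_cancel₀ hk0, one_smul]⟩)
  obtain ⟨v₂, hv₂x, hv₂y⟩ := h1.exists_dual hyx
  have hPQ : ∀ e, f₂ e c = 0 → f₁ (γ (vecMulVec y e)) x = f₁ (γ (vecMulVec x e)) y := by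
    intro e he
    obtain ⟨Z, hZ, hpair⟩ := inZ_pairing O hMΩ hKM hc0 he hg₂ hR₂ hγ₂
    obtain ⟨s, hs⟩ := not_not.1 (hC c Z hc0 hZ)
    have hs0 : s = 0 := by
      have h := hpair x v₁
      rw [hs, h1.form.smul_left, hform x e he, hform v₁ e he, h1.self, hxy, hv₁y] at h
      simp only [mul_zero, zero_smul, add_zero, h1.form.zero_left, h1.smul_right, hxy, zero_add] at h
      rw [h1.swap v₁ x, hv₁x] at h
      linear_combination -h
    have h := hpair v₁ v₂
    rw [hs, hs0, zero_smul, h1.form.zero_left, hform v₁ e he, hform v₂ e he, hv₁x, hv₁y, hv₂x, hv₂y] at h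
    simp only [mul_zero, mul_one, zero_smul, add_zero, zero_add, h1.form.smul_left, h1.smul_right] at h
    rw [hv₁x, h1.swap v₂ y, hv₂y] at h
    linear_combination h
  obtain ⟨d, hd⟩ := h2.exists_vec (-fnAt h1 γ x y)
  have hd' : ∀ e, f₂ e d = -f₁ (γ (vecMulVec x e)) y := hd
  have hdc : f₂ d c = 0 := h2.form.eq_zero_symm (by
    rw [hd', gamma_c O hMΩ hKM hc0 hR hγ, h1.form.zero_left, neg_zero])
  refine beta_of_rankTwo O hMΩ hKM hc0 hdc he₀ ?_ hxy hyx hg₂ fun u e he => ?_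
  · rw [hd', neg_ne_zero, ← hw]; exact hwy
  · rw [hγ₂ _ (by rw [pure_mulVec, h2.form.dot_cov, he, zero_smul]), hform u e he, hPQ e he, hd',
      pure_add_left, pure_smul_left, pure_smul_left]
    abel

/-- The case of the first factor of dimension two. -/
theorem beta_two (ha : a = 2) (hq : (2 : F) = 0 → ∃ ω : F, ω ≠ 0 ∧ ω ≠ 1)
    {c e₀ : Fin b → F} (hc0 : c ≠ 0) (he₀ : f₂ e₀ c = 0) {g : GL (Fin a × Fin b) F} (hg : g ∈ M)
    (hR : InR f₂ c g) {γ : Matrix (Fin a) (Fin b) F →ₗ[F] (Fin a → F)}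
    (hγ : ∀ X, X *ᵥ cov f₂ c = 0 → op g X = X + vecMulVec (γ X) c) {x : Fin a → F}
    (hx : γ (vecMulVec x e₀) ∉ F ∙ x) : Beta f₂ Q M x c := by
  have h1 := O.alt₁
  have h2 := O.alt₂
  have S := O.setup hMΩ hKM
  have hx0 : x ≠ 0 := fun e => hx (by rw [e, pure_zero_left, map_zero]; exact Submodule.zero_mem _)
  obtain ⟨x', hx'⟩ := h1.form.exists_partner hx0
  have hspan : ∀ u : Fin a → F, ∃ s t : F, u = s • x + t • x' := by
    have hli : LinearIndependent F ![x, x'] := (LinearIndependent.pair_iff' hx0).2 fun k hk => by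
      rw [← hk, h1.form.smul_left, h1.self, mul_zero] at hx'
      exact zero_ne_one hx'
    intro u
    have hu : u ∈ Submodule.span F (Set.range ![x, x']) := by
      rw [hli.span_eq_top_of_card_eq_finrank' (by simp [ha])]; exact Submodule.mem_top
    rw [show Set.range ![x, x'] = {x, x'} by simp [Set.pair_comm]] at hu
    obtain ⟨s, t, hst⟩ := Submodule.mem_span_pair.1 hu
    exact ⟨s, t, hst.symm⟩
  have hxx' : f₁ x x' = -1 := by rw [h1.swap x' x, hx']
  have hμ0 : f₁ (γ (vecMulVec x e₀)) x ≠ 0 := fun h => hx (by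
    obtain ⟨s, t, hst⟩ := hspan (γ (vecMulVec x e₀))
    rw [hst, h1.form.add_left, h1.form.smul_left, h1.form.smul_left, h1.self, hx', mul_zero, zero_add,
      mul_one] at h
    rw [hst, h, zero_smul, add_zero]
    exact Submodule.smul_mem _ _ (Submodule.mem_span_singleton_self x))
  have hC : ∀ {u : Fin a → F} {e}, f₂ e c = 0 → vecMulVec u e *ᵥ cov f₂ c = 0 := fun he => by
    rw [pure_mulVec, h2.form.dot_cov, he, zero_smul]
  by_cases h20 : (2 : F) = 0
  swap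
  · obtain ⟨g₁, hg₁, hR₁, γ₁, hγ₁, hv₁⟩ := rad_trans O hMΩ hKM hc0 hg hR hγ x 1
    obtain ⟨g₂, hg₂, -, γ₂, hγ₂, hv₂⟩ := rad_trans O hMΩ hKM hc0 hg hR hγ x (-1)
    obtain ⟨d, hd⟩ := h2.exists_vec (-(2 : F) • fnAt h1 γ x x)
    have hd' : ∀ e, f₂ e d = -(2 : F) * f₁ (γ (vecMulVec x e)) x := hd
    refine beta_of_rankOne O hMΩ hKM hc0 (h2.form.eq_zero_symm (by
      rw [hd', gamma_c O hMΩ hKM hc0 hR hγ, h1.form.zero_left, mul_zero])) he₀
      (by rw [hd']; exact mul_ne_zero (neg_ne_zero.2 h20) hμ0) (M.mul_mem hg₁ hg₂) fun u e he => ?_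
    rw [op_mul, hγ₂ _ (hC he), map_add, hγ₁ _ (hC he), hR₁.1, hv₁ u e he, hv₂ u e he, hd']
    simp only [sub_eq_add_neg, pure_add_left, pure_smul_left, pure_neg_left]
    module
  obtain ⟨ω, hω0, hω1⟩ := hq h20
  obtain ⟨l, hlne⟩ : ∃ l : F, l * f₁ (γ (vecMulVec x' e₀)) x - l * f₁ x' (γ (vecMulVec x e₀))
      - l * l * f₁ (γ (vecMulVec x e₀)) x ≠ 0 := by
    by_contra hno
    push Not at hno
    have e1 := hno 1
    have e2 := hno ω
    have : (ω * (1 - ω)) * f₁ (γ (vecMulVec x e₀)) x = 0 := by linear_combination e2 - ω * e1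
    exact mul_ne_zero (mul_ne_zero hω0 (sub_ne_zero.2 (Ne.symm hω1))) hμ0 this
  obtain ⟨g₁, hg₁, hR₁, γ₁, hγ₁, hv₁⟩ := rad_trans O hMΩ hKM hc0 hg hR hγ x l
  obtain ⟨ψ, hψ⟩ := exists_dot_of_dual (-(l • fnAt h1 γ x x))
  have hψ' : ∀ e, e ⬝ᵥ ψ = -(l * f₁ (γ (vecMulVec x e)) x) := hψ
  obtain ⟨k, hk, -, hkR, hkX⟩ := S.exists_kron_rad (h2.self c) (ψ := ψ) (by
    rw [hψ', gamma_c O hMΩ hKM hc0 hR hγ, h1.form.zero_left, mul_zero, neg_zero])
  obtain ⟨d, hd⟩ := h2.exists_vec (l • fnAt h1 γ x' x + l • fnAt h1 γ x x' - (l * l) • fnAt h1 γ x x)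
  have hd' : ∀ e, f₂ e d = l * f₁ (γ (vecMulVec x' e)) x - l * f₁ x' (γ (vecMulVec x e))
      - l * l * f₁ (γ (vecMulVec x e)) x := fun e => by
    rw [h1.swap (γ (vecMulVec x e)) x', mul_neg, sub_neg_eq_add]
    exact hd e
  refine beta_of_rankOne O hMΩ hKM hc0 (h2.form.eq_zero_symm (by
    rw [hd', gamma_c O hMΩ hKM hc0 hR hγ, gamma_c O hMΩ hKM hc0 hR hγ, h1.form.zero_left, h1.form.zero_right]
    ring)) he₀ (by rw [hd']; exact hlne) (M.mul_mem hg₁ hk) fun u e he => ?_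
  rw [op_mul, hkX _ (hC he), map_add, hγ₁ _ (hC he), hR₁.1, pure_mulVec, hψ', hv₁ u e he, hd']
  obtain ⟨s, t, rfl⟩ := hspan u
  obtain ⟨p, m, hpm⟩ := hspan (γ (vecMulVec x e))
  simp only [pure_add_left, pure_smul_left, map_add, map_smul, h1.form.add_left, h1.form.smul_left, hpm,
    h1.form.add_right, h1.smul_right, h1.self, hx', hxx', sub_eq_add_neg, pure_neg_left]
  match_scalars
  all_goals first | ring1 | linear_combination (-(l * m * t)) * h20 | linear_combination (l * m * t) * h20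

/-- A group bigger than the Kronecker stabiliser contains a root with pure tensors. -/
theorem exists_beta (hq : a = 2 → (2 : F) = 0 → ∃ ω : F, ω ≠ 0 ∧ ω ≠ 1)
    (hM : ¬ M ≤ Cfsg.Geo.kroneckerSubgroup a b F) : ∃ x c, x ≠ 0 ∧ c ≠ 0 ∧ Beta f₂ Q M x c := by
  classical
  have h2 := O.alt₂
  have S := O.setup hMΩ hKM
  by_cases hC : ∃ c Z, c ≠ 0 ∧ InZ f₂ M c Z ∧ NonScalar Z
  · obtain ⟨c, Z, hc0, hZ, hns⟩ := hC
    exact beta_of_centre O hMΩ hKM hc0 hZ hns
  push Not at hC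
  have hno := S.not_noRad hM
  unfold NoRad at hno
  push Not at hno
  obtain ⟨c, hc0, hc, g, hg, hR, hgk⟩ := hno
  obtain ⟨γ, hγ⟩ := S.exists_gamma hc0 hR
  obtain ⟨e₀, he₀, x, hx⟩ : ∃ e₀, f₂ e₀ c = 0 ∧ ∃ x, γ (vecMulVec x e₀) ∉ F ∙ x := by
    by_contra hno
    push Not at hno
    obtain ⟨Z, hZ, hns⟩ := S.centre_of_scalar hc0 hc hg hR hgk hγ fun e he =>
      exists_scalar_of_eigen (γ ∘ₗ pl a e) fun v => by
        obtain ⟨k, hk⟩ := Submodule.mem_span_singleton.1 (hno e he v)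
        exact ⟨k, hk.symm⟩
    exact hC c Z hc0 hZ hns
  have hx0 : x ≠ 0 := fun e => hx (by rw [e, pure_zero_left, map_zero]; exact Submodule.zero_mem _)
  refine ⟨x, c, hx0, hc0, ?_⟩
  have := O.two_le
  have := O.alt₁.ne_three
  by_cases ha : a = 2
  · exact beta_two O hMΩ hKM ha (hq ha) hc0 he₀ hg hR hγ hx
  · exact beta_big O hMΩ hKM (by omega) hC hc0 he₀ hg hR hγ hx

end Cfsg.Agent.Lib.TensorForm
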