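import Cfsg.Agent.Lib.TensorForm.Finish
import Cfsg.Agent.Lib.TensorForm.RankOneTwo
import Cfsg.Agent.Lib.FormMax.UnitaryInSL

/-!
The stabiliser of a tensor decomposition is maximal in the special unitary group.
-/

set_option autoImplicit false
set_option linter.unusedSectionVars false

namespace Cfsg.Agent.Lib.TensorForm

open Matrix Cfsg.Agent.Lib Cfsg.Agent.Lib.TensorMax Cfsg.Agent.Lib.Forms

variable {F : Type*} [Field F] [Finite F] {m : ℕ} {σ : F →+* F}

theorem IsSForm.exists_unitary {f : (Fin m → F) → (Fin m → F) → F} (hf : IsSForm σ 1 f)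
    (hσ : σ ≠ RingHom.id F) :
    ∃ σe : F ≃+* F, (∀ x, σe x = σ x) ∧ Cfsg.Geo.IsUnitaryForm σe f := by
  refine ⟨RingEquiv.ofBijective σ (Function.Involutive.bijective hf.invol), fun x => rfl,
    ⟨fun h => hσ (RingHom.ext fun x => RingEquiv.congr_fun h x), hf.invol, hf.add_left, hf.smul_left,
      fun v w => herm_eq hf w v, fun v hv => ?_⟩⟩
  obtain ⟨x, hx⟩ := hf.nondeg v hv
  exact ⟨⟨x, fun h => hx (hf.eq_zero_symm h)⟩, ⟨x, hx⟩⟩

theorem IsSForm.iso_span_top {f : (Fin m → F) → (Fin m → F) → F} (hf : IsSForm σ 1 f)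
    (hσ : σ ≠ RingHom.id F) (hm : 2 ≤ m) : Submodule.span F {z : Fin m → F | f z z = 0} = ⊤ := by
  obtain ⟨σe, -, hU⟩ := hf.exists_unitary hσ
  refine Submodule.eq_top_iff'.2 fun u => ?_
  exact FormMax.UnitarySL.perp_induction hU (k := 0) ![] (FormMax.UnitarySL.exists_perp_pair hU _ (by rw [Fintype.card_fin]; omega))
    (P := fun z => z ∈ Submodule.span F {z : Fin m → F | f z z = 0})
    (fun p r hp hr => Submodule.add_mem _ hp hr) (fun z hz _ => Submodule.subset_span hz) (fun i => i.elim0)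

theorem IsSForm.iso_add_herm {f : (Fin m → F) → (Fin m → F) → F} (hf : IsSForm σ 1 f)
    (hσ : σ ≠ RingHom.id F) (u w : Fin m → F) (hu : f u u = 0) (hw : f w w = 0) :
    ∃ t : F, t ≠ 0 ∧ f (u + t • w) (u + t • w) = 0 := by
  obtain ⟨t₀, ht₀⟩ := herm_moved hf hσ
  have key : ∀ t : F, f (u + t • w) (u + t • w) = t * f w u + σ (t * f w u) := fun t => by
    rw [hf.add_left, hf.add_right, hf.add_right, hf.smul_left, hf.smul_left, hf.smul_right, hf.smul_right,
      hu, hw, map_mul, ← herm_eq hf w u]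
    ring
  by_cases h : f w u = 0
  · exact ⟨1, one_ne_zero, by rw [key, h, mul_zero, map_zero, add_zero]⟩
  · refine ⟨(t₀ - σ t₀) / f w u, div_ne_zero (sub_ne_zero.2 (Ne.symm ht₀)) h, ?_⟩
    rw [key, div_mul_cancel₀ _ h, map_sub, hf.invol]
    ring

/-- A root element moving one isotropic vector to a multiple of another. -/
theorem IsSForm.exists_move_herm {f : (Fin m → F) → (Fin m → F) → F} (hf : IsSForm σ 1 f)
    (hσ : σ ≠ RingHom.id F) {x y : Fin m → F} (hx : f x x = 0) (hy : f y y = 0) (hxy : f x y ≠ 0) :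
    ∃ (z : Fin m → F) (l s : F), f z z = 0 ∧ l + σ l = 0 ∧ s ≠ 0 ∧ x + (l * f x z) • z = s • y := by
  obtain ⟨t₀, ht₀⟩ := herm_moved hf hσ
  obtain ⟨δ, hδ⟩ : ∃ d, d = t₀ - σ t₀ := ⟨_, rfl⟩
  have hδ0 : δ ≠ 0 := hδ ▸ sub_ne_zero.2 (Ne.symm ht₀)
  have hσδ : σ δ = -δ := by rw [hδ, map_sub, hf.invol]; ring
  have hyx : f y x ≠ 0 := fun h => hxy (hf.eq_zero_symm h)
  have hxz : σ (δ / f y x) * f x y = -δ := by
    rw [map_div₀, ← herm_eq hf y x, div_mul_cancel₀ _ hxy, hσδ]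
  refine ⟨(δ / f y x) • y - x, -δ⁻¹, δ / f y x, ?_, ?_, div_ne_zero hδ0 hyx, ?_⟩
  · rw [hf.sub_left, hf.sub_right, hf.sub_right, hf.smul_left, hf.smul_left, hf.smul_right, hf.smul_right,
      hx, hy, hxz, div_mul_cancel₀ _ hyx]
    ring
  · rw [map_neg, map_inv₀, hσδ, inv_neg]; ring
  · rw [hf.sub_right, hf.smul_right, hx, sub_zero, hxz, neg_mul_neg, inv_mul_cancel₀ hδ0, one_smul,
      add_sub_cancel]

variable {a b : ℕ} {f₁ : (Fin a → F) → (Fin a → F) → F} {f₂ : (Fin b → F) → (Fin b → F) → F}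
  {M : Subgroup (GL (Fin a × Fin b) F)}

/-- The hypotheses on a group of isometries of the tensor product of hermitian forms. -/
theorem setup_unitary (h1 : IsSForm σ 1 f₁) (h2 : IsSForm σ 1 f₂) (hσ : σ ≠ RingHom.id F) (ha : 2 ≤ a)
    (hab : a < b) (hb : 4 ≤ b)
    (hiso : ∀ g ∈ M, ∀ X Y, tB f₁ f₂ (op g X) (op g Y) = tB f₁ f₂ X Y)
    (hK : ∀ g ∈ Cfsg.Geo.kroneckerSubgroup a b F,
      (g : Matrix (Fin a × Fin b) (Fin a × Fin b) F).det = 1 →
      (∀ X Y, tB f₁ f₂ (op g X) (op g Y) = tB f₁ f₂ X Y) → g ∈ M) :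
    Setup σ 1 f₁ f₂ (tB f₁ f₂) M := by
  classical
  obtain ⟨σe, -, hU⟩ := h2.exists_unitary hσ
  refine ⟨h1, h2, tB_add_left h1 h2, tB_smul_left h1 h2, tB_add_right h1 h2, tB_flip h1 h2, tB_pure h1 h2,
    hiso, ?_, ha, hab, hb, Or.inr (herm_moved h1 hσ), fun T hT => FormMax.UnitarySL.exists_isotropic_in hU hT,
    fun u w hu hw => h2.iso_add_herm hσ u w hu hw, fun u _ e he => ?_, h2.iso_span_top hσ (by omega), ?_, ?_⟩
  · obtain ⟨t, ht⟩ := herm_moved h1 hσ
    exact ⟨t - σ t, sub_ne_zero.2 (Ne.symm ht), by rw [map_sub, h1.invol]; ring⟩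
  · exact FormMax.UnitarySL.perp_induction hU (k := 1) ![u] (FormMax.UnitarySL.exists_perp_pair hU _ (by rw [Fintype.card_fin]; omega))
      (P := fun z => z ∈ Submodule.span F {z | f₂ z z = 0 ∧ f₂ z u = 0})
      (fun p r hp hr => Submodule.add_mem _ hp hr) (fun z hz hzu => Submodule.subset_span ⟨hz, hzu 0⟩)
      (u := e) (fun i => by fin_cases i; exact he)
  · intro c l hc hl
    have hd : (1 + vecMulVec (l • c) (cov f₂ c) : Matrix (Fin b) (Fin b) F).det = 1 := by
      rw [vecMulVec_eq Unit, det_one_add_replicateCol_mul_replicateRow, dotProduct_smul, dotProduct_comm,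
        h2.dot_cov, hc, smul_zero, add_zero]
    obtain ⟨g, hgk, hgd, hg⟩ := exists_kron_of (1 : Matrix (Fin a) (Fin a) F)
      (1 + vecMulVec (l • c) (cov f₂ c)) (by simp) (by rw [hd]; exact one_ne_zero)
    have hge : ∀ x e, op g (vecMulVec x e) = vecMulVec x (e + (l * f₂ e c) • c) := fun x e => by
      rw [hg, one_mulVec, add_mulVec, one_mulVec, vecMulVec_mulVec, op_smul_eq_smul, dotProduct_comm,
        h2.dot_cov, smul_smul, mul_comm]
    refine ⟨g, hK g hgk (by rw [hgd, det_one, hd, one_pow, one_pow, one_mul])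
      (tB_iso_of_pure h1 h2 fun x y e d => ?_), hgk, fun X => ?_⟩
    · rw [hge, hge, tB_pure_pure h1 h2]
      congr 1
      simp only [h2.add_left, h2.add_right, h2.smul_left, h2.smul_right, hc, map_mul, ← herm_eq h2 d c]
      linear_combination (f₂ e c * f₂ c d) * hl
    · conv_lhs => rw [eq_sum_rows X, map_sum]
      conv_rhs => rw [eq_sum_rows X]
      rw [← vecMulVec_sum_rows X c, Finset.smul_sum, ← Finset.sum_add_distrib]
      refine Finset.sum_congr rfl fun i _ => ?_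
      rw [hge, pure_add_right, pure_smul_right, pure_mulVec, h2.dot_cov, pure_smul_left, smul_smul]
  · intro x l hx hl
    have hd : (1 + vecMulVec (l • x) (cov f₁ x) : Matrix (Fin a) (Fin a) F).det = 1 := by
      rw [vecMulVec_eq Unit, det_one_add_replicateCol_mul_replicateRow, dotProduct_smul, dotProduct_comm,
        h1.dot_cov, hx, smul_zero, add_zero]
    obtain ⟨g, hgk, hgd, hg⟩ := exists_kron_of (1 + vecMulVec (l • x) (cov f₁ x))
      (1 : Matrix (Fin b) (Fin b) F) (by rw [hd]; exact one_ne_zero) (by simp)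
    have hge : ∀ u e, op g (vecMulVec u e) = vecMulVec (u + (l * f₁ u x) • x) e := fun u e => by
      rw [hg, one_mulVec, add_mulVec, one_mulVec, vecMulVec_mulVec, op_smul_eq_smul, dotProduct_comm,
        h1.dot_cov, smul_smul, mul_comm]
    refine ⟨g, hK g hgk (by rw [hgd, det_one, hd, one_pow, one_pow, one_mul])
      (tB_iso_of_pure h1 h2 fun u v e d => ?_), hgk, fun X => ?_⟩
    · rw [hge, hge, tB_pure_pure h1 h2]
      congr 1
      simp only [h1.add_left, h1.add_right, h1.smul_left, h1.smul_right, hx, map_mul, ← herm_eq h1 v x]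
      linear_combination (f₁ u x * f₁ x v) * hl
    · conv_lhs => rw [eq_sum_rows X, map_sum]
      conv_rhs => rw [eq_sum_rows X, vecMul_sum]
      rw [show vecMulVec x (∑ i, cov f₁ x ᵥ* vecMulVec (Pi.single i 1) (X i))
          = ∑ i, vecMulVec x (cov f₁ x ᵥ* vecMulVec (Pi.single i 1) (X i)) from map_sum (plL b x) _ _,
        Finset.smul_sum, ← Finset.sum_add_distrib]
      refine Finset.sum_congr rfl fun i _ => ?_
      rw [hge, vecMul_pure, pure_add_left, pure_smul_left, pure_smul_right, dotProduct_comm, h1.dot_cov,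
        smul_smul]
where
  vecMulVec_sum_rows (X : Matrix (Fin a) (Fin b) F) (c : Fin b → F) :
      (∑ i, vecMulVec ((vecMulVec (Pi.single i 1) (X i) : Matrix (Fin a) (Fin b) F) *ᵥ cov f₂ c) c)
        = vecMulVec ((∑ i, vecMulVec (Pi.single i 1) (X i) : Matrix (Fin a) (Fin b) F) *ᵥ cov f₂ c) c := by
    rw [sum_mulVec]
    exact (map_sum (pl a c) _ _).symm

/-- The central coefficients as a set of skew maps. -/
theorem zset_unitary (h1 : IsSForm σ 1 f₁) (hσ : σ ≠ RingHom.id F)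
    (S : Setup σ 1 f₁ f₂ (tB f₁ f₂) M) {c : Fin b → F} (hc0 : c ≠ 0) (hc : f₂ c c = 0)
    (hK : ∀ g ∈ Cfsg.Geo.kroneckerSubgroup a b F,
      (g : Matrix (Fin a × Fin b) (Fin a × Fin b) F).det = 1 →
      (∀ X Y, tB f₁ f₂ (op g X) (op g Y) = tB f₁ f₂ X Y) → g ∈ M) :
    ZSet σ f₁ (InZ f₂ M c) := by
  classical
  have h2 := S.form₂
  obtain ⟨l₀, hl₀0, hl₀⟩ := S.skew
  rw [one_mul] at hl₀
  refine ⟨h1, fun Z Z' h h' => S.inZ_add hc h h', fun Z h m m' => ?_, fun Z h r hr => ?_,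
    fun Z h x l hx hl E hE => S.inZ_trans hc h hx (by rw [one_mul]; exact hl) hE,
    fun Z h T T' hT hdet hTT => ?_, h1.iso_span_top hσ S.two_le,
    fun u w hu hw => h1.iso_add_herm hσ u w hu hw, herm_trace h1 hσ, ⟨l₀, hl₀0, hl₀⟩⟩
  · have := S.inZ_skew hc0 hc h m m'
    rwa [one_mul] at this
  · obtain ⟨e, he, hce⟩ := herm_partner h2 hσ hc0 hc (δ := 1) one_ne_zero
    have hec : f₂ e c = 1 := by rw [herm_eq h2 c e, hce, map_one]
    have hw : ∀ l : F, l ≠ 0 → l + σ l = 0 → ∃ w ∈ M, (∀ x, op w (vecMulVec x c) = vecMulVec x (-l⁻¹ • e)) ∧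
        ∀ x, op w (vecMulVec x e) = vecMulVec x (l • c) := by
      intro l hl0 hl
      obtain ⟨t₁, ht₁, -, hX₁⟩ := S.transB c l hc (by rw [one_mul]; exact hl)
      obtain ⟨t₂, ht₂, -, hX₂⟩ := S.transB e (-l⁻¹) he (by
        rw [one_mul, map_neg, map_inv₀, show σ l = -l by linear_combination hl, inv_neg]; ring)
      refine ⟨t₁ * t₂ * t₁, M.mul_mem (M.mul_mem ht₁ ht₂) ht₁, fun x => ?_, fun x => ?_⟩
      all_goals
        simp only [op_mul, hX₁, hX₂, map_add, map_smul, add_mulVec, smul_mulVec, pure_mulVec, h2.dot_cov,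
          hc, he, hec, hce, pure_smul_left, pure_smul_right, pure_add_left, pure_zero_left, zero_smul,
          smul_zero, add_zero, zero_add, one_smul]
        match_scalars <;> field_simp <;> ring
    have hsq : ∀ lam : F, σ lam = lam → ∀ Z, InZ f₂ M c Z → InZ f₂ M c ((lam * lam) • Z) := by
      intro lam hlam Z hZ
      by_cases h0 : lam = 0
      · rw [h0, mul_zero, zero_smul]; exact S.inZ_zero c
      have hl' : (-lam * l₀) + σ (-lam * l₀) = 0 := by
        rw [map_mul, map_neg, hlam]; linear_combination (-lam) * hl₀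
      obtain ⟨w, hwM, -, hwe⟩ := hw _ (mul_ne_zero (neg_ne_zero.2 h0) hl₀0) hl'
      obtain ⟨w', hw'M, hw'c, -⟩ := hw _ hl₀0 hl₀
      obtain ⟨g, hg, hgX⟩ := hZ
      have hk : ∀ x, op (w * w') (vecMulVec x c) = vecMulVec x (lam • c) := fun x => by
        rw [op_mul, hw'c, pure_smul_right, map_smul, hwe, pure_smul_right, pure_smul_right, smul_smul]
        congr 1
        field_simp
      refine ⟨w * w' * g * (w * w')⁻¹,
        M.mul_mem (M.mul_mem (M.mul_mem hwM hw'M) hg) (M.inv_mem (M.mul_mem hwM hw'M)), fun Y => ?_⟩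
      obtain ⟨X, rfl⟩ : ∃ X, op (w * w') X = Y := ⟨op (w * w')⁻¹ Y, op_op_inv _ _⟩
      have hφ : lam • (op (w * w') X *ᵥ cov f₂ c) = X *ᵥ cov f₂ c := by
        by_contra hne
        obtain ⟨u, hu⟩ := h1.nondeg _ (sub_ne_zero.2 hne)
        refine hu ?_
        have h' := S.iso _ (M.mul_mem hwM hw'M) X (vecMulVec u c)
        rw [hk, S.pure, S.pure, h2.cov_smul, hlam, mulVec_smul] at h'
        rw [h1.sub_left, h', sub_self]
      rw [op_mul, op_inv_op, op_mul, hgX, map_add, hk, ← hφ, map_smul, pure_smul_left, pure_smul_right,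
        smul_smul, LinearMap.smul_apply, pure_smul_left]
    by_cases h2' : (2 : F) = 0
    · haveI : CharP F 2 := CharTwo.of_one_ne_zero_of_two_eq_zero one_ne_zero h2'
      obtain ⟨s, hs⟩ : ∃ s : F, s * s = r := by
        obtain ⟨s, hs⟩ := surjective_frobenius F 2 r
        exact ⟨s, by rw [frobenius_def, pow_two] at hs; exact hs⟩
      have hσs : σ s = s := by
        have e : (σ s - s) * (σ s - s) = 0 := by
          have h' := congrArg σ hs
          rw [map_mul, hr] at h'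
          linear_combination h' - hs + (s * s - σ s * s) * h2'
        exact sub_eq_zero.1 (mul_self_eq_zero.1 e)
      exact hs ▸ hsq s hσs Z h
    · have hhalf : σ ((2 : F)⁻¹) = (2 : F)⁻¹ := by rw [map_inv₀, map_ofNat]
      have h' := S.inZ_sub hc (hsq ((r + 1) * 2⁻¹) (by rw [map_mul, map_add, map_one, hr, hhalf]) Z h)
        (hsq ((r - 1) * 2⁻¹) (by rw [map_mul, map_sub, map_one, hr, hhalf]) Z h)
      have e : r • Z = ((r + 1) * 2⁻¹ * ((r + 1) * 2⁻¹)) • Z - ((r - 1) * 2⁻¹ * ((r - 1) * 2⁻¹)) • Z :=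
        LinearMap.ext fun v => by
          rw [LinearMap.sub_apply, LinearMap.smul_apply, LinearMap.smul_apply, LinearMap.smul_apply,
            ← sub_smul]
          congr 1
          field_simp
          ring
      rwa [e]
  · have hd : (LinearMap.toMatrix' T).det = 1 := by rw [LinearMap.det_toMatrix']; exact hdet
    obtain ⟨g, hgk, hgd, hg⟩ := exists_kron_of (LinearMap.toMatrix' T) (1 : Matrix (Fin b) (Fin b) F)
      (by rw [hd]; exact one_ne_zero) (by simp)
    have hge : ∀ x e, op g (vecMulVec x e) = vecMulVec (T x) e := fun x e => by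
      rw [hg, LinearMap.toMatrix'_mulVec, one_mulVec]
    refine S.inZ_conj (hK g hgk (by rw [hgd, hd, det_one, one_pow, one_pow, one_mul])
      (tB_iso_of_pure h1 h2 fun x y e d => ?_)) hge hTT h
    rw [hge, hge, tB_pure_pure h1 h2, hT]

end Cfsg.Agent.Lib.TensorForm

namespace Cfsg.Agent.Lib.TensorForm

open Matrix Cfsg.Agent.Lib Cfsg.Agent.Lib.TensorMax Cfsg.Agent.Lib.UnitaryMax Cfsg.Agent.Lib.Forms

variable {F : Type*} [Field F] [Fintype F] {a b n q : ℕ}
  {f₁ : (Fin a → F) → (Fin a → F) → F} {f₂ : (Fin b → F) → (Fin b → F) → F}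

theorem isMaximalIn_tensorSU (hF : Fintype.card F = q ^ 2) (h1 : IsSForm (qPowHom hF) 1 f₁)
    (h2 : IsSForm (qPowHom hF) 1 f₂) (ha : 2 ≤ a) (hab : a < b) (hb : 4 ≤ b) (hn : 4 ≤ n)
    (hex : ¬ (a = 2 ∧ q = 2)) (Φ : GL (Fin a × Fin b) F ≃* GL (Fin n) F)
    (L : Matrix (Fin a) (Fin b) F →ₗ[F] (Fin n → F)) (hbij : Function.Bijective L)
    (hL : ∀ g X, L (op g X) = (Φ g : Matrix (Fin n) (Fin n) F) *ᵥ L X)
    (hdet : ∀ g, (Φ g : Matrix (Fin n) (Fin n) F).det = (g : Matrix (Fin a × Fin b) (Fin a × Fin b) F).det)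
    (hiso : ∀ X Y, Cfsg.hermForm n F q (L X) (L Y) = tB f₁ f₂ X Y) :
    Cfsg.Geo.IsMaximalIn (suGL n F q)
      ((Cfsg.Geo.kroneckerSubgroup a b F).map Φ.toMonoidHom ⊓ suGL n F q) := by
  classical
  have hσ := qPowHom_ne_id hF
  have hq : ∀ x : F, qPowHom hF x = x ^ q := qPowHom_apply hF
  have hsame : ∀ g : GL (Fin a × Fin b) F, Φ g ∈ suGL n F q ↔
      (∀ X Y, tB f₁ f₂ (op g X) (op g Y) = tB f₁ f₂ X Y) ∧
        (g : Matrix (Fin a × Fin b) (Fin a × Fin b) F).det = 1 := by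
    intro g
    rw [mem_suGL_iff, hdet]
    refine and_congr_left fun _ => ⟨fun h X Y => ?_, fun h u v => ?_⟩
    · rw [← hiso, ← hiso, hL, hL, h]
    · obtain ⟨X, rfl⟩ := hbij.2 u
      obtain ⟨Y, rfl⟩ := hbij.2 v
      rw [← hL, ← hL, hiso, hiso, h]
  have hTv : ∀ (g : GL (Fin a × Fin b) F) x c (k : F) (hv : Cfsg.hermForm n F q (L (vecMulVec x c)) (L (vecMulVec x c)) = 0),
      (∀ X, op g X = X + (k * f₁ (X *ᵥ cov f₂ c) x) • vecMulVec x c) →
      Φ g = UnitaryMax.T (L (vecMulVec x c)) k hv := fun g x c k hv hg => by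
    refine FormMax.gl_ext fun u => ?_
    obtain ⟨X, rfl⟩ := hbij.2 u
    rw [← hL, hg, map_add, map_smul, UnitaryMax.T_mulVec, hiso, tB_pure h1 h2]
  obtain ⟨t₀, ht₀⟩ := herm_moved h1 hσ
  have hskew0 : (t₀ - qPowHom hF t₀) + qPowHom hF (t₀ - qPowHom hF t₀) = 0 := by
    rw [map_sub, h1.invol]; ring
  refine ⟨lt_of_le_of_ne inf_le_right fun he => ?_, fun H hKH hHG => ?_⟩
  · obtain ⟨σe, -, hU⟩ := h1.exists_unitary hσ
    obtain ⟨σe', -, hU'⟩ := h2.exists_unitary hσ
    obtain ⟨x, -, hx0, hx⟩ := FormMax.UnitarySL.exists_isotropic_in hU (W := ⊤)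
      (by rw [finrank_top, Module.finrank_fin_fun]; exact ha)
    obtain ⟨c, -, hc0, hc⟩ := FormMax.UnitarySL.exists_isotropic_in hU' (W := ⊤)
      (by rw [finrank_top, Module.finrank_fin_fun]; omega)
    have hv : Cfsg.hermForm n F q (L (vecMulVec x c)) (L (vecMulVec x c)) = 0 := by
      rw [hiso, tB_pure_pure h1 h2, hc, zero_mul]
    set k := t₀ - qPowHom hF t₀ with hk
    have hT := T_mem hF (L (vecMulVec x c)) (c := k) hv (by rw [← hq]; exact hskew0)
    obtain ⟨g, hgk, hg⟩ := (he.ge hT).1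
    have hgX : ∀ X, op g X = X + (k * f₁ (X *ᵥ cov f₂ c) x) • vecMulVec x c := fun X => by
      refine hbij.1 ?_
      rw [hL, show Φ g = UnitaryMax.T (L (vecMulVec x c)) k hv from hg, UnitaryMax.T_mulVec, map_add, map_smul,
        hiso, tB_pure h1 h2]
    obtain ⟨G, hG⟩ := exists_right_mul (show 1 ≤ a by omega) hc0 hgk (fun u => by
      rw [hgX, pure_mulVec, h2.dot_cov, hc, zero_smul, h1.zero_left, mul_zero, zero_smul, add_zero])
    obtain ⟨m, hm⟩ := h1.exists_partner hx0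
    obtain ⟨e₀, he₀⟩ := h2.exists_partner hc0
    have hxm : x ∉ F ∙ m := fun hmem => by
      obtain ⟨r, rfl⟩ := Submodule.mem_span_singleton.1 hmem
      rw [h1.smul_left, h1.smul_right] at hx
      rw [h1.smul_right] at hm
      have hr0 : r ≠ 0 := fun e => hx0 (by rw [e, zero_smul])
      rw [(mul_eq_zero.1 hx).resolve_left hr0] at hm
      exact zero_ne_one hm
    obtain ⟨η, hη0, hη1⟩ := exists_sep hxm
    have h := congrArg (fun Z => η ᵥ* Z) ((hG (vecMulVec m e₀)).symm.trans (hgX _))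
    simp only [vecMulVec_mul, vecMul_add, vecMul_smul, vecMul_pure, pure_mulVec, h2.dot_cov, he₀, one_smul, hm,
      mul_one, (dotProduct_comm _ _).trans hη1,
      (dotProduct_comm _ _).trans (hη0 _ (Submodule.mem_span_singleton_self _)), zero_smul, zero_add] at h
    exact hc0 ((smul_eq_zero.1 h.symm).resolve_left (sub_ne_zero.2 (Ne.symm ht₀)))
  set M := H.comap Φ.toMonoidHom with hMdef
  by_cases hMk : M ≤ Cfsg.Geo.kroneckerSubgroup a b F
  · refine Or.inl (le_antisymm (fun y hy => ?_) hKH)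
    obtain ⟨g, rfl⟩ := Φ.surjective y
    exact ⟨⟨g, hMk hy, rfl⟩, hHG hy⟩
  right
  have hMiso : ∀ g ∈ M, ∀ X Y, tB f₁ f₂ (op g X) (op g Y) = tB f₁ f₂ X Y := fun g hg =>
    ((hsame g).1 (hHG hg)).1
  have hKM : ∀ g ∈ Cfsg.Geo.kroneckerSubgroup a b F,
      (g : Matrix (Fin a × Fin b) (Fin a × Fin b) F).det = 1 →
      (∀ X Y, tB f₁ f₂ (op g X) (op g Y) = tB f₁ f₂ X Y) → g ∈ M := fun g hgk hd hi =>
    hKH ⟨⟨g, hgk, rfl⟩, (hsame g).2 ⟨hi, hd⟩⟩
  have S := setup_unitary h1 h2 hσ ha hab hb hMiso hKM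
  obtain ⟨c₀, Z, hc₀0, hc₀, hZ, hns⟩ := S.exists_centre_of_twist (herm_moved h1 hσ) hMk
  have ZS := zset_unitary h1 hσ S hc₀0 hc₀ hKM
  obtain ⟨Z', x', hZ', hx', hval⟩ := ZS.exists_value hZ hns
  obtain ⟨x₀, hx₀0, hx₀, hrk⟩ : ∃ y, y ≠ 0 ∧ f₁ y y = 0 ∧
      ∀ k : F, k + qPowHom hF k = 0 → InZ f₂ M c₀ (k • rk1 ZS.form y y) := by
    have hx'0 : x' ≠ 0 := fun e => hval (by rw [e, h1.zero_right])
    by_cases hbig : ∃ t : F, qPowHom hF t = t ∧ t ≠ 0 ∧ t ≠ 1
    · obtain ⟨t, ht, ht0, ht1⟩ := hbig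
      exact ⟨x', hx'0, hx', ZS.rank_one_big ht ht0 ht1 hZ' hx' hval⟩
    push Not at hbig
    have hfix : ∀ r : F, qPowHom hF r = r → r = 0 ∨ r = 1 := fun r hr => or_iff_not_imp_left.2 (hbig r hr)
    have hq2 : q = 2 := by
      have h2' := two_le_of_card_sq hF
      have hc := UnitaryMax.card_fixedField hF (F := F)
      have hsub : fixedField q F ⊆ ({0, 1} : Finset F) := fun r hr => by
        simp only [fixedField, Finset.mem_filter] at hr
        rcases hfix r (by rw [hq]; exact hr.2) with h | h <;> simp [h]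
      have := (Finset.card_le_card hsub).trans Finset.card_le_two
      omega
    have h3 : 3 ≤ a := by
      by_contra hlt
      exact hex ⟨by omega, hq2⟩
    exact ZS.rank_one_two hfix h3 hZ' hx' hval
  have hbase : L (vecMulVec x₀ c₀) ∈ root q H := by
    refine ⟨by rw [hiso, tB_pure_pure h1 h2, hc₀, zero_mul], fun k hk => ?_⟩
    obtain ⟨g, hgM, hg⟩ := hrk k (by rw [hq]; exact hk)
    rw [← hTv g x₀ c₀ k _ fun X => by
      rw [hg, LinearMap.smul_apply, rk1_apply, pure_smul_left, pure_smul_left, smul_smul]]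
    exact hgM
  have hmove : ∀ x y c d, f₁ x x = 0 → f₁ y y = 0 → f₂ c c = 0 → f₂ d d = 0 → x ≠ 0 → c ≠ 0 →
      L (vecMulVec x c) ∈ root q H → L (vecMulVec y d) ∈ root q H := by
    intro x y c d hx hy hc hd hx0 hc0 hroot
    by_cases hy0 : y = 0
    · have := root_smul hF hroot (0 : F)
      rwa [hy0, pure_zero_left, map_zero, ← zero_smul F (L (vecMulVec x c))]
    by_cases hd0 : d = 0
    · have := root_smul hF hroot (0 : F)
      rwa [hd0, pure_zero_right, map_zero, ← zero_smul F (L (vecMulVec x c))]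
    have hA : ∀ {x y : Fin a → F}, f₁ x x = 0 → f₁ y y = 0 → f₁ x y ≠ 0 →
        L (vecMulVec x c) ∈ root q H → L (vecMulVec y c) ∈ root q H := by
      intro x y hx hy hxy hr
      obtain ⟨z, l, s, hz, hl, hs, he⟩ := h1.exists_move_herm hσ hx hy hxy
      obtain ⟨t, ht, -, htX⟩ := S.transA z l hz (by rw [one_mul]; exact hl)
      have h := root_map hHG (g := Φ t) ht hr
      rw [← hL, htX, vecMul_pure, dotProduct_comm, h1.dot_cov, pure_smul_right, smul_smul,
        ← pure_smul_left, ← pure_add_left, he, pure_smul_left, map_smul] at h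
      have h' := root_smul hF h s⁻¹
      rwa [smul_smul, inv_mul_cancel₀ hs, one_smul] at h'
    have hB : ∀ {c d : Fin b → F}, f₂ c c = 0 → f₂ d d = 0 → f₂ c d ≠ 0 →
        L (vecMulVec y c) ∈ root q H → L (vecMulVec y d) ∈ root q H := by
      intro c d hc hd hcd hr
      obtain ⟨z, l, s, hz, hl, hs, he⟩ := h2.exists_move_herm hσ hc hd hcd
      obtain ⟨t, ht, -, htX⟩ := S.transB z l hz (by rw [one_mul]; exact hl)
      have h := root_map hHG (g := Φ t) ht hr
      rw [← hL, htX, pure_mulVec, h2.dot_cov, pure_smul_left, smul_smul, ← pure_smul_right, ← pure_add_right,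
        he, pure_smul_right, map_smul] at h
      have h' := root_smul hF h s⁻¹
      rwa [smul_smul, inv_mul_cancel₀ hs, one_smul] at h'
    obtain ⟨σe, -, hU⟩ := h1.exists_unitary hσ
    obtain ⟨σe', -, hU'⟩ := h2.exists_unitary hσ
    have hy' : L (vecMulVec y c) ∈ root q H := by
      obtain ⟨z, hz, hxz, hyz⟩ := FormMax.UnitarySL.exists_common hU hx0 hx hy0 hy
      exact hA hz hy (fun e => hyz (h1.eq_zero_symm e)) (hA hx hz hxz hroot)
    obtain ⟨z, hz, hcz, hdz⟩ := FormMax.UnitarySL.exists_common hU' hc0 hc hd0 hd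
    exact hB hz hd (fun e => hdz (h2.eq_zero_symm e)) (hB hc hz hcz hy')
  exact eq_suGL_of_pure hF h1 h2 ha hb hn hHG L hbij.2 hiso
    fun x c hx hc => hmove x₀ x c₀ c hx₀ hx hc₀ hc hx₀0 hc₀0 hbase

end Cfsg.Agent.Lib.TensorForm
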